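import Groth.Agent.Lib.GExistH7.Quot

/-!
Systems of quotients, algebraizations and full faithfulness of completion.
-/

set_option autoImplicit false
set_option linter.style.haveILetI false
set_option backward.isDefEq.respectTransparency false

universe u

open CategoryTheory CategoryTheory.Limits AlgebraicGeometry Opposite

namespace Groth.Agent.GExistH7

open Groth.Agent.FormalH7

variable {A : Type u} [CommRing A] {X : Scheme.{u}} [X.Over (Spec (CommRingCat.of A))]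

theorem IsQuot.trans_sup {L L' : Ideal A} {M N P : X.Modules} {p : M ⟶ N} {q : N ⟶ P} (hp : IsQuot L p)
    (hq : IsQuot L' q) : IsQuot (L ⊔ L') (p ≫ q) := by
  haveI := hp.epi
  haveI := hq.epi
  refine ⟨epi_comp _ _, smul_sup_comp_eq_zero _ (fun a ha => by rw [← Category.assoc, hp.smul a ha, zero_comp])
    (fun a ha => by rw [smulMod_naturality_assoc, hq.smul a ha, comp_zero]), fun {T} φ hφ => ?_⟩
  obtain ⟨φ₁, rfl⟩ := hp.desc φ fun a ha => hφ a (Submodule.mem_sup_left ha)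
  obtain ⟨φ₂, rfl⟩ := hq.desc φ₁ fun a ha => (cancel_epi p).1
    (by rw [← smulMod_naturality_assoc, hφ a (Submodule.mem_sup_right ha), comp_zero])
  exact ⟨φ₂, Category.assoc _ _ _⟩

theorem IsQuot.of_killed {L L' : Ideal A} {M N : X.Modules} {p : M ⟶ N} (h : IsQuot (L ⊔ L') p)
    (hM : Formal.KilledBy L M) : IsQuot L' p :=
  ⟨h.epi, fun a ha => h.smul a (Submodule.mem_sup_right ha), fun φ hφ =>
    h.desc φ (smul_sup_comp_eq_zero φ (fun a ha => by rw [hM a ha, zero_comp]) hφ)⟩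

theorem IsQuot.of_le {L L' : Ideal A} {M N : X.Modules} {p : M ⟶ N} (h : IsQuot L p) (hL : L ≤ L')
    (hN : Formal.KilledBy L' N) : IsQuot L' p :=
  ⟨h.epi, fun a ha => by rw [smulMod_naturality, hN a ha, comp_zero], fun φ hφ => h.desc φ fun a ha => hφ a (hL ha)⟩

theorem killedBy_sup {L L' : Ideal A} {M : X.Modules} (h : Formal.KilledBy L M) (h' : Formal.KilledBy L' M) :
    Formal.KilledBy (L ⊔ L') M := fun a ha => by
  have := smul_sup_comp_eq_zero (𝟙 M) (fun b hb => by rw [h b hb, zero_comp])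
    (fun b hb => by rw [h' b hb, zero_comp]) a ha
  rwa [Category.comp_id] at this

theorem killedBy_span {S : Set A} {M : X.Modules} (h : ∀ a ∈ S, Formal.smulMod A M a = 0) :
    Formal.KilledBy (Ideal.span S) M := fun a ha => by
  have := smul_span_comp_eq_zero (𝟙 M) (fun b hb => by rw [h b hb, zero_comp]) a ha
  rwa [Category.comp_id] at this

theorem killedBy_span_pow {x : A} {n : ℕ} {M : X.Modules} (h : Formal.smulMod A M (x ^ n) = 0) :
    Formal.KilledBy (Ideal.span {x} ^ n) M := by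
  rw [Ideal.span_singleton_pow]
  exact killedBy_span (by simpa using h)

/-- A coherent system of quotients. -/
structure IsSys (I : Ideal A) (G : ℕᵒᵖ ⥤ X.Modules) : Prop where
  coh : ∀ n, Coh.IsCoh (G.obj (op n))
  killed : ∀ n, Formal.KilledBy (I ^ (n + 1)) (G.obj (op n))
  quot : ∀ n, IsQuot (I ^ (n + 1)) (gm G (Nat.le_succ n))

theorem isSys_of_isCohFormal {I : Ideal A} {G : ℕᵒᵖ ⥤ X.Modules} (h : Formal.IsCohFormal I G) : IsSys I G := by
  refine ⟨h.1, h.2.1, fun n => ?_⟩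
  obtain ⟨w, hw⟩ := h.2.2 n
  exact isQuot_of_isIso_desc w hw

theorem IsSys.isCohFormal {I : Ideal A} {G : ℕᵒᵖ ⥤ X.Modules} (h : IsSys I G) : Formal.IsCohFormal I G :=
  ⟨h.coh, h.killed, fun n => (h.quot n).isIso_desc⟩

theorem IsSys.quot_gm {I : Ideal A} {G : ℕᵒᵖ ⥤ X.Modules} (hG : IsSys I G) {n m : ℕ} (h : n ≤ m) :
    IsQuot (I ^ (n + 1)) (gm G h) := by
  induction m, h using Nat.le_induction with
  | base =>
    rw [gm_refl]
    exact ⟨inferInstance, fun a ha => by rw [hG.killed n a ha, zero_comp],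
      fun φ _ => ⟨φ, Category.id_comp φ⟩⟩
  | succ m h ih =>
    rw [← gm_comp G h (Nat.le_succ m)]
    exact (hG.quot m).trans ih (Ideal.pow_le_pow_right (by omega))

theorem gm_ofOpSequence {M : ℕ → X.Modules} (t : ∀ n, M (n + 1) ⟶ M n) (n : ℕ) :
    gm (Functor.ofOpSequence (X := M) t) (Nat.le_succ n) = t n :=
  Functor.ofOpSequence_map_homOfLE_succ t n

theorem isSys_ofOpSequence {I : Ideal A} {M : ℕ → X.Modules} (t : ∀ n, M (n + 1) ⟶ M n)
    (hM : ∀ n, Coh.IsCoh (M n)) (hk : ∀ n, Formal.KilledBy (I ^ (n + 1)) (M n))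
    (hq : ∀ n, IsQuot (I ^ (n + 1)) (t n)) : IsSys I (Functor.ofOpSequence (X := M) t) :=
  ⟨hM, hk, fun n => (hq n).of_eq (gm_ofOpSequence t n).symm⟩

/-- An algebraization of a system. -/
def Algebraizable (I : Ideal A) (G : ℕᵒᵖ ⥤ X.Modules) : Prop :=
  ∃ (M : X.Modules) (χ : ∀ n, M ⟶ G.obj (op n)), Coh.IsCoh M ∧ (∀ n, IsQuot (I ^ (n + 1)) (χ n)) ∧
    ∀ n, χ (n + 1) ≫ gm G (Nat.le_succ n) = χ n

theorem Algebraizable.exists_iso {I : Ideal A} {G : ℕᵒᵖ ⥤ X.Modules} (h : Algebraizable I G) :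
    ∃ M : X.Modules, Coh.IsCoh M ∧ Nonempty (Formal.completion I M ≅ G) := by
  obtain ⟨M, χ, hM, hq, hc⟩ := h
  choose e he using fun n => (isQuot_modPowπ I (n + 1) M).exists_iso (hq n)
  let α : Formal.completion I M ⟶ G := NatTrans.ofOpSequence (fun n => (e n).hom) fun n => by
    refine (isQuot_modPowπ I (n + 1 + 1) M).hom_ext ?_
    simp only [Formal.completion, Functor.ofOpSequence_map_homOfLE_succ]
    rw [← Category.assoc, Formal.modPowπ_trans, he]
    exact (hc n).symm.trans ((congrArg (· ≫ _) (he (n + 1)).symm).trans (Category.assoc _ _ _))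
  haveI : ∀ k, IsIso (α.app k) := fun ⟨n⟩ => inferInstanceAs (IsIso (e n).hom)
  haveI : IsIso α := NatIso.isIso_of_isIso_app α
  exact ⟨M, hM, ⟨asIso α⟩⟩

/-- A compatible family of maps to the quotients of a module. -/
def IsCompat {M N : X.Modules} {Q : ℕ → X.Modules} (χ : ∀ n, N ⟶ Q n) (f : ∀ n, M ⟶ Q n) : Prop :=
  ∀ n, ∀ s : Q (n + 1) ⟶ Q n, χ (n + 1) ≫ s = χ n → f (n + 1) ≫ s = f n

/-- Completion along `J` is fully faithful on a class of modules. -/
def FFaith (P : X.Modules → Prop) (J : Ideal A) : Prop :=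
  ∀ (M N : X.Modules), P M → P N → ∀ (Q : ℕ → X.Modules) (χ : ∀ n, N ⟶ Q n),
    (∀ n, IsQuot (J ^ (n + 1)) (χ n)) → ∀ f : ∀ n, M ⟶ Q n, IsCompat χ f → ∃! ψ : M ⟶ N, ∀ n, ψ ≫ χ n = f n

theorem isCompat_comp {M N : X.Modules} {Q : ℕ → X.Modules} (χ : ∀ n, N ⟶ Q n) (u : M ⟶ N) :
    IsCompat χ (fun n => u ≫ χ n) := fun n s hs => by rw [Category.assoc, hs]

theorem FFaith.hom_ext {P : X.Modules → Prop} {J : Ideal A} (h : FFaith P J) {M N : X.Modules} (hM : P M) (hN : P N)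
    {Q : ℕ → X.Modules} {χ : ∀ n, N ⟶ Q n} (hχ : ∀ n, IsQuot (J ^ (n + 1)) (χ n)) {u v : M ⟶ N}
    (e : ∀ n, u ≫ χ n = v ≫ χ n) : u = v :=
  (h M N hM hN Q χ hχ _ (isCompat_comp χ v)).unique e fun _ => rfl

theorem FFaith.exists_lift {P : X.Modules → Prop} {J : Ideal A} (h : FFaith P J) {M N : X.Modules} (hM : P M)
    (hN : P N) {Q : ℕ → X.Modules} {χ : ∀ n, N ⟶ Q n} (hχ : ∀ n, IsQuot (J ^ (n + 1)) (χ n))
    (s : ∀ n, Q (n + 1) ⟶ Q n) (hs : ∀ n, χ (n + 1) ≫ s n = χ n) (f : ∀ n, M ⟶ Q n)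
    (hf : ∀ n, f (n + 1) ≫ s n = f n) : ∃ ψ : M ⟶ N, ∀ n, ψ ≫ χ n = f n :=
  (h M N hM hN Q χ hχ f fun n t ht => by
    have : t = s n := (hχ (n + 1)).hom_ext (ht.trans (hs n).symm)
    rw [this, hf n]).exists

/-- Full faithfulness in terms of `Formal.completion` gives it in terms of quotient maps. -/
theorem fFaith_of_completion {P : X.Modules → Prop} {J : Ideal A}
    (h : ∀ (M N : X.Modules), P M → P N → ∀ ψ : Formal.completion J M ⟶ Formal.completion J N,
      ∃! φ : M ⟶ N, ∀ n : ℕ, Formal.modPowπ J (n + 1) M ≫ ψ.app (op n) = φ ≫ Formal.modPowπ J (n + 1) N) :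
    FFaith P J := by
  intro M N hM hN Q χ hχ f hf
  choose e he using fun n => (isQuot_modPowπ J (n + 1) N).exists_iso (hχ n)
  choose g hg using fun n => (isQuot_modPowπ J (n + 1) M).desc_killed (f n ≫ (e n).inv)
    (isQuot_modPowπ J (n + 1) N).killed
  have hcompat : ∀ n, Formal.modPowTrans J (n + 1) M ≫ g n = g (n + 1) ≫ Formal.modPowTrans J (n + 1) N := by
    intro n
    have h1 : χ (n + 1) ≫ (e (n + 1)).inv ≫ Formal.modPowTrans J (n + 1) N ≫ (e n).hom = χ n := by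
      rw [← he (n + 1)]
      simp only [Category.assoc, Iso.hom_inv_id_assoc]
      rw [← Category.assoc, Formal.modPowπ_trans, he]
    refine (isQuot_modPowπ J (n + 1 + 1) M).hom_ext ?_
    rw [← Category.assoc, Formal.modPowπ_trans, hg, ← Category.assoc, hg, ← hf n _ h1]
    simp
  let ψ : Formal.completion J M ⟶ Formal.completion J N := NatTrans.ofOpSequence g fun n => by
    simp only [Formal.completion, Functor.ofOpSequence_map_homOfLE_succ]
    exact hcompat n
  obtain ⟨φ, hφ, huniq⟩ := h M N hM hN ψ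
  refine ⟨φ, fun n => ?_, fun φ' hφ' => huniq φ' fun n => ?_⟩
  · have h1 : Formal.modPowπ J (n + 1) M ≫ g n = φ ≫ Formal.modPowπ J (n + 1) N := hφ n
    rw [← he n, ← Category.assoc, ← h1, hg, Category.assoc, Iso.inv_hom_id, Category.comp_id]
  · show Formal.modPowπ J (n + 1) M ≫ g n = _
    rw [hg, ← hφ' n, Category.assoc, ← he n, Category.assoc, Iso.hom_inv_id, Category.comp_id]

end Groth.Agent.GExistH7
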