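import Groth.Agent.Lib.GExistH7.Step
import Groth.Agent.Lib.ProjSpace.BaseChange

/-!
Existence with proper support, by induction on closed subsets.
-/

set_option autoImplicit false
set_option linter.style.haveILetI false
set_option backward.isDefEq.respectTransparency false

universe u

open CategoryTheory CategoryTheory.Limits AlgebraicGeometry Opposite TopologicalSpace

namespace Groth.Agent.GExistH7

open Groth.Agent.FormalH7

variable {A : Type u} [CommRing A] {X : Scheme.{u}} [X.Over (Spec (CommRingCat.of A))]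

theorem algAll_of_isEmpty [IsEmpty X] (P : X.Modules → Prop) (I : Ideal A) : AlgAll P I := by
  intro G _ hGP
  have hz : ∀ M : X.Modules, 𝟙 M = 0 := fun M => by
    refine Scheme.Modules.hom_ext _ _ fun V => ?_
    ext t
    exact M1.section_ext (M := M) _ _ fun z _ => (IsEmpty.false z).elim
  refine ⟨G.obj (op 0), fun n => 0, hGP 0, fun n => ⟨?_, fun a _ => comp_zero, fun {T} φ _ => ⟨0, ?_⟩⟩,
    fun n => zero_comp⟩
  · exact ⟨fun g h _ => by rw [← Category.id_comp g, ← Category.id_comp h, hz, zero_comp, zero_comp]⟩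
  · rw [comp_zero, ← Category.id_comp φ, hz, zero_comp]

variable [IsNoetherianRing A] [IsSeparated (X ↘ Spec (CommRingCat.of A))]
  [LocallyOfFiniteType (X ↘ Spec (CommRingCat.of A))] [QuasiCompact (X ↘ Spec (CommRingCat.of A))]

/-- Existence with proper support for a principal ideal. -/
theorem algAll_PS_principal (x : A) [IsAdicComplete (Ideal.span {x}) A] :
    AlgAll (PS A : X.Modules → Prop) (Ideal.span {x}) := by
  haveI : IsLocallyNoetherian X := LocallyOfFiniteType.isLocallyNoetherian (X ↘ Spec (CommRingCat.of A))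
  haveI : CompactSpace X := QuasiCompact.compactSpace_of_compactSpace (X ↘ Spec (CommRingCat.of A))
  haveI : IsNoetherian X := ⟨⟩
  suffices h : ∀ (T : Closeds X) (Y : Scheme.{u}) [Y.Over (Spec (CommRingCat.of A))] (k : Y ⟶ X) [IsClosedImmersion k],
      k ≫ (X ↘ Spec (CommRingCat.of A)) = Y ↘ Spec (CommRingCat.of A) → Set.range k ⊆ (T : Set X) →
        AlgAll (PS A : Y.Modules → Prop) (Ideal.span {x}) from
    h ⊤ X (𝟙 X) (Category.id_comp _) (fun _ _ => trivial)
  intro T
  induction T using WellFoundedLT.induction with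
  | ind T ih =>
    intro Y _ k _ hk hT
    haveI : IsSeparated (Y ↘ Spec (CommRingCat.of A)) := by rw [← hk]; infer_instance
    haveI : LocallyOfFiniteType (Y ↘ Spec (CommRingCat.of A)) := by rw [← hk]; infer_instance
    haveI : QuasiCompact (Y ↘ Spec (CommRingCat.of A)) := by rw [← hk]; infer_instance
    rcases isEmpty_or_nonempty Y with hY | hY
    · exact algAll_of_isEmpty _ _
    obtain ⟨n, Y', π, j, hj, hjb, hπ, -, U, hU, hiso⟩ :=
      Groth.Agent.S0025.result (Y ↘ Spec (CommRingCat.of A))
    haveI := hj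
    haveI := hπ
    haveI := hiso
    refine algAll_step π n (j ≫ (ProjSpace.overSpecIso n A).inv) ?_ U fun Z _ l _ hl hlU => ?_
    · rw [← ProjSpace.overSpecIso_hom_toBase, Category.assoc, Iso.inv_hom_id_assoc, hjb]
    let T' : Closeds X := ⟨k '' (U : Set Y)ᶜ, k.isClosedMap _ U.2.isClosed_compl⟩
    have hlt : T' < T := by
      obtain ⟨z, hz⟩ := hU.nonempty
      refine lt_of_le_of_ne (fun w hw => ?_) fun he => ?_
      · obtain ⟨y, -, rfl⟩ := hw
        exact hT ⟨y, rfl⟩
      · obtain ⟨y, hy, e⟩ := (show k z ∈ (T' : Set X) from he ▸ hT ⟨z, rfl⟩)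
        exact hy (k.isClosedEmbedding.injective e ▸ hz)
    refine ih T' hlt Z (l ≫ k) (by rw [Category.assoc, hk, hl]) ?_
    rintro w ⟨y, rfl⟩
    exact ⟨l y, hlU ⟨y, rfl⟩, (Scheme.Hom.comp_apply _ _ _).symm⟩

/-- Existence with proper support. -/
theorem algAll_PS_main (I : Ideal A) [IsAdicComplete I A] : AlgAll (PS A : X.Modules → Prop) I :=
  algAll_PS I fun x hx => by
    haveI := CT6.isAdicComplete_of_le (I := I) (J := Ideal.span {x}) ((Ideal.span_singleton_le_iff_mem I).2 hx)
    exact algAll_PS_principal x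

omit [IsNoetherianRing A] [IsSeparated (X ↘ Spec (CommRingCat.of A))]
  [LocallyOfFiniteType (X ↘ Spec (CommRingCat.of A))] [QuasiCompact (X ↘ Spec (CommRingCat.of A))] in
/-- Quotients of a module by all powers give its completion. -/
theorem completion_iso_of_quot {I : Ideal A} {G : ℕᵒᵖ ⥤ X.Modules} {M : X.Modules} (χ : ∀ n, M ⟶ G.obj (op n))
    (hq : ∀ n, IsQuot (I ^ (n + 1)) (χ n)) (hc : ∀ n, χ (n + 1) ≫ gm G (Nat.le_succ n) = χ n) :
    Nonempty (Formal.completion I M ≅ G) := by
  choose e he using fun n => (isQuot_modPowπ I (n + 1) M).exists_iso (hq n)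
  let α : Formal.completion I M ⟶ G := NatTrans.ofOpSequence (fun n => (e n).hom) fun n => by
    refine (isQuot_modPowπ I (n + 1 + 1) M).hom_ext ?_
    simp only [Formal.completion, Functor.ofOpSequence_map_homOfLE_succ]
    rw [← Category.assoc, Formal.modPowπ_trans, he]
    exact (hc n).symm.trans ((congrArg (· ≫ _) (he (n + 1)).symm).trans (Category.assoc _ _ _))
  haveI : ∀ k, IsIso (α.app k) := fun ⟨n⟩ => inferInstanceAs (IsIso (e n).hom)
  haveI : IsIso α := NatIso.isIso_of_isIso_app α
  exact ⟨asIso α⟩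

end Groth.Agent.GExistH7
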