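import Mathlib.RingTheory.Filtration
import Mathlib.RingTheory.Finiteness.Ideal
import Mathlib.RingTheory.Noetherian.Basic
import Mathlib.LinearAlgebra.TensorProduct.Quotient

/-!
Commutative algebra for comparing a module with an algebraic one away from a closed set, and for base change
to a ring with the same quotient.
-/

set_option autoImplicit false

universe u

open TensorProduct

namespace Groth.Agent.GExistH7

variable {R : Type u} [CommRing R] [IsNoetherianRing R]

theorem exists_pow_smul_eq_zero {N : Type u} [AddCommGroup N] [Module R N] [Module.Finite R N] (S : Set R)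
    (h : ∀ g ∈ S, ∀ y : N, ∃ n : ℕ, g ^ n • y = 0) : ∃ e : ℕ, ∀ k ∈ Ideal.span S ^ e, ∀ y : N, k • y = 0 := by
  have hr : Ideal.span S ≤ (Module.annihilator R N).radical := by
    refine Ideal.span_le.2 ?_
    intro g hg
    obtain ⟨T, hT⟩ := Module.Finite.fg_top (R := R) (M := N)
    choose n hn using fun t : T => h g hg t.1
    refine ⟨Finset.univ.sup n, Module.mem_annihilator.2 fun y => ?_⟩
    have hy : y ∈ Submodule.span R (T : Set N) := hT ▸ Submodule.mem_top
    induction hy using Submodule.span_induction with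
    | mem t ht =>
      obtain ⟨d, hd⟩ := Nat.exists_eq_add_of_le (Finset.le_sup (f := n) (Finset.mem_univ ⟨t, ht⟩))
      rw [hd, add_comm, pow_add, mul_smul, hn ⟨t, ht⟩, smul_zero]
    | zero => rw [smul_zero]
    | add a b _ _ ha hb => rw [smul_add, ha, hb, add_zero]
    | smul c a _ ha => rw [smul_comm, ha, smul_zero]
  obtain ⟨e, he⟩ := Ideal.exists_pow_le_of_le_radical_of_fg hr (IsNoetherian.noetherian (Ideal.span S))
  exact ⟨e, fun k hk y => Module.mem_annihilator.1 (he hk) y⟩

/-- Injectivity up to a shift and a cokernel killed by a power, for a map which is bijective off `V(K)`. -/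
theorem exists_local_bounds {M H : Type u} [AddCommGroup M] [Module R M] [Module.Finite R M] [AddCommGroup H]
    [Module R H] [Module.Finite R H] (h : M →ₗ[R] H) (x : R) (S : Set R)
    (hker : ∀ g ∈ S, ∀ y, h y = 0 → ∃ n : ℕ, g ^ n • y = 0)
    (hcok : ∀ g ∈ S, ∀ z, ∃ (n : ℕ) (y : M), g ^ n • z = h y) :
    ∃ e : ℕ, (∀ k ∈ Ideal.span S ^ e, ∀ z, ∃ y, k • z = h y) ∧
      ∃ m₀ : ℕ, ∀ m, m₀ ≤ m → ∃ d : ℕ, ∀ (k : ℕ) (y : M),
        y ∈ (Ideal.span S ^ m • ⊤ : Submodule R M) ⊔ (Ideal.span {x} ^ (k + d + 1) • ⊤ : Submodule R M) →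
          h y ∈ (Ideal.span {x} ^ (k + d + 1) • ⊤ : Submodule R H) →
            y ∈ (Ideal.span {x} ^ (k + 1) • ⊤ : Submodule R M) := by
  obtain ⟨e₁, he₁⟩ := exists_pow_smul_eq_zero (N := LinearMap.ker h) S fun g hg y => by
    obtain ⟨n, hn⟩ := hker g hg y.1 y.2
    exact ⟨n, Subtype.ext hn⟩
  obtain ⟨e₂, he₂⟩ := exists_pow_smul_eq_zero (N := H ⧸ LinearMap.range h) S fun g hg z => by
    obtain ⟨z, rfl⟩ := Submodule.mkQ_surjective _ z
    obtain ⟨n, y, hy⟩ := hcok g hg z
    exact ⟨n, by rw [Submodule.mkQ_apply, ← Submodule.Quotient.mk_smul, Submodule.Quotient.mk_eq_zero]; exact ⟨y, hy.symm⟩⟩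
  refine ⟨e₂, fun k hk z => ?_, ?_⟩
  · have := he₂ k hk (Submodule.Quotient.mk z)
    rw [← Submodule.Quotient.mk_smul, Submodule.Quotient.mk_eq_zero] at this
    obtain ⟨y, hy⟩ := this
    exact ⟨y, hy.symm⟩
  set K := Ideal.span S with hK
  obtain ⟨c, hc⟩ := K.exists_pow_inf_eq_pow_smul (LinearMap.ker h)
  refine ⟨c + e₁, fun m hm => ?_⟩
  have hzero : ∀ y : M, y ∈ (K ^ m • ⊤ : Submodule R M) → h y = 0 → y = 0 := by
    intro y hy hy'
    have h1 : y ∈ K ^ (m - c) • (K ^ c • ⊤ ⊓ LinearMap.ker h) := (hc m (by omega)) ▸ ⟨hy, hy'⟩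
    have h2 : y ∈ K ^ (m - c) • LinearMap.ker h := Submodule.smul_mono le_rfl inf_le_right h1
    refine Submodule.smul_induction_on h2 (fun a ha b hb => ?_) fun a b ha hb => by rw [ha, hb, add_zero]
    exact congrArg Subtype.val (he₁ a (Ideal.pow_le_pow_right (by omega) ha) ⟨b, hb⟩)
  let W : M →ₗ[R] (M ⧸ (K ^ m • ⊤ : Submodule R M)) × H := (Submodule.mkQ _).prod h
  have hW : ∀ y, W y = 0 → y = 0 := fun y hy =>
    hzero y ((Submodule.Quotient.mk_eq_zero _).1 (congrArg Prod.fst hy)) (congrArg Prod.snd hy)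
  obtain ⟨d, hd⟩ := (Ideal.span {x}).exists_pow_inf_eq_pow_smul (LinearMap.range W)
  refine ⟨d, fun k y hy₁ hy₂ => ?_⟩
  have hWy : W y ∈ (Ideal.span {x} ^ (k + d + 1) • ⊤ : Submodule R ((M ⧸ (K ^ m • ⊤ : Submodule R M)) × H)) := by
    obtain ⟨a, ha, b, hb, rfl⟩ := Submodule.mem_sup.1 hy₁
    rw [Ideal.span_singleton_pow, Submodule.ideal_span_singleton_smul,
      Submodule.mem_smul_pointwise_iff_exists] at hb hy₂ ⊢
    obtain ⟨b', -, rfl⟩ := hb
    obtain ⟨z, -, hz⟩ := hy₂
    refine ⟨(Submodule.Quotient.mk b', z), trivial, Prod.ext ?_ ?_⟩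
    · show x ^ (k + d + 1) • Submodule.Quotient.mk b' = Submodule.Quotient.mk (a + x ^ (k + d + 1) • b')
      rw [Submodule.Quotient.mk_add, (Submodule.Quotient.mk_eq_zero _).2 ha, zero_add, Submodule.Quotient.mk_smul]
    · exact hz
  have h3 : W y ∈ Ideal.span {x} ^ (k + d + 1 - d) •
      (Ideal.span {x} ^ d • ⊤ ⊓ LinearMap.range W) := (hd (k + d + 1) (by omega)) ▸ ⟨hWy, ⟨y, rfl⟩⟩
  have h4 : W y ∈ Ideal.span {x} ^ (k + 1) • LinearMap.range W := by
    rw [show k + d + 1 - d = k + 1 by omega] at h3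
    exact Submodule.smul_mono le_rfl inf_le_right h3
  rw [Ideal.span_singleton_pow, Submodule.ideal_span_singleton_smul,
    Submodule.mem_smul_pointwise_iff_exists] at h4 ⊢
  obtain ⟨_, ⟨y', rfl⟩, hy'⟩ := h4
  refine ⟨y', trivial, (sub_eq_zero.1 (hW _ ?_)).symm⟩
  rw [map_sub, map_smul, hy', sub_self]

omit [IsNoetherianRing R] in
/-- Tensoring with a ring having the same quotient does nothing to a module killed by the ideal. -/
theorem bijective_one_tmul_of_killed {S : Type u} [CommRing S] [Algebra R S] {M : Type u} [AddCommGroup M]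
    [Module R M] (J : Ideal R) (hk : ∀ r ∈ J, ∀ m : M, r • m = 0)
    (hs : ∀ s : S, ∃ r : R, s - algebraMap R S r ∈ J.map (algebraMap R S))
    (hi : ∀ r : R, algebraMap R S r ∈ J.map (algebraMap R S) → r ∈ J) :
    Function.Bijective (fun m : M => (1 : S) ⊗ₜ[R] m) := by
  have hz : ∀ s ∈ J.map (algebraMap R S), ∀ m : M, s ⊗ₜ[R] m = 0 := by
    intro s hs' m
    induction hs' using Submodule.span_induction with
    | mem s hs' =>
      obtain ⟨r, hr, rfl⟩ := hs'
      rw [Algebra.algebraMap_eq_smul_one, TensorProduct.smul_tmul, hk r hr, TensorProduct.tmul_zero]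
    | zero => rw [TensorProduct.zero_tmul]
    | add a b _ _ ha hb => rw [TensorProduct.add_tmul, ha, hb, add_zero]
    | smul c a _ ha =>
      have e : (c * a) ⊗ₜ[R] m = c • (a ⊗ₜ[R] m) := (TensorProduct.smul_tmul' c a m).symm
      rw [smul_eq_mul, e, ha, smul_zero]
  choose σ hσ using hs
  refine ⟨?_, fun w => ?_⟩
  · let g : S ⊗[R] M →ₗ[R] M := TensorProduct.lift (LinearMap.mk₂ R (fun s m => σ s • m)
      (fun a b m => by
        rw [← add_smul, ← sub_eq_zero, ← sub_smul]
        refine hk _ (hi _ ?_) m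
        rw [map_sub, map_add]
        have := Ideal.sub_mem _ (Ideal.add_mem _ (hσ a) (hσ b)) (hσ (a + b))
        convert this using 1
        ring)
      (fun r a m => by
        rw [← mul_smul, ← sub_eq_zero, ← sub_smul]
        refine hk _ (hi _ ?_) m
        rw [map_sub, map_mul]
        have := Ideal.sub_mem _ (Ideal.mul_mem_left _ (algebraMap R S r) (hσ a)) (hσ (r • a))
        convert this using 1
        rw [Algebra.smul_def]
        ring)
      (fun a m m' => smul_add _ _ _) (fun r a m => smul_comm _ _ _))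
    intro m m' h
    have := congrArg g h
    have h1 : ∀ m : M, σ 1 • m = m := fun m => by
      rw [← sub_eq_zero, ← show (σ 1 - 1) • m = σ 1 • m - m by rw [sub_smul, one_smul]]
      refine hk _ (hi _ ?_) m
      rw [map_sub, map_one]
      have := Ideal.neg_mem_iff _ |>.2 (hσ 1)
      rwa [neg_sub] at this
    simpa [g, h1] using this
  · induction w using TensorProduct.induction_on with
    | zero => exact ⟨0, TensorProduct.tmul_zero _ _⟩
    | tmul s m =>
      refine ⟨σ s • m, ?_⟩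
      have := hz _ (hσ s) m
      rw [TensorProduct.sub_tmul, sub_eq_zero, Algebra.algebraMap_eq_smul_one, TensorProduct.smul_tmul] at this
      exact this.symm
    | add a b ha hb =>
      obtain ⟨p, rfl⟩ := ha
      obtain ⟨q, rfl⟩ := hb
      exact ⟨p + q, TensorProduct.tmul_add _ _ _⟩

end Groth.Agent.GExistH7
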