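import Groth.Agent.Lib.GExistH7.Principal
import Groth.Agent.Lib.CohFound.SerreVan
import Groth.Agent.Lib.TensorNat17.Basic

/-!
Liftings out of sums of negative twists on projective space.
-/

set_option autoImplicit false
set_option linter.style.haveILetI false
set_option backward.isDefEq.respectTransparency false

universe u

open CategoryTheory CategoryTheory.Limits AlgebraicGeometry Opposite TopologicalSpace MvPolynomial

namespace Groth.Agent.GExistH7

open Groth.Agent.CohFound Groth.Agent.CohFound.ProjNum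

theorem exists_lift_of_vanish {X : Scheme.{u}} {D L : X.Modules} (hL : PicF.IsInvertible L)
    (e : CohB1.tensorMod D L ≅ Coh.structureModule X) (e' : CohB1.tensorMod L D ≅ Coh.structureModule X)
    (S : ShortComplex X.Modules) (hS : S.ShortExact)
    (hv : Subsingleton (Hc ((abF X).obj (CohB1.tensorMod S.X₁ L)) 1 ⊤)) (f : D ⟶ S.X₃) :
    ∃ g : D ⟶ S.X₂, g ≫ S.g = f := by
  have hT := shortExact_abF (shortExact_tensor_invertible hS hL)
  let T := (S.map (M2.tensorR L)).map (abF X)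
  let fL : Coh.structureModule X ⟶ CohB1.tensorMod S.X₃ L := e.inv ≫ M2.tensorMap f (𝟙 L)
  let s : Γ(CohB1.tensorMod S.X₃ L, ⊤) := fL.app ⊤ (M1.one ⊤)
  let x : Hc T.X₃ 0 ⊤ := (hc0 T.X₃ ⊤).symm s
  obtain ⟨y, hy⟩ := exact₃ hT 0 ⊤ x (@Subsingleton.elim _ hv _ _)
  let t : Γ(CohB1.tensorMod S.X₂ L, ⊤) := hc0 T.X₂ ⊤ y
  have ht : (M2.tensorMap S.g (𝟙 L)).app ⊤ t = s := by
    have h1 := hc0_mp T.g ⊤ y
    rw [hy] at h1
    exact h1.symm.trans ((hc0 T.X₃ ⊤).apply_symm_apply s)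
  have hh : M1.secHom t ≫ M2.tensorMap S.g (𝟙 L) = fL := by
    rw [M1.secHom_comp, ht]
    exact M1.unit_hom_ext (M1.secHom_app_one _)
  refine ⟨(M2.untwist e' D).inv ≫ M2.tensorMap (e.hom ≫ M1.secHom t) (𝟙 D) ≫ (M2.untwist e' S.X₂).hom, ?_⟩
  rw [Category.assoc, Category.assoc, ← M2.untwist_natural e' S.g,
    ← Category.assoc (M2.tensorMap (e.hom ≫ M1.secHom t) (𝟙 D)), ← M2.tensorMap_comp, Category.assoc, hh,
    Category.comp_id, show e.hom ≫ fL = M2.tensorMap f (𝟙 L) from e.hom_inv_id_assoc _,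
    M2.untwist_natural, Iso.inv_hom_id_assoc]

variable (n : ℕ) (R : Type u) [CommRing R] [IsNoetherianRing R]

local notation "GR" => CohB1.polyGrading n R

theorem lifts_proj : Lifts (fun M : (Proj GR).Modules => Coh.IsCoh M) := by
  intro F hF m Q hQ
  haveI := isLocallyNoetherian_projSpace n R
  have hcov := Groth.Agent.Twist.iSup_basicOpen_one n R
  obtain ⟨n₀, hn₀⟩ := exists_epi_twist GR (fun i : Fin (n + 1) => (MvPolynomial.X i : MvPolynomial (Fin (n + 1)) R))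
    (fun i => ProjSpace.X_mem' n R i) (ProjSpace.irrelevant_le_span n R) F hF
  choose m₀ hm₀ using fun j => ProjNum.serre_vanishing n R 1 one_pos (Q j) (hQ j)
  let d := max n₀ (Finset.univ.sup m₀)
  obtain ⟨k, π, hπ, hE⟩ := hn₀ d (le_max_left _ _)
  obtain ⟨t⟩ := Groth.Agent.Twist.nonempty_tensor_iso GR (-(d : ℤ)) (d : ℤ) hcov
  obtain ⟨t'⟩ := Groth.Agent.Twist.nonempty_tensor_iso GR (d : ℤ) (-(d : ℤ)) hcov
  obtain ⟨z⟩ := Groth.Agent.Twist.nonempty_twist_zero_iso GR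
  refine ⟨_, π, hE, hπ, fun S hS _ _ ⟨j, ⟨ej⟩⟩ f => ?_⟩
  have hL := Groth.Agent.Twist.isInvertible_twist GR hcov (d : ℤ)
  have hv := subsingleton_hc_of_iso (M2.tensorIso ej.symm (Iso.refl (_root_.Twist.twist GR (d : ℤ)))) 1 ⊤
    (hm₀ j d ((Finset.le_sup (Finset.mem_univ j)).trans (le_max_right _ _)))
  choose g hg using fun i => exists_lift_of_vanish hL
    (t ≪≫ eqToIso (congrArg (_root_.Twist.twist GR) (neg_add_cancel (d : ℤ))) ≪≫ z)
    (t' ≪≫ eqToIso (congrArg (_root_.Twist.twist GR) (add_neg_cancel (d : ℤ))) ≪≫ z) S hS hv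
    (Sigma.ι (fun _ : Fin k => _root_.Twist.twist GR (-(d : ℤ))) i ≫ f)
  exact ⟨Sigma.desc g, Sigma.hom_ext _ _ fun i => by rw [Sigma.ι_desc_assoc, hg]⟩

end Groth.Agent.GExistH7
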