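import Groth.Agent.Lib.GExistH7.Gen
import Groth.Agent.Lib.GExistH7.ProjLift
import Groth.Agent.S4473
import Groth.Agent.Lib.SerreCl8.Main
import Groth.Agent.Lib.ClImmProj14.Derived

/-!
Existence of algebraizations on projective space and its closed subschemes.
-/

set_option autoImplicit false
set_option linter.style.haveILetI false
set_option backward.isDefEq.respectTransparency false

universe u

open CategoryTheory CategoryTheory.Limits AlgebraicGeometry Opposite

namespace Groth.Agent.GExistH7

open Groth.Agent.FormalH7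

variable {A : Type u} [CommRing A] [IsNoetherianRing A]

/-- Full faithfulness on proper schemes. -/
theorem fFaith_proper {X : Scheme.{u}} [X.Over (Spec (CommRingCat.of A))] [IsProper (X ↘ Spec (CommRingCat.of A))]
    (J : Ideal A) [IsAdicComplete J A] : FFaith (fun M : X.Modules => Coh.IsCoh M) J :=
  fFaith_of_completion fun M N hM hN ψ =>
    Groth.Agent.S4473.result A J X M N hM hN
      ⟨(M1.isClosed_support hM.2).inter (M1.isClosed_support hN.2), inferInstance⟩ ψ

theorem isNoetherian_of_proper {X : Scheme.{u}} [X.Over (Spec (CommRingCat.of A))]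
    [IsProper (X ↘ Spec (CommRingCat.of A))] : IsNoetherian X :=
  haveI : IsLocallyNoetherian X := LocallyOfFiniteType.isLocallyNoetherian (X ↘ Spec (CommRingCat.of A))
  haveI : CompactSpace X := QuasiCompact.compactSpace_of_compactSpace (X ↘ Spec (CommRingCat.of A))
  {}

/-- Coherent systems are algebraizable on a proper scheme with liftings. -/
theorem algAll_of_lifts {X : Scheme.{u}} [X.Over (Spec (CommRingCat.of A))]
    [IsProper (X ↘ Spec (CommRingCat.of A))] (hL : Lifts (fun M : X.Modules => Coh.IsCoh M)) (I : Ideal A)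
    [IsAdicComplete I A] : AlgAll (fun M : X.Modules => Coh.IsCoh M) I := by
  haveI := isNoetherian_of_proper (A := A) (X := X)
  refine algAll_of_principal I (IsNoetherian.noetherian I) (fun {M N} L p hp hM => ?_) (fun _ h => h)
    (fun J hJ => by haveI := CT6.isAdicComplete_of_le (I := I) hJ; exact fFaith_proper J) fun x hx => ?_
  · obtain ⟨e, -⟩ := (isQuot_modIπ L _).exists_iso hp
    refine CohFound.isCoh_of_iso e ?_
    haveI := (isQuot_modIπ L M).epi
    exact ⟨M1.isQCoh_cokernel (SerreCl8.isQCoh_sigma _ fun _ => hM.1) hM.1 _, M1.isFT_of_epi (modIπ L _) hM.2⟩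
  · haveI := CT6.isAdicComplete_of_le (I := I) (J := Ideal.span {x}) ((Ideal.span_singleton_le_iff_mem I).2 hx)
    intro G hG hGP
    exact algebraizable_principal isClass_isCoh hL stat_isCoh (fFaith_proper _) G hG hGP

omit [IsNoetherianRing A] in
theorem isQuot_of_pullback {X Y : Scheme.{u}} [X.Over (Spec (CommRingCat.of A))] [Y.Over (Spec (CommRingCat.of A))]
    (f : X ⟶ Y) (hf : f ≫ (Y ↘ Spec (CommRingCat.of A)) = X ↘ Spec (CommRingCat.of A)) {J : Ideal A}
    {M N : Y.Modules} {p : M ⟶ N} (h : IsQuot J p) : IsQuot J ((Scheme.Modules.pullback f).map p) := by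
  obtain ⟨w, hw⟩ := h.isIso_desc
  obtain ⟨w', hw'⟩ := isQuot_pullback f hf p w hw
  exact isQuot_of_isIso_desc w' hw'

omit [IsNoetherianRing A] in
theorem isQuot_map_of_isLeftAdjoint {X Y : Scheme.{u}} [X.Over (Spec (CommRingCat.of A))]
    [Y.Over (Spec (CommRingCat.of A))] (F : X.Modules ⥤ Y.Modules) [F.IsLeftAdjoint] [F.Additive]
    (hF : ∀ (M : X.Modules) (a : A), F.map (Formal.smulMod A M a) = Formal.smulMod A (F.obj M) a) {J : Ideal A}
    {M N : X.Modules} {p : M ⟶ N} (h : IsQuot J p) : IsQuot J (F.map p) := by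
  obtain ⟨w, hw⟩ := h.isIso_desc
  have hs : ∀ a ∈ J, Formal.smulMod A (F.obj M) a ≫ F.map p = 0 := fun a ha => by
    rw [← hF, ← F.map_comp, h.smul a ha, F.map_zero]
  have hp : IsColimit (CokernelCofork.ofπ p w) := by
    refine IsColimit.ofIsoColimit (cokernelIsCokernel _) (Cocone.ext (@asIso _ _ _ _ _ hw) ?_)
    rintro (_ | _)
    · simp [w]
    · simp
  haveI : PreservesColimit (parallelPair (Formal.smulFamily J M) 0) F :=
    (Adjunction.ofIsLeftAdjoint F).leftAdjoint_preservesColimits.preservesColimitsOfShape.preservesColimit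
  haveI : PreservesColimitsOfShape (Discrete J) F :=
    (Adjunction.ofIsLeftAdjoint F).leftAdjoint_preservesColimits.preservesColimitsOfShape
  have hc := CokernelCofork.mapIsColimit _ hp F
  haveI := h.epi
  refine ⟨inferInstance, hs, fun {T} φ hφ => ?_⟩
  have h0 : F.map (Formal.smulFamily J M) ≫ φ = 0 := by
    refine Cofan.IsColimit.hom_ext
      (isColimitCofanMkObjOfIsColimit F _ _ (coproductIsCoproduct (fun _ : J => M))) _ _ fun b => ?_
    rw [comp_zero]
    show F.map (Sigma.ι (fun _ : J => M) b) ≫ _ = 0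
    simp only [← Category.assoc, ← F.map_comp, Formal.smulFamily, Sigma.ι_desc]
    rw [hF]
    exact hφ b.1 b.2
  exact ⟨hc.desc (CokernelCofork.ofπ φ h0), hc.fac (CokernelCofork.ofπ φ h0) WalkingParallelPair.one⟩

end Groth.Agent.GExistH7
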