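import Groth.Agent.Lib.GExistH7.Supp
import Groth.Agent.Lib.GExistH7.ProjExist

/-!
A system embedded in an algebraic one with algebraizable cokernel is algebraizable.
-/

set_option autoImplicit false
set_option linter.style.haveILetI false
set_option backward.isDefEq.respectTransparency false

universe u

open CategoryTheory CategoryTheory.Limits AlgebraicGeometry Opposite

namespace Groth.Agent.GExistH7

open Groth.Agent.FormalH7

variable {A : Type u} [CommRing A] {X : Scheme.{u}} [X.Over (Spec (CommRingCat.of A))]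

/-- The transition map of the quotients of a module. -/
noncomputable def tr (I : Ideal A) (E : X.Modules) (n : ℕ) :
    modI (I ^ (n + 1 + 1)) E ⟶ modI (I ^ (n + 1)) E :=
  ((isQuot_modIπ (I ^ (n + 1 + 1)) E).desc_killed (modIπ (I ^ (n + 1)) E)
    (killedBy_mono (Ideal.pow_le_pow_right (Nat.le_succ _)) (isQuot_modIπ _ _).killed)).choose

theorem π_tr (I : Ideal A) (E : X.Modules) (n : ℕ) :
    modIπ (I ^ (n + 1 + 1)) E ≫ tr I E n = modIπ (I ^ (n + 1)) E :=
  ((isQuot_modIπ (I ^ (n + 1 + 1)) E).desc_killed (modIπ (I ^ (n + 1)) E)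
    (killedBy_mono (Ideal.pow_le_pow_right (Nat.le_succ _)) (isQuot_modIπ _ _).killed)).choose_spec

/-- A compatible family of maps to the quotients of a module is a map of systems. -/
def IsFam {I : Ideal A} {G : ℕᵒᵖ ⥤ X.Modules} {E : X.Modules}
    (b : ∀ n, G.obj (op n) ⟶ modI (I ^ (n + 1)) E) : Prop :=
  ∀ n, gm G (Nat.le_succ n) ≫ b n = b (n + 1) ≫ tr I E n

theorem exists_coker_sys {I : Ideal A} {G : ℕᵒᵖ ⥤ X.Modules} {E : X.Modules} {P : X.Modules → Prop} (hP : IsClass P)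
    (hG : IsSys I G) (hGP : ∀ n, P (G.obj (op n))) (hEP : ∀ n : ℕ, P (modI (I ^ (n + 1)) E))
    (b : ∀ n, G.obj (op n) ⟶ modI (I ^ (n + 1)) E) (hb : IsFam b) :
    ∃ (v : ∀ n, cokernel (b (n + 1)) ⟶ cokernel (b n)),
      (∀ n, cokernel.π (b (n + 1)) ≫ v n = tr I E n ≫ cokernel.π (b n)) ∧
      IsSys I (Functor.ofOpSequence (X := fun n => cokernel (b n)) v) ∧ ∀ n, P (cokernel (b n)) := by
  have hw : ∀ n, b (n + 1) ≫ tr I E n ≫ cokernel.π (b n) = 0 := fun n => by
    rw [← Category.assoc, ← hb n, Category.assoc, cokernel.condition, comp_zero]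
  let v : ∀ n, cokernel (b (n + 1)) ⟶ cokernel (b n) := fun n => cokernel.desc _ _ (hw n)
  have hv : ∀ n, cokernel.π (b (n + 1)) ≫ v n = tr I E n ≫ cokernel.π (b n) := fun n => cokernel.π_desc _ _ _
  have hCP : ∀ n, P (cokernel (b n)) := fun n => hP.cokernel _ (hP.coh _ (hGP n)).1 (hEP n)
  have hk : ∀ n, Formal.KilledBy (I ^ (n + 1)) (cokernel (b n)) := fun n =>
    killedBy_of_epi (cokernel.π (b n)) (isQuot_modIπ _ _).killed
  refine ⟨v, hv, isSys_ofOpSequence v (fun n => hP.coh _ (hCP n)) hk fun n => ?_, hCP⟩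
  haveI : Epi (modIπ (I ^ (n + 1 + 1)) E ≫ tr I E n) := by rw [π_tr]; infer_instance
  haveI : Epi (tr I E n) := epi_of_epi (modIπ (I ^ (n + 1 + 1)) E) _
  haveI : Epi (cokernel.π (b (n + 1)) ≫ v n) := by rw [hv]; exact epi_comp _ _
  refine ⟨epi_of_epi (cokernel.π (b (n + 1))) _, fun a ha => by rw [smulMod_naturality, hk n a ha, comp_zero],
    fun {T} φ hφ => ?_⟩
  obtain ⟨φ₁, hφ₁⟩ := (isQuot_modIπ (I ^ (n + 1)) E).desc (modIπ _ E ≫ cokernel.π (b (n + 1)) ≫ φ) fun a ha => by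
    rw [smulMod_naturality_assoc, smulMod_naturality_assoc, hφ a ha, comp_zero, comp_zero]
  have h1 : tr I E n ≫ φ₁ = cokernel.π (b (n + 1)) ≫ φ := by
    refine (isQuot_modIπ (I ^ (n + 1 + 1)) E).hom_ext ?_
    rw [← Category.assoc, π_tr, hφ₁]
  haveI := (hG.quot n).epi
  refine ⟨cokernel.desc (b n) φ₁ ?_, ?_⟩
  · rw [← cancel_epi (gm G (Nat.le_succ n)), ← Category.assoc, hb n, Category.assoc, h1, cokernel.condition_assoc,
      zero_comp, comp_zero]
  · rw [← cancel_epi (cokernel.π (b (n + 1))), ← Category.assoc, hv, Category.assoc, cokernel.π_desc, h1]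

theorem exists_eq_smul {x : A} {n : ℕ} {M N : X.Modules} {p : M ⟶ N} (h : IsQuot (Ideal.span {x} ^ n) p)
    {W : X.Modules} (y : W ⟶ M) (hy : y ≫ p = 0) :
    ∃ (W' : X.Modules) (π : W' ⟶ W) (_ : Epi π) (z : W' ⟶ M), π ≫ y = z ≫ Formal.smulMod A M (x ^ n) := by
  rw [Ideal.span_singleton_pow] at h
  exact h.exact_span_singleton.exact_up_to_refinements y hy

/-- The principal case of algebraization inside an algebraic system. -/
theorem algebraizable_of_fam {x : A} {P : X.Modules → Prop} (hP : IsClass P) (hS : Stat P)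
    (hF : FFaith P (Ideal.span {x})) (hPq : ∀ {M N : X.Modules} (L : Ideal A) (p : M ⟶ N), IsQuot L p → P M → P N)
    {G : ℕᵒᵖ ⥤ X.Modules} (hG : IsSys (Ideal.span {x}) G) (hGP : ∀ n, P (G.obj (op n)))
    {E : X.Modules} (hE : P E) (b : ∀ n, G.obj (op n) ⟶ modI (Ideal.span {x} ^ (n + 1)) E) (hb : IsFam b)
    (hmono : ∀ k, ∃ k', ∃ (h : k ≤ k'), kernel.ι (b k') ≫ gm G h = 0)
    (hC : ∀ (v : ∀ n, cokernel (b (n + 1)) ⟶ cokernel (b n)),
      (∀ n, cokernel.π (b (n + 1)) ≫ v n = tr (Ideal.span {x}) E n ≫ cokernel.π (b n)) →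
      IsSys (Ideal.span {x}) (Functor.ofOpSequence (X := fun n => cokernel (b n)) v) →
      (∀ n, P (cokernel (b n))) →
      ∃ (C : X.Modules) (χ : ∀ n, C ⟶ cokernel (b n)), P C ∧ (∀ n, IsQuot (Ideal.span {x} ^ (n + 1)) (χ n)) ∧
        ∀ n, χ (n + 1) ≫ v n = χ n) :
    ∃ (M : X.Modules) (χ : ∀ n, M ⟶ G.obj (op n)), P M ∧
      (∀ n, IsQuot (Ideal.span {x} ^ (n + 1)) (χ n)) ∧ ∀ n, χ (n + 1) ≫ gm G (Nat.le_succ n) = χ n := by
  obtain ⟨v, hv, hvs, hvP⟩ := exists_coker_sys hP hG hGP (fun n => hPq _ _ (isQuot_modIπ _ E) hE) b hb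
  obtain ⟨C, χC, hCP, hχC, hχCc⟩ := hC v hv hvs hvP
  obtain ⟨ε, hε⟩ := hF.exists_lift hE hCP hχC v hχCc (fun n => modIπ _ E ≫ cokernel.π (b n)) fun n => by
    rw [Category.assoc, hv, ← Category.assoc, π_tr]
  have hDP : P (cokernel ε) := hP.cokernel ε (hP.coh _ hE).1 hCP
  haveI : Epi ε := by
    refine Abelian.epi_of_cokernel_π_eq_zero ε ?_
    have hid : 𝟙 (cokernel ε) = 0 := by
      refine hF.hom_ext hDP hDP (fun n => isQuot_modIπ (Ideal.span {x} ^ (n + 1)) (cokernel ε)) fun n => ?_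
      rw [Category.id_comp, zero_comp]
      obtain ⟨φ, hφ⟩ := (hχC n).desc_killed (cokernel.π ε ≫ modIπ (Ideal.span {x} ^ (n + 1)) (cokernel ε))
        (isQuot_modIπ _ _).killed
      haveI : Epi (ε ≫ χC n) := by rw [hε]; exact epi_comp _ _
      have : φ = 0 := by
        rw [← cancel_epi (ε ≫ χC n), Category.assoc, hφ, cokernel.condition_assoc, zero_comp, comp_zero]
      rw [← cancel_epi (cokernel.π ε), ← hφ, this, comp_zero, comp_zero]
    rw [← Category.comp_id (cokernel.π ε), hid, comp_zero]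
  obtain ⟨c, hc⟩ := hS C hCP (fun _ => C) (fun j => Formal.smulMod A C (x ^ j)) (fun _ => hCP) fun j => by
    rw [pow_succ, smulMod_mul', ← Category.assoc, kernel.condition, zero_comp]
  let M := kernel ε
  let ιM : M ⟶ E := kernel.ι ε
  let Im : ℕ → X.Modules := fun n => kernel (cokernel.π (b n))
  let q : ∀ n, M ⟶ Im n := fun n => kernel.lift (cokernel.π (b n)) (ιM ≫ modIπ _ E) (by
    rw [Category.assoc, ← hε n, ← Category.assoc, kernel.condition, zero_comp])
  have hq : ∀ n, q n ≫ kernel.ι _ = ιM ≫ modIπ _ E := fun n => kernel.lift_ι _ _ _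
  let bI : ∀ n, G.obj (op n) ⟶ Im n := fun n => kernel.lift (cokernel.π (b n)) (b n) (cokernel.condition _)
  have hbI : ∀ n, bI n ≫ kernel.ι _ = b n := fun n => kernel.lift_ι _ _ _
  have hbIepi : ∀ n, Epi (bI n) := fun n => inferInstanceAs (Epi (Abelian.factorThruImage (b n)))
  have hexE : ∀ (n : ℕ) {W : X.Modules} (y : W ⟶ E), y ≫ modIπ (Ideal.span {x} ^ (n + 1)) E = 0 →
      ∃ (W' : X.Modules) (π : W' ⟶ W) (_ : Epi π) (z : W' ⟶ E), π ≫ y = z ≫ Formal.smulMod A E (x ^ (n + 1)) :=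
    fun n {W} y hy => exists_eq_smul (isQuot_modIπ _ E) y hy
  have hqepi : ∀ n, Epi (q n) := by
    intro n
    rw [epi_iff_surjective_up_to_refinements]
    intro W y
    haveI := (isQuot_modIπ (Ideal.span {x} ^ (n + 1)) E).epi
    obtain ⟨W₁, π₁, hπ₁, e, he⟩ := surjective_up_to_refinements_of_epi (modIπ (Ideal.span {x} ^ (n + 1)) E)
      (y ≫ kernel.ι _)
    have h1 : (e ≫ ε) ≫ χC n = 0 := by
      rw [Category.assoc, hε, ← Category.assoc, ← he, Category.assoc, Category.assoc, kernel.condition, comp_zero,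
        comp_zero]
    obtain ⟨W₂, π₂, hπ₂, c₀, hc₀⟩ := exists_eq_smul (hχC n) (e ≫ ε) h1
    obtain ⟨W₃, π₃, hπ₃, e', he'⟩ := surjective_up_to_refinements_of_epi ε c₀
    refine ⟨W₃, π₃ ≫ π₂ ≫ π₁, epi_comp _ _,
      kernel.lift ε (π₃ ≫ π₂ ≫ e - e' ≫ Formal.smulMod A E (x ^ (n + 1))) ?_, ?_⟩
    · rw [Preadditive.sub_comp, Category.assoc, Category.assoc, hc₀, reassoc_of% he', Category.assoc,
        smulMod_naturality, sub_self]
    · rw [← cancel_mono (kernel.ι (cokernel.π (b n))), Category.assoc, Category.assoc, Category.assoc, Category.assoc,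
        hq, show π₁ ≫ y ≫ kernel.ι (cokernel.π (b n)) = e ≫ modIπ _ E from he, kernel.lift_ι_assoc,
        Preadditive.sub_comp, Category.assoc, Category.assoc, Category.assoc,
        (isQuot_modIπ _ E).smul _ (mem_span_pow x (n + 1)), comp_zero, sub_zero]
  have hker : ∀ j, c ≤ j → ∀ {W : X.Modules} (y : W ⟶ M), y ≫ q j = 0 →
      ∃ (W' : X.Modules) (π : W' ⟶ W) (_ : Epi π) (m : W' ⟶ M),
        π ≫ y = m ≫ Formal.smulMod A M (x ^ (j + 1 - c)) := by
    intro j hj W y hy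
    obtain ⟨W₁, π₁, hπ₁, z, hz⟩ := hexE j (y ≫ ιM) (by rw [Category.assoc, ← hq, reassoc_of% hy, zero_comp])
    have h1 : (z ≫ ε) ≫ Formal.smulMod A C (x ^ (j + 1)) = 0 := by
      rw [Category.assoc, ← smulMod_naturality, ← reassoc_of% hz, kernel.condition, comp_zero, comp_zero]
    have h2 : (z ≫ Formal.smulMod A E (x ^ c)) ≫ ε = 0 := by
      rw [Category.assoc, smulMod_naturality, ← Category.assoc,
        ← kernel.lift_ι (Formal.smulMod A C (x ^ (j + 1))) (z ≫ ε) h1, Category.assoc, hc (j + 1) (by omega),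
        comp_zero]
    refine ⟨W₁, π₁, hπ₁, kernel.lift ε _ h2, (cancel_mono ιM).1 ?_⟩
    rw [Category.assoc, Category.assoc, hz, smulMod_naturality, ← Category.assoc (kernel.lift ε _ h2),
      kernel.lift_ι, Category.assoc, ← smulMod_mul', ← pow_add, Nat.add_sub_cancel' (by omega)]
  have hbcomm : ∀ n m (h : n ≤ m), ∃ τ : modI (Ideal.span {x} ^ (m + 1)) E ⟶ modI (Ideal.span {x} ^ (n + 1)) E,
      modIπ _ E ≫ τ = modIπ _ E ∧ gm G h ≫ b n = b m ≫ τ := by
    intro n m h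
    induction m, h using Nat.le_induction with
    | base => exact ⟨𝟙 _, Category.comp_id _, by rw [gm_refl, Category.id_comp, Category.comp_id]⟩
    | succ m h ih =>
      obtain ⟨τ, hτ, hτ'⟩ := ih
      refine ⟨tr _ E m ≫ τ, by rw [← Category.assoc, π_tr, hτ], ?_⟩
      rw [← gm_comp G h (Nat.le_succ m), Category.assoc, hτ', ← Category.assoc, hb m, Category.assoc]
  have hmono' : ∀ k, ∃ k', ∃ (h : k ≤ k'), k + c ≤ k' ∧ kernel.ι (b k') ≫ gm G h = 0 := by
    intro k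
    obtain ⟨k', h, hk'⟩ := hmono k
    obtain ⟨τ, -, hτ⟩ := hbcomm k' (max k' (k + c)) (le_max_left _ _)
    refine ⟨max k' (k + c), h.trans (le_max_left _ _), le_max_right _ _, ?_⟩
    rw [← gm_comp G h (le_max_left k' (k + c)), ← Category.assoc,
      ← kernel.lift_ι (b k') (kernel.ι (b (max k' (k + c))) ≫ gm G (le_max_left k' (k + c)))
        (by rw [Category.assoc, hτ, kernel.condition_assoc, zero_comp]), Category.assoc, hk', comp_zero]
  choose k' hk' hkc hkk using hmono'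
  have hκ : ∀ k, ∃ κ : Im (k' k) ⟶ G.obj (op k), bI (k' k) ≫ κ = gm G (hk' k) := by
    intro k
    haveI := hbIepi (k' k)
    refine kernel_desc (bI (k' k)) _ ?_
    have e : kernel.ι (bI (k' k)) ≫ b (k' k) = 0 := by
      rw [← hbI, kernel.condition_assoc, zero_comp]
    rw [← kernel.lift_ι (b (k' k)) _ e, Category.assoc, hkk, comp_zero]
  choose κ hκ using hκ
  refine ⟨M, fun k => q (k' k) ≫ κ k, hP.kernel ε hE (hP.coh _ hCP).1, fun k => ?_, fun k => ?_⟩
  · haveI := hqepi (k' k)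
    haveI := hbIepi (k' k)
    haveI := (hG.quot_gm (hk' k)).epi
    haveI : Epi (bI (k' k) ≫ κ k) := by rw [hκ]; infer_instance
    haveI : Epi (κ k) := epi_of_epi (bI (k' k)) _
    refine ⟨epi_comp _ _, fun a ha => by rw [smulMod_naturality, hG.killed k a ha, comp_zero], fun {T} φ hφ => ?_⟩
    refine kernel_desc (q (k' k) ≫ κ k) φ ?_
    obtain ⟨W₁, π₁, hπ₁, g, hg⟩ := surjective_up_to_refinements_of_epi (bI (k' k))
      (kernel.ι (q (k' k) ≫ κ k) ≫ q (k' k))
    have h0 : g ≫ gm G (hk' k) = 0 := by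
      rw [← hκ k, ← reassoc_of% hg, kernel.condition, comp_zero]
    obtain ⟨W₂, π₂, hπ₂, g₁, hg₁⟩ := exists_preimage hG (hk' k) g h0
    obtain ⟨W₃, π₃, hπ₃, m, hm⟩ := surjective_up_to_refinements_of_epi (q (k' k)) (g₁ ≫ bI (k' k))
    let y : W₃ ⟶ M := π₃ ≫ π₂ ≫ π₁ ≫ kernel.ι (q (k' k) ≫ κ k) - m ≫ Formal.smulMod A M (x ^ (k + 1))
    have hy : y ≫ q (k' k) = 0 := by
      simp only [y, Preadditive.sub_comp, Category.assoc]
      rw [hg, reassoc_of% hg₁, smulMod_naturality, smulMod_naturality, ← reassoc_of% hm]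
      exact sub_self _
    obtain ⟨W₄, π₄, hπ₄, m', hm'⟩ := hker (k' k) ((Nat.le_add_left c k).trans (hkc k)) y hy
    have h1 : ∀ i, k + 1 ≤ i → Formal.smulMod A M (x ^ i) ≫ φ = 0 := fun i hi => by
      rw [← Nat.sub_add_cancel hi, pow_add, smulMod_mul', Category.assoc, hφ _ (mem_span_pow x (k + 1)), comp_zero]
    rw [← cancel_epi π₁, ← cancel_epi π₂, ← cancel_epi π₃, ← cancel_epi π₄]
    have h2 : π₄ ≫ y ≫ φ = 0 := by
      rw [reassoc_of% hm', h1 _ (by have := hkc k; omega), comp_zero]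
    simp only [y, Preadditive.sub_comp, Category.assoc, h1 _ le_rfl, comp_zero, sub_zero] at h2
    rw [h2]
    simp
  · haveI := hbIepi (k' (k + 1))
    obtain ⟨N, hN₁, hN₂⟩ : ∃ N, k' k ≤ N ∧ k' (k + 1) ≤ N := ⟨_, le_max_left _ _, le_max_right _ _⟩
    haveI := hbIepi N
    have key : ∀ j (h : j ≤ N), ∃ τ : Im N ⟶ Im j, q N ≫ τ = q j ∧ bI N ≫ τ = gm G h ≫ bI j := by
      intro j h
      obtain ⟨τ₀, hτ₀, hτ₀'⟩ := hbcomm j N h
      have hw : kernel.ι (cokernel.π (b N)) ≫ τ₀ ≫ cokernel.π (b j) = 0 := by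
        rw [← cancel_epi (bI N), ← Category.assoc, hbI, ← Category.assoc, ← hτ₀', Category.assoc, cokernel.condition,
          comp_zero, comp_zero]
      refine ⟨kernel.lift _ (kernel.ι (cokernel.π (b N)) ≫ τ₀) (by rw [Category.assoc, hw]),
        (cancel_mono (kernel.ι (cokernel.π (b j)))).1 ?_, (cancel_mono (kernel.ι (cokernel.π (b j)))).1 ?_⟩
      · rw [Category.assoc, kernel.lift_ι, reassoc_of% (hq N), hτ₀, hq]
      · rw [Category.assoc, kernel.lift_ι, reassoc_of% (hbI N), ← hτ₀', Category.assoc, hbI]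
    obtain ⟨τ₁, hτ₁, hτ₁'⟩ := key _ hN₁
    obtain ⟨τ₂, hτ₂, hτ₂'⟩ := key _ hN₂
    show (q (k' (k + 1)) ≫ κ (k + 1)) ≫ gm G (Nat.le_succ k) = q (k' k) ≫ κ k
    rw [← hτ₁, ← hτ₂, Category.assoc, Category.assoc, Category.assoc]
    congr 1
    rw [← cancel_epi (bI N), reassoc_of% hτ₂', reassoc_of% (hκ (k + 1)), reassoc_of% hτ₁', hκ, gm_comp, gm_comp,
      gm_comp]

end Groth.Agent.GExistH7
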