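import Groth.Agent.Lib.GExistH7.Supp
import Groth.Agent.Lib.GExistH7.LocAlg
import Groth.Agent.Lib.GExistH7.Tricky

/-!
A local model of a system over a completed ring, and what it yields for the comparison with an algebraic module.
-/

set_option autoImplicit false
set_option linter.style.haveILetI false
set_option backward.isDefEq.respectTransparency false

universe u

open CategoryTheory CategoryTheory.Limits AlgebraicGeometry Opposite

namespace Groth.Agent.GExistH7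

open Groth.Agent.FormalH7

variable {A : Type u} [CommRing A] {X X' : Scheme.{u}} [X.Over (Spec (CommRingCat.of A))]

/-- The element `x` over an open. -/
noncomputable abbrev xsec (x : A) (U : X.Opens) : Γ(X, U) := multHom X U x

/-- A comparison of the sections of a system over `U` with a finite module over a larger ring. -/
structure LocModel (π : X' ⟶ X) (x : A) (G : ℕᵒᵖ ⥤ X.Modules) (F : X'.Modules)
    (χ' : ∀ n, F ⟶ (Scheme.Modules.pullback π).obj (G.obj (op n))) (U : X.Opens) (S : Set Γ(X, U)) where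
  R : Type u
  [ring : CommRing R]
  noeth : IsNoetherianRing R
  φ : Γ(X, U) →+* R
  φ_surj : ∀ (n : ℕ) (r : R), ∃ b, r - φ b ∈ Ideal.span {φ (xsec x U)} ^ n
  M : Type u
  [addM : AddCommGroup M]
  [modM : Module R M]
  finM : Module.Finite R M
  H : Type u
  [addH : AddCommGroup H]
  [modH : Module R H]
  finH : Module.Finite R H
  q : ∀ n, M →+ Γ(G.obj (op n), U)
  q_smul : ∀ n b y, q n (φ b • y) = b • q n y
  q_surj : ∀ n, Function.Surjective (q n)
  q_ker : ∀ n y, q n y = 0 ↔ y ∈ (Ideal.span {φ (xsec x U)} ^ (n + 1) • ⊤ : Submodule R M)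
  q_gm : ∀ n y, (gm G (Nat.le_succ n)).app U (q (n + 1) y) = q n y
  ρ : Γ((Scheme.Modules.pushforward π).obj F, U) →+ H
  ρ_smul : ∀ b η, ρ (b • η) = φ b • ρ η
  ρ_surj : ∀ (n : ℕ) (z : H), ∃ η, z - ρ η ∈ (Ideal.span {φ (xsec x U)} ^ n • ⊤ : Submodule R H)
  ρ_inj : ∀ (n : ℕ) η, ρ η ∈ (Ideal.span {φ (xsec x U)} ^ n • ⊤ : Submodule R H) →
    η ∈ (Ideal.span {xsec x U} ^ n • ⊤ : Submodule Γ(X, U) Γ((Scheme.Modules.pushforward π).obj F, U))
  h : M →ₗ[R] H
  rel : ∀ n y η, h y - ρ η ∈ (Ideal.span {φ (xsec x U)} ^ (n + 1) • ⊤ : Submodule R H) →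
    ((Scheme.Modules.pushforward π).map (χ' n)).app U η =
      ((Scheme.Modules.pullbackPushforwardAdjunction π).unit.app (G.obj (op n))).app U (q n y)
  hker : ∀ g ∈ S, ∀ y, h y = 0 → ∃ n : ℕ, φ g ^ n • y = 0
  hcok : ∀ g ∈ S, ∀ z, ∃ (n : ℕ) (y : M), φ g ^ n • z = h y

attribute [instance] LocModel.ring LocModel.addM LocModel.modM LocModel.addH LocModel.modH

variable {π : X' ⟶ X} {x : A} {G : ℕᵒᵖ ⥤ X.Modules} {F : X'.Modules}
  {χ' : ∀ n, F ⟶ (Scheme.Modules.pullback π).obj (G.obj (op n))} {U : X.Opens} {S : Set Γ(X, U)}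

theorem multHom_span_pow (x : A) (U : X.Opens) (n : ℕ) :
    (Ideal.span {x} ^ n).map (multHom X U) = Ideal.span {xsec x U} ^ n := by
  rw [Ideal.map_pow, Ideal.map_span, Set.image_singleton]

theorem app_eq_zero_of_smul {x : A} {n : ℕ} {M N : X.Modules} (p : M ⟶ N)
    (hp : IsQuot (Ideal.span {x} ^ n) p) {U : X.Opens} {s : Γ(M, U)}
    (hs : s ∈ (Ideal.span {xsec x U} ^ n • ⊤ : Submodule Γ(X, U) Γ(M, U))) : p.app U s = 0 := by
  refine Submodule.smul_induction_on hs (fun r hr m _ => ?_) fun a b ha hb => by rw [map_add, ha, hb, add_zero]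
  rw [Ideal.span_singleton_pow, Ideal.mem_span_singleton'] at hr
  obtain ⟨c, rfl⟩ := hr
  rw [mul_smul, Scheme.Modules.Hom.app_smul]
  have h1 : p.app U (xsec x U ^ n • m) = 0 := by
    have h := congrArg (fun φ => φ.app U m) (hp.smul (x ^ n) (mem_span_pow x n))
    rw [← map_pow]
    exact h
  rw [h1, smul_zero]

theorem mem_smul_of_app_zero {x : A} {n : ℕ} {M N : X.Modules} (hM : Coh.IsQCoh M) (p : M ⟶ N)
    (hp : IsQuot (Ideal.span {x} ^ n) p) {U : X.Opens} (hU : IsAffineOpen U) {s : Γ(M, U)} (hs : p.app U s = 0) :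
    s ∈ (Ideal.span {xsec x U} ^ n • ⊤ : Submodule Γ(X, U) Γ(M, U)) := by
  haveI := hM
  obtain ⟨w, hw⟩ := hp.isIso_desc
  rw [← multHom_span_pow]
  refine mem_smul_of_germ_mem hU _ s fun y hy => ?_
  rw [← map_germ_multHom _ hy]
  refine mem_stalk_of_map_eq_zero p w hw y _ ?_
  rw [M1.germ_naturality, hs]
  exact map_zero _

/-- Every section of the system lies in the image of the algebraic module. -/
theorem LocModel.exists_eq (L : LocModel π x G F χ' U S) (n : ℕ) (g : Γ(G.obj (op n), U)) :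
    ∃ η, ((Scheme.Modules.pushforward π).map (χ' n)).app U η =
      ((Scheme.Modules.pullbackPushforwardAdjunction π).unit.app (G.obj (op n))).app U g := by
  obtain ⟨y, rfl⟩ := L.q_surj n g
  obtain ⟨η, hη⟩ := L.ρ_surj (n + 1) (L.h y)
  exact ⟨η, L.rel n y η hη⟩

/-- The characterizing property of the comparison map `α`. -/
def IsCmp (π : X' ⟶ X) (x : A) (G : ℕᵒᵖ ⥤ X.Modules) (F : X'.Modules)
    (χ' : ∀ n, F ⟶ (Scheme.Modules.pullback π).obj (G.obj (op n)))
    (α : ∀ n, G.obj (op n) ⟶ modI (Ideal.span {x} ^ (n + 1)) ((Scheme.Modules.pushforward π).obj F)) (c : ℕ) : Prop :=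
  ∀ (k : ℕ) (U : X.Opens) (y : Γ(G.obj (op (k + c)), U)) (η : Γ((Scheme.Modules.pushforward π).obj F, U)),
    ((Scheme.Modules.pushforward π).map (χ' (k + c))).app U η =
      ((Scheme.Modules.pullbackPushforwardAdjunction π).unit.app (G.obj (op (k + c)))).app U y →
    (α k).app U ((gm G (Nat.le_add_right k c)).app U y) =
      (modIπ (Ideal.span {x} ^ (k + 1)) ((Scheme.Modules.pushforward π).obj F)).app U η

theorem LocModel.q_gm' (L : LocModel π x G F χ' U S) {n m : ℕ} (h : n ≤ m) (y : L.M) :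
    (gm G h).app U (L.q m y) = L.q n y := by
  induction m, h using Nat.le_induction with
  | base => rw [gm_refl]; rfl
  | succ m h ih =>
    rw [← gm_comp G h (Nat.le_succ m)]
    exact (congrArg (fun s => (gm G h).app U s) (L.q_gm m y)).trans ih

theorem LocModel.cmp_eq (L : LocModel π x G F χ' U S)
    {α : ∀ n, G.obj (op n) ⟶ modI (Ideal.span {x} ^ (n + 1)) ((Scheme.Modules.pushforward π).obj F)} {c : ℕ}
    (hα : IsCmp π x G F χ' α c) (k : ℕ) (y : L.M) (η : Γ((Scheme.Modules.pushforward π).obj F, U))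
    (hη : L.h y - L.ρ η ∈ (Ideal.span {L.φ (xsec x U)} ^ (k + 1) • ⊤ : Submodule L.R L.H)) :
    (α k).app U (L.q k y) = (modIπ (Ideal.span {x} ^ (k + 1)) ((Scheme.Modules.pushforward π).obj F)).app U η := by
  obtain ⟨η', hη'⟩ := L.ρ_surj (k + c + 1) (L.h y)
  have h1 := hα k U (L.q (k + c) y) η' (L.rel _ y η' hη')
  rw [L.q_gm'] at h1
  rw [h1, ← sub_eq_zero, ← map_sub]
  refine app_eq_zero_of_smul _ (isQuot_modIπ _ _) (L.ρ_inj (k + 1) (η' - η) ?_)
  have h2 : L.h y - L.ρ η' ∈ (Ideal.span {L.φ (xsec x U)} ^ (k + 1) • ⊤ : Submodule L.R L.H) :=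
    Submodule.smul_mono (Ideal.pow_le_pow_right (by omega)) le_rfl hη'
  rw [map_sub, show L.ρ η' - L.ρ η = (L.h y - L.ρ η) - (L.h y - L.ρ η') by abel]
  exact Submodule.sub_mem _ hη h2

theorem LocModel.exists_mem_lift (L : LocModel π x G F χ' U S) (m n : ℕ) (g : Γ(G.obj (op n), U))
    (hg : g ∈ (Ideal.span S ^ m • ⊤ : Submodule Γ(X, U) Γ(G.obj (op n), U))) (y : L.M) (hy : L.q n y = g) :
    y ∈ (Ideal.span (L.φ '' S) ^ m • ⊤ : Submodule L.R L.M) ⊔
      (Ideal.span {L.φ (xsec x U)} ^ (n + 1) • ⊤ : Submodule L.R L.M) := by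
  have h : ∀ g' ∈ (Ideal.span S ^ m • ⊤ : Submodule Γ(X, U) Γ(G.obj (op n), U)),
      ∃ y' ∈ (Ideal.span (L.φ '' S) ^ m • ⊤ : Submodule L.R L.M), L.q n y' = g' := by
    intro g' hg'
    refine Submodule.smul_induction_on hg' (fun r hr s _ => ?_) fun a b ha hb => ?_
    · obtain ⟨y', hy'⟩ := L.q_surj n s
      refine ⟨L.φ r • y', Submodule.smul_mem_smul ?_ trivial, by rw [L.q_smul, hy']⟩
      rw [← Ideal.map_span, ← Ideal.map_pow]
      exact Ideal.mem_map_of_mem _ hr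
    · obtain ⟨y₁, h₁, e₁⟩ := ha
      obtain ⟨y₂, h₂, e₂⟩ := hb
      exact ⟨y₁ + y₂, Submodule.add_mem _ h₁ h₂, by rw [map_add, e₁, e₂]⟩
  obtain ⟨y', hy', e⟩ := h g hg
  refine Submodule.mem_sup.2 ⟨y', hy', y - y', (L.q_ker n _).1 (by rw [map_sub, hy, e, sub_self]), ?_⟩
  abel

/-- The bounds on an open with a model. -/
theorem LocModel.exists_bounds (L : LocModel π x G F χ' U S) (hU : IsAffineOpen U)
    (hH : Coh.IsQCoh ((Scheme.Modules.pushforward π).obj F))
    {α : ∀ n, G.obj (op n) ⟶ modI (Ideal.span {x} ^ (n + 1)) ((Scheme.Modules.pushforward π).obj F)} {c : ℕ}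
    (hα : IsCmp π x G F χ' α c) :
    ∃ e : ℕ, (∀ k, ∀ r ∈ Ideal.span S ^ e, ∀ η, ∃ g,
        (α k).app U g = r • (modIπ (Ideal.span {x} ^ (k + 1)) ((Scheme.Modules.pushforward π).obj F)).app U η) ∧
      ∃ m₀ : ℕ, ∀ m, m₀ ≤ m → ∃ d : ℕ, ∀ k (g : Γ(G.obj (op (k + d)), U)),
        g ∈ (Ideal.span S ^ m • ⊤ : Submodule Γ(X, U) Γ(G.obj (op (k + d)), U)) → (α (k + d)).app U g = 0 →
          (gm G (Nat.le_add_right k d)).app U g = 0 := by
  haveI := L.noeth
  haveI := L.finM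
  haveI := L.finH
  obtain ⟨e, he, m₀, hm₀⟩ := exists_local_bounds L.h (L.φ (xsec x U)) (L.φ '' S)
    (by rintro _ ⟨g, hg, rfl⟩ y hy; exact L.hker g hg y hy) (by rintro _ ⟨g, hg, rfl⟩ z; exact L.hcok g hg z)
  refine ⟨e, fun k r hr η => ?_, m₀, fun m hm => ?_⟩
  · obtain ⟨y, hy⟩ := he (L.φ r) (by rw [← Ideal.map_span, ← Ideal.map_pow]; exact Ideal.mem_map_of_mem _ hr) (L.ρ η)
    refine ⟨L.q k y, ?_⟩
    rw [L.cmp_eq hα k y (r • η) (by rw [← hy, L.ρ_smul, sub_self]; exact Submodule.zero_mem _),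
      Scheme.Modules.Hom.app_smul]
  · obtain ⟨d, hd⟩ := hm₀ m hm
    refine ⟨d, fun k g hg h0 => ?_⟩
    obtain ⟨y, rfl⟩ := L.q_surj (k + d) g
    obtain ⟨η, hη⟩ := L.ρ_surj (k + d + 1) (L.h y)
    rw [L.cmp_eq hα (k + d) y η hη] at h0
    have h1 : η ∈ (Ideal.span {xsec x U} ^ (k + d + 1) • ⊤ :
        Submodule Γ(X, U) Γ((Scheme.Modules.pushforward π).obj F, U)) := by
      exact mem_smul_of_app_zero hH _ (isQuot_modIπ _ _) hU h0
    have h2 : L.h y ∈ (Ideal.span {L.φ (xsec x U)} ^ (k + d + 1) • ⊤ : Submodule L.R L.H) := by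
      have h3 : L.ρ η ∈ (Ideal.span {L.φ (xsec x U)} ^ (k + d + 1) • ⊤ : Submodule L.R L.H) := by
        refine Submodule.smul_induction_on h1 (fun r hr s _ => ?_) fun a b ha hb => ?_
        · rw [L.ρ_smul]
          refine Submodule.smul_mem_smul ?_ trivial
          have e' : Ideal.span {L.φ (xsec x U)} = (Ideal.span {xsec x U}).map L.φ := by
            rw [Ideal.map_span, Set.image_singleton]
          rw [e', ← Ideal.map_pow]
          exact Ideal.mem_map_of_mem _ hr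
        · rw [map_add]; exact Submodule.add_mem _ ha hb
      simpa using Submodule.add_mem _ hη h3
    rw [L.q_gm', L.q_ker]
    exact hd k y (L.exists_mem_lift m _ _ hg y rfl) h2

end Groth.Agent.GExistH7
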