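import Groth.Agent.Lib.GExistH7.Gen
import Groth.Agent.Lib.FormalH7.ModSec
import Groth.Agent.Lib.SerreCl8.Main
import Groth.Agent.S4473

/-!
Coherent modules with proper support, and supports of the terms of a system.
-/

set_option autoImplicit false
set_option linter.style.haveILetI false
set_option backward.isDefEq.respectTransparency false

universe u

open CategoryTheory CategoryTheory.Limits AlgebraicGeometry Opposite TopologicalSpace

namespace Groth.Agent.GExistH7

open Groth.Agent.FormalH7

variable {A : Type u} [CommRing A] {X : Scheme.{u}} [X.Over (Spec (CommRingCat.of A))]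

variable (A) in
/-- Coherent modules with support proper over the base. -/
def PS (M : X.Modules) : Prop :=
  Coh.IsCoh M ∧ ClSub.IsProperOver (X ↘ Spec (CommRingCat.of A)) (CohB1.support M)

theorem notMem_support_of_mono {M N : X.Modules} (i : M ⟶ N) [Mono i] {x : X} (h : x ∉ CohB1.support N) :
    x ∉ CohB1.support M :=
  (M1.notMem_support_iff M x).2 fun b =>
    (M1.mono_iff_stalk i).1 inferInstance x (((M1.notMem_support_iff N x).1 h _).trans (map_zero _).symm)

theorem notMem_support_of_epi {M N : X.Modules} (p : M ⟶ N) [Epi p] {x : X} (h : x ∉ CohB1.support M) :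
    x ∉ CohB1.support N :=
  (M1.notMem_support_iff N x).2 fun b => by
    obtain ⟨a, rfl⟩ := (M1.epi_iff_stalk p).1 inferInstance x b
    rw [(M1.notMem_support_iff M x).1 h a]
    exact map_zero _

theorem notMem_support_sys {I : Ideal A} {G : ℕᵒᵖ ⥤ X.Modules} (hG : IsSys I G) {x : X}
    (h : x ∉ CohB1.support (G.obj (op 0))) : ∀ n, x ∉ CohB1.support (G.obj (op n))
  | 0 => h
  | n + 1 => by
    have ih := notMem_support_sys hG h n
    obtain ⟨w, hw⟩ := (hG.quot n).isIso_desc
    refine (M1.notMem_support_iff _ x).2 fun b => ?_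
    have hb := mem_stalk_of_map_eq_zero (gm G (Nat.le_succ n)) w hw x b ((M1.notMem_support_iff _ x).1 ih _)
    have hz : stalkIdeal (I ^ (n + 1)) x • (⊤ : Submodule (X.presheaf.stalk x) ((G.obj (op (n + 1))).presheaf.stalk x))
        = ⊥ := by
      rw [stalkIdeal, Ideal.map, Submodule.span_smul_eq, ← le_bot_iff, Submodule.set_smul_le_iff]
      rintro _ m ⟨a, ha, rfl⟩ -
      obtain ⟨g, hg⟩ := smul_kills_kernel (hG.quot_gm (Nat.zero_le (n + 1))) (a := a)
        (L' := I ^ (n + 1 + 1)) (fun b hb => by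
          rw [zero_add, pow_one] at hb
          exact pow_succ I (n + 1) ▸ Ideal.mul_mem_mul ha hb) (hG.killed (n + 1))
      obtain ⟨U, hxU, s, rfl⟩ := (G.obj (op (n + 1))).presheaf.exists_germ_eq m
      have e1 : (M1.stalkAb x).map (gm G (Nat.zero_le (n + 1)) ≫ g)
          ((G.obj (op (n + 1))).presheaf.germ U x hxU s) = 0 := by
        rw [Functor.map_comp]
        exact (congrArg ((M1.stalkAb x).map g) ((M1.notMem_support_iff _ x).1 h
          ((M1.stalkAb x).map (gm G (Nat.zero_le (n + 1))) _))).trans (map_zero _)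
      rw [hg, M1.germ_naturality, smulMod_app, M1.germ_smul, germ_mult hxU] at e1
      exact e1
    rw [hz] at hb
    exact hb

variable [IsNoetherianRing A] [LocallyOfFiniteType (X ↘ Spec (CommRingCat.of A))]

theorem PS.of_subset {M : X.Modules} (h : PS A M) {N : X.Modules} (hN : Coh.IsCoh N)
    (hs : CohB1.support N ⊆ CohB1.support M) : PS A N :=
  ⟨hN, ClSub24.isProperOver_subset _ hs (M1.isClosed_support hN.2) h.2⟩

theorem PS.of_epi {M N : X.Modules} (p : M ⟶ N) [Epi p] (h : PS A M) (hN : Coh.IsCoh N) : PS A N :=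
  h.of_subset hN fun _ hx => by_contra fun hc => notMem_support_of_epi p hc hx

theorem PS.of_mono {M N : X.Modules} (i : N ⟶ M) [Mono i] (h : PS A M) (hN : Coh.IsCoh N) : PS A N :=
  h.of_subset hN fun _ hx => by_contra fun hc => notMem_support_of_mono i hc hx

theorem PS.of_quot {M N : X.Modules} {L : Ideal A} (p : M ⟶ N) (hp : IsQuot L p) (h : PS A M) : PS A N := by
  haveI := hp.epi
  obtain ⟨e, -⟩ := (isQuot_modIπ L M).exists_iso hp
  refine h.of_epi p (CohFound.isCoh_of_iso e ?_)
  haveI := (isQuot_modIπ L M).epi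
  exact ⟨M1.isQCoh_cokernel (SerreCl8.isQCoh_sigma _ fun _ => h.1.1) h.1.1 _, M1.isFT_of_epi (modIπ L M) h.1.2⟩

theorem ps_sys {I : Ideal A} {G : ℕᵒᵖ ⥤ X.Modules} (hG : IsSys I G)
    (h : ClSub.IsProperOver (X ↘ Spec (CommRingCat.of A)) (CohB1.support (G.obj (op 0)))) (n : ℕ) :
    PS A (G.obj (op n)) :=
  PS.of_subset (M := G.obj (op 0)) ⟨hG.coh 0, h⟩ (hG.coh n)
    fun x hx => by_contra fun hc => notMem_support_sys hG (x := x) hc n hx

theorem isClass_PS : IsClass (PS A : X.Modules → Prop) := by
  haveI : IsLocallyNoetherian X := LocallyOfFiniteType.isLocallyNoetherian (X ↘ Spec (CommRingCat.of A))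
  exact
  { coh := fun _ h => h.1
    iso := fun e h => h.of_epi e.hom (CohFound.isCoh_of_iso e h.1)
    kernel := fun f hM hN => hM.of_mono (kernel.ι f) (M1.isCoh_kernel hM.1 hN f)
    cokernel := fun f hM hN => hN.of_epi (cokernel.π f) (M1.isCoh_cokernel hM hN.1 f) }

variable [QuasiCompact (X ↘ Spec (CommRingCat.of A))]

theorem fFaith_PS (J : Ideal A) [IsAdicComplete J A] : FFaith (PS A : X.Modules → Prop) J :=
  fFaith_of_completion fun M N hM hN ψ =>
    Groth.Agent.S4473.result A J X M N hM.1 hN.1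
      (ClSub24.isProperOver_subset _ Set.inter_subset_left
        ((M1.isClosed_support hM.1.2).inter (M1.isClosed_support hN.1.2)) hM.2) ψ

/-- Reduction to principal ideals. -/
theorem algAll_PS (I : Ideal A) [IsAdicComplete I A]
    (hpr : ∀ x ∈ I, AlgAll (PS A : X.Modules → Prop) (Ideal.span {x})) : AlgAll (PS A : X.Modules → Prop) I :=
  algAll_of_principal I (IsNoetherian.noetherian I) (fun L p hp hM => PS.of_quot p hp hM) (fun _ h => h.1)
    (fun J hJ => by haveI := CT6.isAdicComplete_of_le (I := I) hJ; exact fFaith_PS J) hpr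

end Groth.Agent.GExistH7
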