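import Groth.Agent.Lib.GExistH7.Pieces
import Groth.Agent.Lib.GExistH7.Sys
import Groth.Agent.Lib.FormalModH7.CplBridge
import Groth.Agent.Lib.CohFound.ClosedImmPush

/-!
A coherent system of modules on a completion along an ideal of the base, pushed to the scheme, is a
system of quotients.
-/

set_option autoImplicit false
set_option linter.style.haveILetI false
set_option backward.isDefEq.respectTransparency false

universe u

open CategoryTheory CategoryTheory.Limits AlgebraicGeometry Opposite TopologicalSpace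

namespace Groth.Agent.GExistH7

open Groth.Agent.FormalH7

section cover

variable {A : Type u} [CommRing A] {X : Scheme.{u}} [X.Over (Spec (CommRingCat.of A))] {ι : Type*}
  (W : ι → X.Opens) (hW : ∀ i, IsAffineOpen (W i)) (hc : ∀ x : X, ∃ i, x ∈ W i)

include hW hc in
/-- A criterion for quotient maps on sections over an affine cover. -/
theorem isQuot_of_sections {L : Ideal A} {M N : X.Modules} (hM : Coh.IsQCoh M) (hN : Coh.IsQCoh N) (p : M ⟶ N)
    (hk : Formal.KilledBy L N) (hs : ∀ i, Function.Surjective (p.app (W i)))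
    (hz : ∀ i s, p.app (W i) s = 0 →
      s ∈ ((L.map (multHom X (W i))) • ⊤ : Submodule Γ(X, W i) Γ(M, W i))) : IsQuot L p := by
  haveI : Epi p := Abelian.epi_of_cokernel_π_eq_zero p <| hom_eq_zero_of_cover W hW hc hN _ fun i s => by
    obtain ⟨t, rfl⟩ := hs i s
    exact congrArg (fun g : M ⟶ cokernel p => g.app (W i) t) (cokernel.condition p)
  refine ⟨inferInstance, fun a ha => by rw [smulMod_naturality, hk a ha, comp_zero], fun {T} φ hφ => ?_⟩
  have hker : kernel.ι p ≫ φ = 0 := by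
    refine hom_eq_zero_of_cover W hW hc (M1.isQCoh_kernel hM hN p) _ fun i s => ?_
    show φ.app (W i) ((kernel.ι p).app (W i) s) = 0
    have h0 : p.app (W i) ((kernel.ι p).app (W i) s) = 0 :=
      congrArg (fun g : kernel p ⟶ N => g.app (W i) s) (kernel.condition p)
    have key : ∀ r ∈ L.map (multHom X (W i)), ∀ t : Γ(M, W i), φ.app (W i) (r • t) = 0 := fun r hr => by
      induction hr using Submodule.span_induction with
      | mem r h =>
        obtain ⟨a, ha, rfl⟩ := h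
        intro t
        exact (congrArg (φ.app (W i)) (smulMod_app M a (W i) t)).symm.trans
          (congrArg (fun g : M ⟶ T => g.app (W i) t) (hφ a ha))
      | zero => intro t; rw [zero_smul, map_zero]
      | add r r' _ _ h1 h2 => intro t; rw [add_smul, map_add, h1, h2, add_zero]
      | smul c r _ h1 => intro t; rw [smul_eq_mul, mul_smul, Scheme.Modules.Hom.app_smul, h1, smul_zero]
    exact Submodule.smul_induction_on (hz i _ h0) (fun r hr t _ => key r hr t)
      fun a b ha hb => by rw [map_add, ha, hb, add_zero]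
  exact ⟨Abelian.epiDesc p φ hker, Abelian.comp_epiDesc p φ hker⟩

end cover

section pushTrans

variable {X Y Y' : Scheme.{u}} {ι : Y ⟶ Y'} {q' : Y' ⟶ X} {q : Y ⟶ X} (w : ι ≫ q' = q) {F' : Y'.Modules}
  {F : Y.Modules} (e : (Scheme.Modules.pullback ι).obj F' ⟶ F)

include w in
theorem preimage_le_of_comp (U : X.Opens) : q ⁻¹ᵁ U ≤ ι ⁻¹ᵁ (q' ⁻¹ᵁ U) := by
  subst w; exact le_rfl

/-- A map out of a pullback, pushed along compatible maps. -/
noncomputable def pushTrans : (Scheme.Modules.pushforward q').obj F' ⟶ (Scheme.Modules.pushforward q).obj F :=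
  (Scheme.Modules.pushforward q').map ((Scheme.Modules.pullbackPushforwardAdjunction ι).homEquiv _ _ e) ≫
    (Scheme.Modules.pushforwardComp ι q').hom.app F ≫ (Scheme.Modules.pushforwardCongr w).hom.app F

theorem pushTrans_app (U : X.Opens) (s : Γ((Scheme.Modules.pushforward q').obj F', U)) :
    (pushTrans w e).app U s = e.app (q ⁻¹ᵁ U) (ModLimH13.res' ι F' (preimage_le_of_comp w U) s) := by
  have h1 : ((Scheme.Modules.pullbackPushforwardAdjunction ι).homEquiv _ _ e).app (q' ⁻¹ᵁ U) s =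
      e.app _ (M2.pullSec ι F' s) := by
    rw [Adjunction.homEquiv_unit]
    rfl
  show M1.mres F (preimage_le_of_comp w U) (((Scheme.Modules.pullbackPushforwardAdjunction ι).homEquiv _ _ e).app
    (q' ⁻¹ᵁ U) s) = _
  rw [h1]
  exact (M1.app_mres e _ _).symm

variable [IsIso e] [Coh.IsQCoh F'] [IsClosedImmersion q] [IsClosedImmersion q']

theorem pushTrans_sections {W : X.Opens} (hW : IsAffineOpen W) :
    Function.Surjective ((pushTrans w e).app W) ∧ ∀ s, (pushTrans w e).app W s = 0 →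
      s ∈ (RingHom.ker (q.app W).hom • ⊤ : Submodule Γ(X, W) Γ((Scheme.Modules.pushforward q').obj F', W)) := by
  have hc : ∀ r : Γ(X, W), ι.appLE (q' ⁻¹ᵁ W) (q ⁻¹ᵁ W) (preimage_le_of_comp w W) (q'.app W r) = q.app W r := by
    intro r
    subst w
    simp [Scheme.Hom.appLE]
  have hsurj : Function.Surjective (ι.appLE (q' ⁻¹ᵁ W) (q ⁻¹ᵁ W) (preimage_le_of_comp w W)) := fun c => by
    obtain ⟨r, rfl⟩ := q.app_surjective W hW c
    exact ⟨q'.app W r, hc r⟩
  obtain ⟨h1, h2⟩ := res'_surjective_of_surjective ι F' (hW.preimage q') (hW.preimage q)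
    (preimage_le_of_comp w W) hsurj
  have hb : Function.Bijective (e.app (q ⁻¹ᵁ W)) := ConcreteCategory.bijective_of_isIso _
  refine ⟨fun t => ?_, fun s hs => ?_⟩
  · obtain ⟨t', rfl⟩ := hb.2 t
    obtain ⟨s, rfl⟩ := h1 t'
    exact ⟨s, pushTrans_app w e W s⟩
  · rw [pushTrans_app] at hs
    refine Submodule.smul_induction_on (h2 s (hb.1 (hs.trans (map_zero _).symm))) (fun c hc' t _ => ?_)
      fun a b ha hb' => add_mem ha hb'
    obtain ⟨r, rfl⟩ := q'.app_surjective W hW c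
    exact Submodule.smul_mem_smul (M := Γ((Scheme.Modules.pushforward q').obj F', W))
      (show r ∈ RingHom.ker (q.app W).hom from (hc r).symm.trans hc') Submodule.mem_top

end pushTrans

section push

variable {X : Scheme.{u}} (𝓘 : X.IdealSheafData) (𝔐 : FSch.ModSys (FSch.completionAlong X 𝓘))

/-- The direct image of a level. -/
noncomputable abbrev pushL (n : ℕ) : X.Modules :=
  (Scheme.Modules.pushforward (FSch.completionToX X 𝓘 n)).obj (𝔐.F n)

/-- The transition maps of the direct images. -/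
noncomputable def trG (n : ℕ) : pushL 𝓘 𝔐 (n + 1) ⟶ pushL 𝓘 𝔐 n :=
  pushTrans (FSch.completionToX_comm X 𝓘 n) (𝔐.e n).hom

theorem trG_app (n : ℕ) (U : X.Opens) (s : Γ(pushL 𝓘 𝔐 (n + 1), U)) :
    (trG 𝓘 𝔐 n).app U s = (𝔐.e n).hom.app (FSch.completionToX X 𝓘 n ⁻¹ᵁ U)
      (ModLimH13.res' ((FSch.completionAlong X 𝓘).ι n) (𝔐.F (n + 1))
        (preimage_le_of_comp (FSch.completionToX_comm X 𝓘 n) U) s) :=
  pushTrans_app _ _ U s

/-- The system of direct images. -/
noncomputable abbrev gSys : ℕᵒᵖ ⥤ X.Modules := Functor.ofOpSequence (X := pushL 𝓘 𝔐) (trG 𝓘 𝔐)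

end push

section sys

variable {A : Type u} [CommRing A] (J : Ideal A) {X : Scheme.{u}} [X.Over (Spec (CommRingCat.of A))]
  (𝓘 : X.IdealSheafData) (h𝓘 : 𝓘 = (FSch.idealSpec A J).comap (X ↘ Spec (CommRingCat.of A)))
  (𝔐 : FSch.ModSys (FSch.completionAlong X 𝓘)) (hM : 𝔐.IsCoh)

include h𝓘 in
theorem ideal_pow_eq (n : ℕ) {W : X.Opens} (hW : IsAffineOpen W) :
    (𝓘 ^ (n + 1)).ideal ⟨W, hW⟩ = (J ^ (n + 1)).map (multHom X W) := by
  rw [Ideal.map_pow, ← FormalModH7.ideal_eq_idl J 𝓘 h𝓘 hW, Scheme.IdealSheafData.ideal_pow]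
  rfl

include h𝓘 in
theorem killedBy_pushL (n : ℕ) : Formal.KilledBy (J ^ (n + 1)) (pushL 𝓘 𝔐 n) := fun a ha => by
  refine ModLimH13.hom_ext_affine _ _ fun x => ⟨⊤, trivial, fun W _ hW s => ?_⟩
  rw [smulMod_app]
  refine (smul_push_eq_zero (𝓘 ^ (n + 1)) (𝔐.F n) hW ?_ s).trans rfl
  rw [ideal_pow_eq J 𝓘 h𝓘 n hW]
  exact Ideal.mem_map_of_mem _ ha

include h𝓘 hM in
theorem trG_sections (n : ℕ) {W : X.Opens} (hW : IsAffineOpen W) :
    Function.Surjective ((trG 𝓘 𝔐 n).app W) ∧ ∀ s, (trG 𝓘 𝔐 n).app W s = 0 →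
      s ∈ ((J ^ (n + 1)).map (multHom X W) • ⊤ : Submodule Γ(X, W) Γ(pushL 𝓘 𝔐 (n + 1), W)) := by
  haveI : Coh.IsQCoh (𝔐.F (n + 1)) := (hM (n + 1)).1
  rw [← ideal_pow_eq J 𝓘 h𝓘 n hW, ← (𝓘 ^ (n + 1)).ker_subschemeι_app ⟨W, hW⟩]
  exact pushTrans_sections (FSch.completionToX_comm X 𝓘 n) (𝔐.e n).hom hW

include h𝓘 hM in
theorem isSys_gSys : IsSys J (gSys 𝓘 𝔐) := by
  refine isSys_ofOpSequence _ (fun n => CohFound.isCoh_push_closedImm _ (hM n))
    (killedBy_pushL J 𝓘 h𝓘 𝔐) fun n => ?_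
  exact isQuot_of_sections (ι := X.affineOpens) (fun W => W.1) (fun W => W.2)
    (fun x => by
      obtain ⟨_, ⟨W, hW, rfl⟩, hxW, -⟩ := X.isBasis_affineOpens.exists_subset_of_mem_open (Set.mem_univ x) isOpen_univ
      exact ⟨⟨W, hW⟩, hxW⟩)
    (CohFound.isCoh_push_closedImm _ (hM (n + 1))).1 (CohFound.isCoh_push_closedImm _ (hM n)).1 _
    (killedBy_pushL J 𝓘 h𝓘 𝔐 n) (fun W => (trG_sections J 𝓘 h𝓘 𝔐 hM n W.2).1)
    fun W => (trG_sections J 𝓘 h𝓘 𝔐 hM n W.2).2

end sys

end Groth.Agent.GExistH7
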