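import Groth.Agent.Lib.GExistH7.Sup
import Groth.Agent.Lib.ModLimH13.Quot
import Groth.Agent.Lib.CohFound.ProjQuot
import Groth.Agent.Lib.CT6.Basic

/-!
Coherent modules as a class, stationary kernels, and induction on generators of the ideal.
-/

set_option autoImplicit false
set_option linter.style.haveILetI false
set_option backward.isDefEq.respectTransparency false

universe u

open CategoryTheory CategoryTheory.Limits AlgebraicGeometry Opposite

namespace Groth.Agent.GExistH7

open Groth.Agent.FormalH7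

variable {A : Type u} [CommRing A] {X : Scheme.{u}} [X.Over (Spec (CommRingCat.of A))]

theorem isClass_isCoh [IsLocallyNoetherian X] : IsClass (fun M : X.Modules => Coh.IsCoh M) where
  coh _ h := h
  iso e h := CohFound.isCoh_of_iso e h
  kernel f hM hN := M1.isCoh_kernel hM hN f
  cokernel f hM hN := M1.isCoh_cokernel hM hN f

/-- Increasing kernels in a coherent module on a Noetherian scheme are stationary. -/
theorem stat_isCoh [IsNoetherian X] : Stat (fun M : X.Modules => Coh.IsCoh M) := by
  intro F hF T u hT hu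
  obtain ⟨S, hS, hcov⟩ := M1.exists_finite_affine_iSup (X := X) (U := ⊤) (by simpa using isCompact_univ)
  have hchain : ∀ U : S, ∃ c, ∀ j, c ≤ j → ∀ t : Γ(kernel (u j), (U.1 : X.Opens)),
      ∃ t' : Γ(kernel (u c), (U.1 : X.Opens)), (kernel.ι (u c)).app (U.1 : X.Opens) t' =
        (kernel.ι (u j)).app (U.1 : X.Opens) t := by
    rintro ⟨⟨U, hU⟩, hUS⟩
    haveI : IsNoetherianRing Γ(X, U) := IsLocallyNoetherian.component_noetherian ⟨U, hU⟩
    haveI := M1.finite_sections hF.1 hF.2 hU
    let K : ℕ → Submodule Γ(X, U) Γ(F, U) := fun j =>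
      { carrier := {s | ∃ t, (kernel.ι (u j)).app U t = s}
        add_mem' := fun {a b} ⟨t, ht⟩ ⟨t', ht'⟩ => ⟨t + t', by rw [map_add, ht, ht']⟩
        zero_mem' := ⟨0, map_zero _⟩
        smul_mem' := fun r s ⟨t, ht⟩ => ⟨r • t, by rw [Scheme.Modules.Hom.app_smul, ht]⟩ }
    obtain ⟨c, hc⟩ := monotone_stabilizes_iff_noetherian.2 (inferInstance : IsNoetherian Γ(X, U) Γ(F, U))
      ⟨K, monotone_nat_of_le_succ fun j s ⟨t, ht⟩ => ⟨(kernel.lift (u (j + 1)) _ (hu j)).app U t,
        (congrArg (fun φ => φ.app U t) (kernel.lift_ι (u (j + 1)) _ (hu j))).trans ht⟩⟩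
    exact ⟨c, fun j hj t => (hc j hj).ge (show _ ∈ K j from ⟨t, rfl⟩)⟩
  choose c hc using hchain
  haveI := hS.fintype
  have hle : ∀ a b, a ≤ b → kernel.ι (u a) ≫ u b = 0 := by
    intro a b h
    induction b, h using Nat.le_induction with
    | base => exact kernel.condition _
    | succ b _ ih => rw [← kernel.lift_ι (u b) _ ih, Category.assoc, hu, comp_zero]
  refine ⟨Finset.univ.sup c, fun j hj => ?_⟩
  haveI : Coh.IsQCoh (kernel (u j)) := M1.isQCoh_kernel hF.1 (hT j).1 (u j)
  refine ModLimH13.hom_eq_zero_of_generators _ fun x => ?_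
  obtain ⟨U, hU⟩ := TopologicalSpace.Opens.mem_iSup.1
    (show x ∈ (⨆ i : S, (i.1 : X.Opens)) by rw [← hcov]; trivial)
  refine ⟨(U.1 : X.Opens), Set.univ, hU, U.1.2, Submodule.span_univ, fun t _ => ?_⟩
  have hcU : c U ≤ Finset.univ.sup c := Finset.le_sup (Finset.mem_univ U)
  obtain ⟨t', ht'⟩ := hc U j (hcU.trans hj) t
  show (u _).app _ ((kernel.ι (u j)).app _ t) = 0
  rw [← ht']
  exact congrArg (fun φ => φ.app (U.1 : X.Opens) t') (hle _ _ hcU)

/-- Existence for every ideal, from existence for principal ideals and full faithfulness. -/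
theorem algAll_of_principal {P : X.Modules → Prop} (I : Ideal A) (hI : I.FG)
    (hP : ∀ {M N : X.Modules} (L : Ideal A) (p : M ⟶ N), IsQuot L p → P M → P N)
    (hcoh : ∀ M, P M → Coh.IsCoh M) (hF : ∀ J ≤ I, FFaith P J)
    (hpr : ∀ x ∈ I, AlgAll P (Ideal.span {x})) : AlgAll P I := by
  classical
  obtain ⟨s, rfl⟩ := hI
  suffices h : ∀ t ⊆ s, AlgAll P (Ideal.span (t : Set A)) from h s subset_rfl
  intro t
  induction t using Finset.induction_on with
  | empty => intro _; rw [Finset.coe_empty, Ideal.span_empty]; exact algAll_bot P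
  | insert a t _ ih =>
    intro ht
    rw [Finset.coe_insert, Ideal.span_insert, sup_comm]
    have ht' : t ⊆ s := (Finset.subset_insert a t).trans ht
    exact algAll_sup hP hcoh (ih ht') (hF _ (Ideal.span_mono (by simpa using ht')))
      (hpr a (Ideal.subset_span (ht (Finset.mem_insert_self a t))))

end Groth.Agent.GExistH7
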