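import Groth.Agent.Lib.GExistH7.SysBridge
import Groth.Agent.Lib.GExistH7.Main
import Groth.Agent.Lib.FormalModH7.CplAlgHom
import Groth.Agent.Lib.FormalModH7.Coh
import Groth.Agent.Lib.FormalModH7.Spf

/-!
Coherent modules on a completion along an ideal of the base: existence of algebraizations when the
support is proper over the base.
-/

set_option autoImplicit false
set_option linter.style.haveILetI false
set_option backward.isDefEq.respectTransparency false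

universe u

open CategoryTheory CategoryTheory.Limits AlgebraicGeometry Opposite TopologicalSpace

namespace Groth.Agent.GExistH7

open Groth.Agent.FormalH7

section lvl

variable {X Y Y' : Scheme.{u}} {ι : Y ⟶ Y'} {q' : Y' ⟶ X} {q : Y ⟶ X} (w : ι ≫ q' = q) {F' : Y'.Modules}
  {F : Y.Modules} (e : (Scheme.Modules.pullback ι).obj F' ⟶ F) {M : X.Modules}

/-- Compatible maps to the direct images give compatible maps of pullbacks. -/
theorem comm_of_pushTrans (χ' : M ⟶ (Scheme.Modules.pushforward q').obj F')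
    (χ : M ⟶ (Scheme.Modules.pushforward q).obj F) (hc : χ' ≫ pushTrans w e = χ) :
    (Scheme.Modules.pullback ι).map (((Scheme.Modules.pullbackPushforwardAdjunction q').homEquiv _ _).symm χ') ≫ e =
      (ModLimH13.cmp ι q' w).hom.app M ≫ ((Scheme.Modules.pullbackPushforwardAdjunction q).homEquiv _ _).symm χ := by
  rw [← cancel_epi ((ModLimH13.cmp ι q' w).inv.app M), Iso.inv_hom_id_app_assoc]
  apply ((Scheme.Modules.pullbackPushforwardAdjunction q).homEquiv _ _).injective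
  rw [Equiv.apply_symm_apply]
  refine Scheme.Modules.hom_ext _ _ fun U => ?_
  ext s
  have hφ : ∀ (ψ : (Scheme.Modules.pullback q').obj M ⟶ F') (U : X.Opens) (s : Γ(M, U)),
      ((Scheme.Modules.pullbackPushforwardAdjunction q').homEquiv _ _ ψ).app U s =
        ψ.app (q' ⁻¹ᵁ U) (ModLimH13.res' q' M (le_refl _) s) := fun ψ U s => by
    rw [Adjunction.homEquiv_unit, ModLimH13.res', M1.mres_id]
    rfl
  have h1 := hφ (((Scheme.Modules.pullbackPushforwardAdjunction q').homEquiv _ _).symm χ') U s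
  rw [Equiv.apply_symm_apply] at h1
  have h2 := congrArg (((ModLimH13.cmp ι q' w).inv.app M).app (q ⁻¹ᵁ U))
    (ModLimH13.cmp_res' ι q' M w (le_refl (q' ⁻¹ᵁ U)) (preimage_le_of_comp w U) s)
  have h3 : ∀ x, ((ModLimH13.cmp ι q' w).inv.app M).app (q ⁻¹ᵁ U)
      (((ModLimH13.cmp ι q' w).hom.app M).app (q ⁻¹ᵁ U) x) = x := fun x =>
    congrArg (fun g => Scheme.Modules.Hom.app g (q ⁻¹ᵁ U) x) ((ModLimH13.cmp ι q' w).hom_inv_id_app M)
  rw [h3] at h2
  rw [← hc, Adjunction.homEquiv_unit]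
  show e.app _ (((Scheme.Modules.pullback ι).map _).app _ (((ModLimH13.cmp ι q' w).inv.app M).app (q ⁻¹ᵁ U)
    (M2.pullSec q M s))) = (pushTrans w e).app U (χ'.app U s)
  rw [pushTrans_app, h1]
  refine congrArg _ ?_
  rw [← ModLimH13.map_res', h2, ModLimH13.res', M1.mres_id]

end lvl

section adjunct

variable {A : Type u} [CommRing A] {X Y : Scheme.{u}} [X.Over (Spec (CommRingCat.of A))] (q : Y ⟶ X)
  [IsClosedImmersion q]

theorem isIso_adjunct_of_isQuot {F : Y.Modules} {M : X.Modules} {L : Ideal A}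
    (hu : IsQuot L ((Scheme.Modules.pullbackPushforwardAdjunction q).unit.app M))
    (χ : M ⟶ (Scheme.Modules.pushforward q).obj F) (hχ : IsQuot L χ) :
    IsIso (((Scheme.Modules.pullbackPushforwardAdjunction q).homEquiv _ _).symm χ) := by
  obtain ⟨e, he⟩ := hu.exists_iso hχ
  have h1 : (Scheme.Modules.pullbackPushforwardAdjunction q).unit.app M ≫ (Scheme.Modules.pushforward q).map
      (((Scheme.Modules.pullbackPushforwardAdjunction q).homEquiv _ _).symm χ) = χ :=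
    ((Scheme.Modules.pullbackPushforwardAdjunction q).homEquiv_unit _ _ _).symm.trans (Equiv.apply_symm_apply _ _)
  haveI : IsIso ((Scheme.Modules.pushforward q).map
      (((Scheme.Modules.pullbackPushforwardAdjunction q).homEquiv _ _).symm χ)) := by
    rw [hu.hom_ext (h1.trans he.symm)]
    infer_instance
  exact CohFound.isIso_of_isIso_push q _

end adjunct

section alg

variable {A : Type u} [CommRing A] (J : Ideal A) {X : Scheme.{u}} [X.Over (Spec (CommRingCat.of A))]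
  (𝓘 : X.IdealSheafData) (h𝓘 : 𝓘 = (FSch.idealSpec A J).comap (X ↘ Spec (CommRingCat.of A)))
  (h : (FSch.completionAlong X 𝓘).IsFormal) [IsLocallyNoetherian X]

include h𝓘 h in
theorem isQuot_unitLvl {M : X.Modules} (hM : Coh.IsCoh M) (n : ℕ) :
    IsQuot (J ^ (n + 1)) (FormalModH7.unitLvl M n 𝓘) := by
  haveI := FormalModH7.isIso_cmpLvl J 𝓘 h𝓘 n h hM
  exact ((isQuot_modPowπ J (n + 1) M).comp_iso (asIso (FormalModH7.cmpLvl J 𝓘 h𝓘 n h hM.1))).of_eq
    (FormalModH7.π_cmpLvl J 𝓘 h𝓘 n h hM.1)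

omit [IsLocallyNoetherian X] in
theorem complMod_e_eq (M : X.Modules) (n : ℕ) : (FSch.complMod 𝓘 M).e n =
    (ModLimH13.cmp ((FSch.completionAlong X 𝓘).ι n) (FSch.completionToX X 𝓘 (n + 1))
      (FSch.completionToX_comm X 𝓘 n)).app M := by
  rw [FSch.complMod_e]
  congr 1

include h𝓘 h in
/-- An algebraization of the direct images is an algebraization of the system. -/
theorem nonempty_iso_complMod (𝔐 : FSch.ModSys (FSch.completionAlong X 𝓘)) {M : X.Modules} (hM : Coh.IsCoh M)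
    (χ : ∀ n, M ⟶ pushL 𝓘 𝔐 n) (hq : ∀ n, IsQuot (J ^ (n + 1)) (χ n))
    (hc : ∀ n, χ (n + 1) ≫ trG 𝓘 𝔐 n = χ n) : Nonempty (𝔐 ≅ FSch.complMod 𝓘 M) := by
  refine FormalModH7.nonempty_iso_of_levels (G := FSch.complMod 𝓘 M) (H := 𝔐)
    (fun n => ((Scheme.Modules.pullbackPushforwardAdjunction (FSch.completionToX X 𝓘 n)).homEquiv _ _).symm (χ n))
    (fun n => isIso_adjunct_of_isQuot _ (isQuot_unitLvl J 𝓘 h𝓘 h hM n) (χ n) (hq n)) fun n => ?_
  have h1 := hc n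
  rw [trG] at h1
  have h2 := comm_of_pushTrans (FSch.completionToX_comm X 𝓘 n) (𝔐.e n).hom (χ (n + 1)) (χ n) h1
  rw [complMod_e_eq, Iso.app_hom]
  exact h2

end alg

section van

variable {𝔛 : FSch.Sys.{u}} {h : 𝔛.IsFormal}

/-- A module vanishes near a point. -/
def VanAt (𝔉 : FSch.ModF 𝔛 h) (x : 𝔛.X 0) : Prop :=
  ∃ U : (𝔛.X 0).Opens, x ∈ U ∧ ∀ V : (𝔛.X 0).Opens, V ≤ U → ∀ s : ModSite.sect 𝔉 V, s = 0

theorem VanAt.of_iso {𝔉 𝔊 : FSch.ModF 𝔛 h} (e : 𝔉 ≅ 𝔊) {x : 𝔛.X 0} (hv : VanAt 𝔉 x) : VanAt 𝔊 x := by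
  obtain ⟨U, hx, hU⟩ := hv
  refine ⟨U, hx, fun V hV s => ?_⟩
  have h1 : e.hom.val.app (op V) (e.inv.val.app (op V) s) = s :=
    congrArg (fun g : 𝔊 ⟶ 𝔊 => g.val.app (op V) s) e.inv_hom_id
  rw [← h1, hU V hV (e.inv.val.app (op V) s)]
  exact map_zero _

theorem VanAt.of_exact (S : ShortComplex (FSch.ModF 𝔛 h)) (hS : S.Exact) [Mono S.f] {x : 𝔛.X 0}
    (h₁ : VanAt S.X₁ x) (h₃ : VanAt S.X₃ x) : VanAt S.X₂ x := by
  obtain ⟨U₁, hx₁, hU₁⟩ := h₁
  obtain ⟨U₃, hx₃, hU₃⟩ := h₃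
  refine ⟨U₁ ⊓ U₃, ⟨hx₁, hx₃⟩, fun V hV s => ?_⟩
  let E := SheafOfModules.evaluation (ModSite.ringSh (𝔛.Osh h)) (op V)
  have hE : (S.map E).Exact := (S.map E).exact_of_f_is_kernel
    (KernelFork.mapIsLimit _ hS.fIsKernel E)
  obtain ⟨t, ht⟩ := (ShortComplex.moduleCat_exact_iff _).1 hE s (hU₃ V (hV.trans inf_le_right) _)
  rw [← ht]
  exact (congrArg (S.f.val.app (op V)) (hU₁ V (hV.trans inf_le_left) t)).trans (map_zero _)

theorem lvU_zero_eq (V : (𝔛.X 0).Opens) : 𝔛.lvU h 0 V = V := FormalModH7.toX_preimage_lvU h 0 V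

/-- A coherent system whose module vanishes near a point has level zero with zero stalk there. -/
theorem notMem_support_of_vanAt (hN : 𝔛.IsLocNoethFormal) (𝔐 : FSch.ModSys 𝔛) (hM : 𝔐.IsCoh) {x : 𝔛.X 0}
    (hv : VanAt (𝔐.realMod hN.1) x) : x ∉ CohB1.support (𝔐.F 0) := by
  obtain ⟨U, hx, hU⟩ := hv
  obtain ⟨V, hV, hxV, hVU⟩ := exists_isAffineOpen_mem_and_subset hx
  haveI : Coh.IsQCoh (𝔐.F 0) := (hM 0).1
  refine (M1.notMem_support_iff _ x).2 fun b => ?_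
  have hxV' : x ∈ 𝔛.lvU hN.1 0 V := (lvU_zero_eq V).symm ▸ hxV
  obtain ⟨r, m, hr, hb⟩ := M1.exists_germ_smul_eq (𝔐.F 0) (FormalModH7.isAffineOpen_lvU hN hV 0) hxV' b
  obtain ⟨t, rfl⟩ := FormalModH7.piM_surjective 𝔐 hN hM hV 0 m
  rw [hU V hVU t, map_zero, map_zero] at hb
  exact hr.smul_eq_zero.1 hb

end van

section vanCompl

variable {X : Scheme.{u}} (𝓘 : X.IdealSheafData) (h : (FSch.completionAlong X 𝓘).IsFormal)

theorem vanAt_complMod {G : X.Modules} (hG : Coh.IsCoh G) {x : (FSch.completionAlong X 𝓘).X 0}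
    (hx : FSch.completionToX X 𝓘 0 x ∉ CohB1.support G) : VanAt ((FSch.complMod 𝓘 G).realMod h) x := by
  let W : X.Opens := ⟨(CohB1.support G)ᶜ, (M1.isClosed_support hG.2).isOpen_compl⟩
  refine ⟨FormalModH7.zO 𝓘 W, hx, fun V hV s => FormalModH7.piM_ext h _ V fun n => ?_⟩
  refine M1.section_ext (M := (FSch.complMod 𝓘 G).F n) _ _ fun y hy => ?_
  have h1 : FSch.completionToX X 𝓘 n y ∉ CohB1.support G :=
    ((FormalModH7.lvU_zO 𝓘 h n W).ge ((Opens.map _).monotone hV hy) : y ∈ FSch.completionToX X 𝓘 n ⁻¹ᵁ W)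
  have h2 : y ∉ CohB1.support ((FSch.complMod 𝓘 G).F n) := fun hc =>
    h1 ((M2.support_pullback (FSch.completionToX X 𝓘 n) hG.1 hG.2).le hc)
  exact ((M1.notMem_support_iff _ y).1 h2 _).trans ((M1.notMem_support_iff _ y).1 h2 _).symm

end vanCompl

section main

theorem realModMap_comp {𝔛 : FSch.Sys.{u}} (hN : 𝔛.IsLocNoethFormal) {𝔐 𝔑 𝔓 : FSch.ModSys 𝔛} (φ : 𝔐 ⟶ 𝔑)
    (ψ : 𝔑 ⟶ 𝔓) : FSch.ModSys.realModMap hN.1 φ ≫ FSch.ModSys.realModMap hN.1 ψ =
      FSch.ModSys.realModMap hN.1 (φ ≫ ψ) :=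
  limit.hom_ext fun ⟨k⟩ => by
    show (_ ≫ _) ≫ FSch.realProj 𝔛 hN.1 𝔓.F 𝔓.toPush k = _ ≫ FSch.realProj 𝔛 hN.1 𝔓.F 𝔓.toPush k
    rw [Category.assoc, FormalModH7.realModMap_proj hN, FormalModH7.realModMap_proj hN]
    erw [reassoc_of% (FormalModH7.realModMap_proj hN φ k)]
    rw [← Functor.map_comp]
    rfl

theorem realModMap_id {𝔛 : FSch.Sys.{u}} (hN : 𝔛.IsLocNoethFormal) (𝔐 : FSch.ModSys 𝔛) :
    FSch.ModSys.realModMap hN.1 (𝟙 𝔐) = 𝟙 _ :=
  limit.hom_ext fun ⟨k⟩ => by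
    show _ ≫ FSch.realProj 𝔛 hN.1 𝔐.F 𝔐.toPush k = _ ≫ FSch.realProj 𝔛 hN.1 𝔐.F 𝔐.toPush k
    rw [FormalModH7.realModMap_proj hN, Category.id_comp]
    erw [CategoryTheory.Functor.map_id]
    rw [Category.comp_id]

variable {A : Type u} [CommRing A] [IsNoetherianRing A] (J : Ideal A) [IsAdicComplete J A] {X : Scheme.{u}}
  [X.Over (Spec (CommRingCat.of A))] [IsSeparated (X ↘ Spec (CommRingCat.of A))]
  [LocallyOfFiniteType (X ↘ Spec (CommRingCat.of A))] [QuasiCompact (X ↘ Spec (CommRingCat.of A))]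
  (𝓘 : X.IdealSheafData) (h𝓘 : 𝓘 = (FSch.idealSpec A J).comap (X ↘ Spec (CommRingCat.of A)))
  (h : (FSch.completionAlong X 𝓘).IsFormal)

include h𝓘 in
/-- Coherent modules on the completion vanishing outside a set proper over the base are algebraizable. -/
theorem exists_algebraization (𝔉 : FSch.ModF (FSch.completionAlong X 𝓘) h) (h𝔉 : FSch.IsCohF _ h 𝔉) {Z : Set X}
    (hZ : ClSub.IsProperOver (X ↘ Spec (CommRingCat.of A)) Z)
    (hv : ∀ x, FSch.completionToX X 𝓘 0 x ∉ Z → VanAt 𝔉 x) :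
    ∃ G : X.Modules, PS A G ∧ Nonempty (𝔉 ≅ (FSch.complMod 𝓘 G).realMod h) := by
  haveI : IsLocallyNoetherian X := LocallyOfFiniteType.isLocallyNoetherian (X ↘ Spec (CommRingCat.of A))
  have hN := FormalModH7.isLocNoethFormal_completionAlong 𝓘 h
  haveI : SheafOfModules.IsFinitePresentation
      (R := ModSite.ringSh ((FSch.completionAlong X 𝓘).Osh hN.1)) 𝔉 := h𝔉
  haveI := FormalModH7.isIso_zeta hN 𝔉
  let 𝔐 := FormalModH7.sysL hN 𝔉
  have hM : 𝔐.IsCoh := FormalModH7.isCoh_sysL hN 𝔉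
  have hG := isSys_gSys J 𝓘 h𝓘 𝔐 hM
  have h0 : ClSub.IsProperOver (X ↘ Spec (CommRingCat.of A)) (CohB1.support (pushL 𝓘 𝔐 0)) :=
    ClSub24.isProperOver_subset _ (fun y hy => by_contra fun hyZ => notMem_support_pushforward
        (FSch.completionToX X 𝓘 0) ((FSch.completionToX X 𝓘 0).isClosedMap _ (M1.isClosed_support (hM 0).2))
        (fun ⟨x, hx, hxy⟩ => notMem_support_of_vanAt hN 𝔐 hM
          ((hv x (hxy ▸ hyZ)).of_iso (asIso (FormalModH7.zeta hN 𝔉))) hx) hy)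
      (M1.isClosed_support (hG.coh 0).2) hZ
  obtain ⟨M, χ, hP, hq, hc⟩ := algAll_PS_main J (gSys 𝓘 𝔐) hG (ps_sys hG h0)
  obtain ⟨e⟩ := nonempty_iso_complMod J 𝓘 h𝓘 h 𝔐 hP.1 χ hq fun n => by
    rw [← gm_ofOpSequence (trG 𝓘 𝔐) n]; exact hc n
  refine ⟨M, hP, ⟨asIso (FormalModH7.zeta hN 𝔉) ≪≫ ⟨FSch.ModSys.realModMap h e.hom, FSch.ModSys.realModMap h e.inv,
    ?_, ?_⟩⟩⟩
  · rw [realModMap_comp hN, e.hom_inv_id, realModMap_id hN]
  · rw [realModMap_comp hN, e.inv_hom_id, realModMap_id hN]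

end main

end Groth.Agent.GExistH7

namespace Groth.Agent.GExistH7

/-- Extensions of algebraizable modules are algebraizable. -/
theorem algebraizable_of_exact {A : Type u} [CommRing A] [IsNoetherianRing A] (J : Ideal A) [IsAdicComplete J A]
    {X : Scheme.{u}} (f : X ⟶ Spec (CommRingCat.of A)) [IsSeparated f] [LocallyOfFiniteType f] [QuasiCompact f]
    (𝓘 : X.IdealSheafData) (h𝓘 : 𝓘 = (FSch.idealSpec A J).comap f)
    (hX : (FSch.completionAlong X 𝓘).IsFormal)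
    (S : ShortComplex (FSch.ModF (FSch.completionAlong X 𝓘) hX)) (hS : S.Exact) [Mono S.f]
    (h₂ : FSch.IsCohF _ hX S.X₂) {G₁ G₃ : X.Modules}
    (hp₁ : ClSub.IsProperOver f (CohB1.support G₁)) (hc₁ : Coh.IsCoh G₁)
    (hp₃ : ClSub.IsProperOver f (CohB1.support G₃)) (hc₃ : Coh.IsCoh G₃)
    (e₁ : Nonempty (S.X₁ ≅ (FSch.complMod 𝓘 G₁).realMod hX))
    (e₃ : Nonempty (S.X₃ ≅ (FSch.complMod 𝓘 G₃).realMod hX)) :
    ∃ G : X.Modules, Coh.IsCoh G ∧ ClSub.IsProperOver f (CohB1.support G) ∧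
      Nonempty (S.X₂ ≅ (FSch.complMod 𝓘 G).realMod hX) := by
  letI : X.Over (Spec (CommRingCat.of A)) := ⟨f⟩
  haveI : IsSeparated (X ↘ Spec (CommRingCat.of A)) := ‹IsSeparated f›
  haveI : LocallyOfFiniteType (X ↘ Spec (CommRingCat.of A)) := ‹LocallyOfFiniteType f›
  haveI : QuasiCompact (X ↘ Spec (CommRingCat.of A)) := ‹QuasiCompact f›
  have hZ : ClSub.IsProperOver f (CohB1.support G₁ ∪ CohB1.support G₃) := by
    rw [Set.union_eq_iUnion]
    exact ClSub24.isProperOver_iUnion f _ fun b => by cases b <;> assumption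
  obtain ⟨G, hG, e⟩ := exists_algebraization J 𝓘 h𝓘 hX S.X₂ h₂ hZ fun x hx =>
    VanAt.of_exact S hS ((vanAt_complMod 𝓘 hX hc₁ fun h => hx (Or.inl h)).of_iso e₁.some.symm)
      ((vanAt_complMod 𝓘 hX hc₃ fun h => hx (Or.inr h)).of_iso e₃.some.symm)
  exact ⟨G, hG.1, hG.2, e⟩

end Groth.Agent.GExistH7
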