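import Groth.Agent.Lib.GExistH7.PullLoc

/-!
Where the base change of a morphism is an isomorphism, pullback does not change sections.
-/

set_option autoImplicit false
set_option linter.style.haveILetI false
set_option backward.isDefEq.respectTransparency false

universe u

open CategoryTheory CategoryTheory.Limits AlgebraicGeometry Opposite

namespace Groth.Agent.GExistH7

open Groth.Agent.ModLimH13

theorem isIso_restrict_of_isPullback {X X' T Z : Scheme.{u}} {π : X' ⟶ X} {j : T ⟶ X} {pZ : Z ⟶ X'} {π' : Z ⟶ T}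
    (sq : IsPullback pZ π' π j) (O : X.Opens) [IsIso (π ∣_ O)] (V : T.Opens) (hV : V ≤ j ⁻¹ᵁ O) :
    IsIso (π' ∣_ V) := by
  have hbig : IsPullback ((π' ⁻¹ᵁ V).ι ≫ pZ) (π' ∣_ V) π (j.resLE O V hV ≫ O.ι) := by
    rw [Scheme.Hom.resLE_comp_ι]
    exact ((isPullback_morphismRestrict π' V).flip).paste_horiz sq
  have hr := isPullback_morphismRestrict π O
  obtain ⟨l, hl₁, hl₂⟩ : ∃ l, l ≫ (π ∣_ O) = (π' ∣_ V) ≫ j.resLE O V hV ∧ l ≫ (π ⁻¹ᵁ O).ι = (π' ⁻¹ᵁ V).ι ≫ pZ := by
    refine ⟨hr.lift ((π' ∣_ V) ≫ j.resLE O V hV) ((π' ⁻¹ᵁ V).ι ≫ pZ) ?_, hr.lift_fst _ _ _, hr.lift_snd _ _ _⟩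
    rw [Category.assoc]
    exact hbig.w.symm
  have h : IsPullback l (π' ∣_ V) (π ∣_ O) (j.resLE O V hV) :=
    IsPullback.of_right (hl₂.symm ▸ hbig) hl₁ hr.flip
  exact (MorphismProperty.isomorphisms Scheme.{u}).of_isPullback h (inferInstanceAs (IsIso (π ∣_ O)))

/-- Over an affine open over which the morphism is an isomorphism, the unit is bijective on sections. -/
theorem bijective_res'_of_iso {Z T : Scheme.{u}} (π' : Z ⟶ T) (M : T.Modules) [Coh.IsQCoh M] {V : T.Opens}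
    (hV : IsAffineOpen V) [IsIso (π' ∣_ V)] :
    Function.Bijective (res' π' M (le_refl (π' ⁻¹ᵁ V)) :
      Γ(M, V) → Γ((Scheme.Modules.pullback π').obj M, π' ⁻¹ᵁ V)) := by
  haveI : IsAffine V := hV
  have hV' : IsAffineOpen (π' ⁻¹ᵁ V) := IsAffine.of_isIso (π' ∣_ V)
  refine bijective_res'_of_bijective π' M hV hV' le_rfl ?_
  have h1 : IsIso ((π' ∣_ V).appTop) := inferInstance
  rw [morphismRestrict_appTop] at h1
  have h2 : IsIso (π'.app (V.ι ''ᵁ ⊤)) := @IsIso.of_isIso_comp_right _ _ _ _ _ _ _ inferInstance h1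
  rw [M1.image_ι_top] at h2
  rw [Scheme.Hom.appLE]
  simp only [homOfLE_refl, op_id, CategoryTheory.Functor.map_id, Category.comp_id]
  exact ConcreteCategory.bijective_of_isIso _

end Groth.Agent.GExistH7
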