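import Groth.Agent.Lib.ModLimH13.Sections
import Groth.Agent.Lib.GExistH7.LocAlg
import Groth.Agent.Lib.ModM1.ClosedImm

/-!
Sections of pullbacks over affine opens when the base ring barely changes.
-/

set_option autoImplicit false
set_option linter.style.haveILetI false
set_option backward.isDefEq.respectTransparency false

universe u

open CategoryTheory CategoryTheory.Limits AlgebraicGeometry Opposite TopologicalSpace TensorProduct

namespace Groth.Agent.GExistH7

open Groth.Agent.ModLimH13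

variable {X X' : Scheme.{u}} (g : X' ⟶ X) (M : X.Modules) [Coh.IsQCoh M] {W : X.Opens} (hW : IsAffineOpen W)
  {W' : X'.Opens} (hW' : IsAffineOpen W') (e : W' ≤ g ⁻¹ᵁ W)

include hW hW' in
theorem bijective_res'_of_killed (J : Ideal Γ(X, W)) (hk : ∀ r ∈ J, ∀ m : Γ(M, W), r • m = 0)
    (hs : ∀ s : Γ(X', W'), ∃ r, s - g.appLE W W' e r ∈ J.map (g.appLE W W' e).hom)
    (hi : ∀ r, g.appLE W W' e r ∈ J.map (g.appLE W W' e).hom → r ∈ J) :
    Function.Bijective (res' g M e : Γ(M, W) → Γ((Scheme.Modules.pullback g).obj M, W')) := by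
  letI := (g.appLE W W' e).hom.toAlgebra
  obtain ⟨Φ, hΦ⟩ := exists_pullEquiv g M e hW hW'
  have h := bijective_one_tmul_of_killed (R := Γ(X, W)) (S := Γ(X', W')) (M := Γ(M, W)) J hk hs hi
  have e' : (res' g M e : Γ(M, W) → Γ((Scheme.Modules.pullback g).obj M, W')) =
      Φ ∘ fun m => (1 : Γ(X', W')) ⊗ₜ[Γ(X, W)] m := funext fun m => by
    rw [Function.comp_apply, hΦ, one_smul]
  rw [e']
  exact Φ.bijective.comp h

include hW hW' in
theorem bijective_res'_of_bijective (hc : Function.Bijective (g.appLE W W' e)) :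
    Function.Bijective (res' g M e : Γ(M, W) → Γ((Scheme.Modules.pullback g).obj M, W')) := by
  refine bijective_res'_of_killed g M hW hW' e ⊥ (fun r hr m => by rw [Ideal.mem_bot.1 hr, zero_smul])
    (fun s => ?_) fun r hr => ?_
  · obtain ⟨r, rfl⟩ := hc.2 s
    exact ⟨r, by rw [sub_self]; exact zero_mem _⟩
  · rw [Ideal.map_bot, Ideal.mem_bot] at hr
    exact Ideal.mem_bot.2 (hc.1 (hr.trans (map_zero _).symm))

include hW hW' in
theorem res'_surjective_of_surjective (hc : Function.Surjective (g.appLE W W' e)) :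
    Function.Surjective (res' g M e : Γ(M, W) → Γ((Scheme.Modules.pullback g).obj M, W')) ∧
      ∀ m : Γ(M, W), res' g M e m = 0 →
        m ∈ (RingHom.ker (g.appLE W W' e).hom • ⊤ : Submodule Γ(X, W) Γ(M, W)) := by
  letI := (g.appLE W W' e).hom.toAlgebra
  obtain ⟨Φ, hΦ⟩ := exists_pullEquiv g M e hW hW'
  let T : Submodule Γ(X, W) Γ(M, W) := RingHom.ker (g.appLE W W' e).hom • ⊤
  have hm : ∀ m, res' g M e m = Φ ((1 : Γ(X', W')) ⊗ₜ[Γ(X, W)] m) := fun m => by rw [hΦ, one_smul]
  refine ⟨fun t => ?_, fun m h0 => ?_⟩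
  · obtain ⟨z, rfl⟩ := Φ.surjective t
    induction z using TensorProduct.induction_on with
    | zero => exact ⟨0, by rw [hm, TensorProduct.tmul_zero]⟩
    | tmul s m =>
      obtain ⟨r, rfl⟩ := hc s
      refine ⟨r • m, ?_⟩
      rw [hm, ← TensorProduct.smul_tmul, Algebra.smul_def, mul_one]
      rfl
    | add a b ha hb =>
      obtain ⟨p, hp⟩ := ha
      obtain ⟨q, hq⟩ := hb
      exact ⟨p + q, by rw [hm, TensorProduct.tmul_add, map_add, ← hm, ← hm, hp, hq, map_add]⟩
  · have h1 : (1 : Γ(X', W')) ⊗ₜ[Γ(X, W)] m = 0 := Φ.injective (by rw [← hm, h0, map_zero])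
    have h2 : (1 : Γ(X', W')) ⊗ₜ[Γ(X, W)] (T.mkQ m) = 0 := by
      have := congrArg (T.mkQ.lTensor Γ(X', W')) h1
      rwa [map_zero, LinearMap.lTensor_tmul] at this
    have hinj := (M1.bijective_one_tmul (R := Γ(X, W)) (S := Γ(X', W')) (M := Γ(M, W) ⧸ T) hc (fun r hr q => by
      obtain ⟨q, rfl⟩ := T.mkQ_surjective q
      rw [Submodule.mkQ_apply, ← Submodule.Quotient.mk_smul, Submodule.Quotient.mk_eq_zero]
      exact Submodule.smul_mem_smul hr Submodule.mem_top)).1
    exact (Submodule.Quotient.mk_eq_zero T).1 (hinj (h2.trans (TensorProduct.tmul_zero _ _).symm))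

end Groth.Agent.GExistH7
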