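import Groth.Agent.Lib.GExistH7.QProj
import Groth.Agent.Lib.GExistH7.Tricky
import Groth.Agent.Lib.GExistH7.PullLoc
import Groth.Agent.Lib.GExistH7.IsoLocus
import Groth.Agent.Lib.ModM1.FibreProd
import Groth.Agent.Lib.ProperFormalH7.Bc
import Groth.Agent.S0796

/-!
Tools for the inductive step: covers, supports, and units of closed subschemes.
-/

set_option autoImplicit false
set_option linter.style.haveILetI false
set_option backward.isDefEq.respectTransparency false

universe u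

open CategoryTheory CategoryTheory.Limits AlgebraicGeometry Opposite TopologicalSpace

namespace Groth.Agent.GExistH7

open Groth.Agent.FormalH7 Groth.Agent.ModLimH13

section cover

variable {X : Scheme.{u}} {ι : Type*} (W : ι → X.Opens) (hW : ∀ i, IsAffineOpen (W i))
  (hc : ∀ x : X, ∃ i, x ∈ W i)

include hW hc in
theorem hom_eq_zero_of_cover {M N : X.Modules} (hM : Coh.IsQCoh M) (φ : M ⟶ N)
    (h : ∀ i, ∀ s, φ.app (W i) s = 0) : φ = 0 := by
  haveI := hM
  suffices hst : ∀ (x : X) (b : M.presheaf.stalk x), (M1.stalkAb x).map φ b = 0 by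
    refine Scheme.Modules.hom_ext _ _ fun V => ?_
    ext t
    refine M1.section_ext (M := N) _ _ fun x hx => ?_
    rw [← M1.germ_naturality, hst]
    exact (map_zero _).symm
  intro x b
  obtain ⟨i, hi⟩ := hc x
  obtain ⟨r, m, hr, hb⟩ := M1.exists_germ_smul_eq M (hW i) hi b
  obtain ⟨u, hu⟩ := hr
  obtain ⟨V, hxV, c, hc'⟩ := X.presheaf.exists_germ_eq (↑u⁻¹ : X.presheaf.stalk x)
  let V' : X.Opens := V ⊓ W i
  have hx' : x ∈ V' := ⟨hxV, hi⟩
  have e : M.presheaf.germ V' x hx' (M1.ores (inf_le_left : V' ≤ V) c • M1.mres M (inf_le_right : V' ≤ W i) m) = b := by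
    rw [M1.germ_smul, M1.germ_mres]
    have e1 : X.presheaf.germ V' x hx' (M1.ores (inf_le_left : V' ≤ V) c) = (↑u⁻¹ : X.presheaf.stalk x) :=
      (X.presheaf.germ_res_apply _ _ _ _).trans hc'
    rw [e1, ← hb, ← hu, ← mul_smul, Units.inv_mul, one_smul]
  rw [← e, M1.germ_naturality, Scheme.Modules.Hom.app_smul, M1.app_mres, h i m, map_zero, smul_zero, map_zero]

include hW hc in
theorem isIso_of_cover {M N : X.Modules} (hM : Coh.IsQCoh M) (hN : Coh.IsQCoh N) (φ : M ⟶ N)
    (h : ∀ i, Function.Bijective (φ.app (W i))) : IsIso φ := by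
  haveI : Mono φ := Preadditive.mono_of_kernel_zero <| hom_eq_zero_of_cover W hW hc (M1.isQCoh_kernel hM hN φ) _
    fun i s => (h i).1 (by
      rw [map_zero]
      exact congrArg (fun g : kernel φ ⟶ N => g.app (W i) s) (kernel.condition φ))
  haveI : Epi φ := Abelian.epi_of_cokernel_π_eq_zero φ <| hom_eq_zero_of_cover W hW hc hN _ fun i s => by
    obtain ⟨t, rfl⟩ := (h i).2 s
    exact congrArg (fun g : M ⟶ cokernel φ => g.app (W i) t) (cokernel.condition φ)
  exact isIso_of_mono_of_epi φ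

end cover

section quot

variable {A : Type u} [CommRing A] {X : Scheme.{u}} [X.Over (Spec (CommRingCat.of A))] (L : Ideal A)

/-- The map of quotients induced by a map of modules. -/
noncomputable def modIMap {M N : X.Modules} (f : M ⟶ N) : modI L M ⟶ modI L N :=
  ((isQuot_modIπ L M).desc_killed (f ≫ modIπ L N) (isQuot_modIπ L N).killed).choose

theorem π_modIMap {M N : X.Modules} (f : M ⟶ N) : modIπ L M ≫ modIMap L f = f ≫ modIπ L N :=
  ((isQuot_modIπ L M).desc_killed (f ≫ modIπ L N) (isQuot_modIπ L N).killed).choose_spec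

end quot

section supports

theorem notMem_support_pushforward {X Y : Scheme.{u}} (f : X ⟶ Y) {M : X.Modules}
    (hcl : IsClosed (⇑f '' CohB1.support M)) {y : Y}
    (hy : y ∉ ⇑f '' CohB1.support M) : y ∉ CohB1.support ((Scheme.Modules.pushforward f).obj M) := by
  refine (M1.notMem_support_iff _ y).2 fun b => ?_
  obtain ⟨W, hyW, s, rfl⟩ := ((Scheme.Modules.pushforward f).obj M).presheaf.exists_germ_eq b
  let W' : Y.Opens := W ⊓ ⟨_, hcl.isOpen_compl⟩
  have hz : M1.mres ((Scheme.Modules.pushforward f).obj M) (show W' ≤ W from inf_le_left) s = 0 := by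
    refine M1.section_ext (M := M) (U := f ⁻¹ᵁ W') _ _ fun u hu => ?_
    exact ((M1.notMem_support_iff M u).1 (fun hc => hu.2 ⟨u, hc, rfl⟩) _).trans
      ((M1.notMem_support_iff M u).1 (fun hc => hu.2 ⟨u, hc, rfl⟩) _).symm
  rw [← M1.germ_mres _ (show W' ≤ W from inf_le_left) (show y ∈ W' from ⟨hyW, hy⟩) s, hz]
  exact map_zero _

variable {A : Type u} [CommRing A] [IsNoetherianRing A] {X Y : Scheme.{u}} [X.Over (Spec (CommRingCat.of A))]
  [Y.Over (Spec (CommRingCat.of A))] [LocallyOfFiniteType (X ↘ Spec (CommRingCat.of A))]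
  [LocallyOfFiniteType (Y ↘ Spec (CommRingCat.of A))]

omit [IsNoetherianRing A] in
theorem PS.pull (f : X ⟶ Y) [IsProper f] (hf : f ≫ (Y ↘ Spec (CommRingCat.of A)) = X ↘ Spec (CommRingCat.of A))
    {M : Y.Modules} (h : PS A M) : PS A ((Scheme.Modules.pullback f).obj M) :=
  ⟨M1.isCoh_pullback f h.1, ClSub24.isProperOver_subset _ (M2.support_pullback f h.1.1 h.1.2).le
    (M1.isClosed_support (M1.isCoh_pullback f h.1).2)
    (ClSub24.isProperOver_preimage (X ↘ Spec (CommRingCat.of A)) (Y ↘ Spec (CommRingCat.of A)) f hf h.2)⟩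

theorem PS.push (f : X ⟶ Y) [IsProper f] (hf : f ≫ (Y ↘ Spec (CommRingCat.of A)) = X ↘ Spec (CommRingCat.of A))
    {M : X.Modules} (h : PS A M) : PS A ((Scheme.Modules.pushforward f).obj M) := by
  haveI : IsLocallyNoetherian Y := LocallyOfFiniteType.isLocallyNoetherian (Y ↘ Spec (CommRingCat.of A))
  have hc := ProperFormalH7.isCoh_pushforward_of_isProper f h.1
  exact ⟨hc, ClSub24.isProperOver_subset _
    (fun y hy => by_contra fun hn => notMem_support_pushforward f (f.isClosedMap _ (M1.isClosed_support h.1.2)) hn hy)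
    (M1.isClosed_support hc.2)
    (ClSub24.isProperOver_image (X ↘ Spec (CommRingCat.of A)) (Y ↘ Spec (CommRingCat.of A)) f hf
      (Or.inr inferInstance) h.2)⟩

theorem PS.biprod {M N : X.Modules} (hM : PS A M) (hN : PS A N) : PS A (M ⊞ N) := by
  haveI : IsLocallyNoetherian X := LocallyOfFiniteType.isLocallyNoetherian (X ↘ Spec (CommRingCat.of A))
  have hc := M1.isCoh_biprod hM.1 hN.1
  exact ⟨hc, (Groth.Agent.S0796.result (X ↘ Spec (CommRingCat.of A))
    (ShortComplex.mk (biprod.inl : M ⟶ M ⊞ N) biprod.snd biprod.inl_snd)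
    (ShortComplex.Splitting.ofHasBinaryBiproduct M N).shortExact hM.1 hc hN.1).2 ⟨hM.2, hN.2⟩⟩

end supports

section closed

variable {X : Scheme.{u}} (J : X.IdealSheafData)

theorem unit_app_eq (M : X.Modules) {Y : Scheme.{u}} (l : Y ⟶ X) {W : X.Opens} (s : Γ(M, W)) :
    ((Scheme.Modules.pullbackPushforwardAdjunction l).unit.app M).app W s = res' l M (le_refl (l ⁻¹ᵁ W)) s := by
  rw [res', M1.mres_id]

theorem smul_push_eq_zero (N : J.subscheme.Modules) {W : X.Opens} (hW : IsAffineOpen W) {r : Γ(X, W)}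
    (hr : r ∈ J.ideal ⟨W, hW⟩) (s : Γ((Scheme.Modules.pushforward J.subschemeι).obj N, W)) : r • s = 0 := by
  rw [← J.ker_subschemeι_app] at hr
  show (J.subschemeι.app W r) • (show Γ(N, J.subschemeι ⁻¹ᵁ W) from s) = 0
  rw [show J.subschemeι.app W r = 0 from hr, zero_smul]

theorem unit_closed_app (M : X.Modules) [Coh.IsQCoh M] {W : X.Opens} (hW : IsAffineOpen W) :
    Function.Surjective (((Scheme.Modules.pullbackPushforwardAdjunction J.subschemeι).unit.app M).app W) ∧
      ∀ s, ((Scheme.Modules.pullbackPushforwardAdjunction J.subschemeι).unit.app M).app W s = 0 →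
        s ∈ (J.ideal ⟨W, hW⟩ • ⊤ : Submodule Γ(X, W) Γ(M, W)) := by
  have happ : J.subschemeι.appLE W (J.subschemeι ⁻¹ᵁ W) le_rfl = J.subschemeι.app W := by
    simp [Scheme.Hom.appLE]
  obtain ⟨h1, h2⟩ := res'_surjective_of_surjective J.subschemeι M hW (hW.preimage J.subschemeι)
    (le_refl (J.subschemeι ⁻¹ᵁ W)) (by rw [happ]; exact J.subschemeι_app_surjective ⟨W, hW⟩)
  refine ⟨fun t => ?_, fun s hs => ?_⟩
  · obtain ⟨s, hs⟩ := h1 t
    exact ⟨s, (unit_app_eq M _ s).trans hs⟩
  · have := h2 s ((unit_app_eq M _ s).symm.trans hs)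
    rwa [happ, J.ker_subschemeι_app ⟨W, hW⟩] at this

theorem isIso_unit_of_killed {ι : Type*} (W : ι → X.Opens) (hW : ∀ i, IsAffineOpen (W i))
    (hc : ∀ x : X, ∃ i, x ∈ W i) (M : X.Modules) (hM : Coh.IsQCoh M)
    (hk : ∀ i, ∀ r ∈ J.ideal ⟨W i, hW i⟩, ∀ s : Γ(M, W i), r • s = 0) :
    IsIso ((Scheme.Modules.pullbackPushforwardAdjunction J.subschemeι).unit.app M) := by
  haveI := hM
  refine isIso_of_cover W hW hc hM (M1.isQCoh_push J.subschemeι (M1.isQCoh_pullback _ hM)) _ fun i => ?_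
  obtain ⟨h1, h2⟩ := unit_closed_app J M (hW i)
  refine ⟨(injective_iff_map_eq_zero _).2 fun s hs => ?_, h1⟩
  refine Submodule.smul_induction_on (h2 s hs) (fun r hr t _ => hk i r hr t) fun a b ha hb => by rw [ha, hb, add_zero]

end closed

theorem isIso_restrict_le {X X' : Scheme.{u}} (π : X' ⟶ X) (U V : X.Opens) (h : V ≤ U) [IsIso (π ∣_ U)] :
    IsIso (π ∣_ V) :=
  isIso_restrict_of_isPullback (IsPullback.of_horiz_isIso (fst := 𝟙 X') (snd := π) (f := π) (g := 𝟙 X)
    ⟨by simp⟩) U V h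

end Groth.Agent.GExistH7
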