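import Groth.Agent.Lib.FormalH7.ModPow
import Mathlib.CategoryTheory.Abelian.Refinements

/-!
Maps identifying the target with the quotient of the source by an ideal of the base, and systems of such.
-/

set_option autoImplicit false
set_option linter.style.haveILetI false
set_option backward.isDefEq.respectTransparency false

universe u

open CategoryTheory CategoryTheory.Limits AlgebraicGeometry Opposite

namespace Groth.Agent.GExistH7

open Groth.Agent.FormalH7

variable {A : Type u} [CommRing A] {X : Scheme.{u}} [X.Over (Spec (CommRingCat.of A))]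

/-- `p : M ⟶ N` identifies `N` with `M / L M`. -/
structure IsQuot (L : Ideal A) {M N : X.Modules} (p : M ⟶ N) : Prop where
  epi : Epi p
  smul : ∀ a ∈ L, Formal.smulMod A M a ≫ p = 0
  desc : ∀ {T : X.Modules} (φ : M ⟶ T), (∀ a ∈ L, Formal.smulMod A M a ≫ φ = 0) → ∃ φ', p ≫ φ' = φ

namespace IsQuot

variable {L L' : Ideal A} {M N P T : X.Modules} {p : M ⟶ N} {q : N ⟶ P}

theorem killed (h : IsQuot L p) : Formal.KilledBy L N := fun a ha => by
  haveI := h.epi
  rw [← cancel_epi p, ← smulMod_naturality, h.smul a ha, comp_zero]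

theorem desc_killed (h : IsQuot L p) (φ : M ⟶ T) (hT : Formal.KilledBy L T) : ∃ φ', p ≫ φ' = φ :=
  h.desc φ fun a ha => by rw [smulMod_naturality, hT a ha, comp_zero]

theorem hom_ext (h : IsQuot L p) {f g : N ⟶ T} (e : p ≫ f = p ≫ g) : f = g := by
  haveI := h.epi
  exact (cancel_epi p).1 e

theorem trans (hp : IsQuot L p) (hq : IsQuot L' q) (hL : L ≤ L') : IsQuot L' (p ≫ q) := by
  haveI := hp.epi
  haveI := hq.epi
  refine ⟨epi_comp _ _, fun a ha => by rw [smulMod_naturality_assoc, hq.smul a ha, comp_zero], fun {T} φ hφ => ?_⟩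
  obtain ⟨φ₁, rfl⟩ := hp.desc φ fun a ha => hφ a (hL ha)
  obtain ⟨φ₂, rfl⟩ := hq.desc φ₁ fun a ha => (cancel_epi p).1 (by rw [← smulMod_naturality_assoc, hφ a ha, comp_zero])
  exact ⟨φ₂, Category.assoc _ _ _⟩

theorem of_comp {p : M ⟶ N} [Epi p] (h : IsQuot L' (p ≫ q)) : IsQuot L' q := by
  haveI := h.epi
  refine ⟨epi_of_epi p q, fun a ha => (cancel_epi p).1 ?_, fun {T} φ hφ => ?_⟩
  · rw [← smulMod_naturality_assoc, h.smul a ha, comp_zero]
  · obtain ⟨φ', h'⟩ := h.desc (p ≫ φ) fun a ha => by rw [smulMod_naturality_assoc, hφ a ha, comp_zero]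
    exact ⟨φ', (cancel_epi p).1 (by rw [← Category.assoc, h'])⟩

theorem exists_iso (h : IsQuot L p) {N' : X.Modules} {p' : M ⟶ N'} (h' : IsQuot L p') :
    ∃ e : N ≅ N', p ≫ e.hom = p' := by
  obtain ⟨f, hf⟩ := h.desc p' h'.smul
  obtain ⟨g, hg⟩ := h'.desc p h.smul
  exact ⟨⟨f, g, h.hom_ext (by rw [← Category.assoc, hf, hg, Category.comp_id]),
    h'.hom_ext (by rw [← Category.assoc, hg, hf, Category.comp_id])⟩, hf⟩

theorem comp_iso (h : IsQuot L p) {N' : X.Modules} (e : N ≅ N') : IsQuot L (p ≫ e.hom) := by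
  haveI := h.epi
  refine ⟨epi_comp _ _, fun a ha => by rw [← Category.assoc, h.smul a ha, zero_comp], fun {T} φ hφ => ?_⟩
  obtain ⟨φ', hφ'⟩ := h.desc φ hφ
  exact ⟨e.inv ≫ φ', by rw [Category.assoc, e.hom_inv_id_assoc, hφ']⟩

theorem of_eq (h : IsQuot L p) {p' : M ⟶ N} (e : p = p') : IsQuot L p' := e ▸ h

/-- The underlying cokernel statement. -/
theorem isIso_desc (h : IsQuot L p) :
    ∃ w : Formal.smulFamily L M ≫ p = 0, IsIso (cokernel.desc _ _ w) := by
  refine ⟨(smulFamily_comp_eq_zero_iff p).2 h.smul, ?_⟩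
  obtain ⟨g, hg⟩ := h.desc (cokernel.π (Formal.smulFamily L M))
    ((smulFamily_comp_eq_zero_iff _).1 (cokernel.condition _))
  refine ⟨g, ?_, h.hom_ext ?_⟩
  · rw [← cancel_epi (cokernel.π (Formal.smulFamily L M)), cokernel.π_desc_assoc, hg, Category.comp_id]
  · rw [← Category.assoc, hg, cokernel.π_desc, Category.comp_id]

theorem isIso_of_killed (h : IsQuot L p) (hM : Formal.KilledBy L M) : IsIso p := by
  obtain ⟨g, hg⟩ := h.desc_killed (𝟙 M) hM
  exact ⟨g, hg, h.hom_ext (by rw [← Category.assoc, hg, Category.id_comp, Category.comp_id])⟩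

end IsQuot

theorem isQuot_of_isIso_desc {L : Ideal A} {M N : X.Modules} {p : M ⟶ N} (w : Formal.smulFamily L M ≫ p = 0)
    (hw : IsIso (cokernel.desc _ _ w)) : IsQuot L p := by
  refine ⟨?_, (smulFamily_comp_eq_zero_iff p).1 w, fun {T} φ hφ => ?_⟩
  · rw [← cokernel.π_desc _ _ w]; exact epi_comp _ _
  · exact ⟨inv (cokernel.desc _ _ w) ≫ cokernel.desc _ φ ((smulFamily_comp_eq_zero_iff φ).2 hφ), by
      have e : p ≫ inv (cokernel.desc _ _ w) = cokernel.π _ :=
        (IsIso.comp_inv_eq _).2 (cokernel.π_desc _ _ w).symm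
      rw [← Category.assoc, e, cokernel.π_desc]⟩

/-- `M / L M`. -/
noncomputable abbrev modI (L : Ideal A) (M : X.Modules) : X.Modules := cokernel (Formal.smulFamily L M)

/-- The projection to `M / L M`. -/
noncomputable abbrev modIπ (L : Ideal A) (M : X.Modules) : M ⟶ modI L M := cokernel.π _

theorem isQuot_modIπ (L : Ideal A) (M : X.Modules) : IsQuot L (modIπ L M) :=
  isQuot_of_isIso_desc (cokernel.condition _) (by
    rw [show cokernel.desc _ (modIπ L M) (cokernel.condition _) = 𝟙 (modI L M) from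
      coequalizer.hom_ext ((cokernel.π_desc _ _ _).trans (Category.comp_id _).symm)]
    infer_instance)

theorem isQuot_modPowπ (I : Ideal A) (n : ℕ) (M : X.Modules) : IsQuot (I ^ n) (Formal.modPowπ I n M) :=
  isQuot_modIπ (I ^ n) M

section smul

variable {M : X.Modules}

theorem smulMod_add (a b : A) :
    Formal.smulMod A M (a + b) = Formal.smulMod A M a + Formal.smulMod A M b := by
  refine Scheme.Modules.hom_ext _ _ fun U => ?_
  ext s
  change mult X (a + b) U • s = mult X a U • s + mult X b U • s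
  exact (congrArg (· • s) (by simp only [mult, map_add] : mult X (a + b) U = mult X a U + mult X b U)).trans
    (add_smul _ _ _)

theorem smulMod_mul (a b : A) :
    Formal.smulMod A M (a * b) = Formal.smulMod A M b ≫ Formal.smulMod A M a := by
  refine Scheme.Modules.hom_ext _ _ fun U => ?_
  ext s
  change mult X (a * b) U • s = mult X a U • mult X b U • s
  exact (congrArg (· • s) (by simp only [mult, map_mul] : mult X (a * b) U = mult X a U * mult X b U)).trans
    (mul_smul _ _ _)

theorem smulMod_mul' (a b : A) :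
    Formal.smulMod A M (a * b) = Formal.smulMod A M a ≫ Formal.smulMod A M b := by
  rw [mul_comm, smulMod_mul]

theorem smulMod_zero : Formal.smulMod A M (0 : A) = 0 := by
  have h := smulMod_add (M := M) (0 : A) 0
  rw [add_zero] at h
  simpa using h

theorem smulMod_one : Formal.smulMod A M (1 : A) = 𝟙 M := by
  refine Scheme.Modules.hom_ext _ _ fun U => ?_
  ext s
  change mult X (1 : A) U • s = s
  exact (congrArg (· • s) (by simp only [mult, map_one] : mult X (1 : A) U = 1)).trans (one_smul _ _)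

theorem smul_span_comp_eq_zero {S : Set A} {N : X.Modules} (φ : M ⟶ N)
    (h : ∀ a ∈ S, Formal.smulMod A M a ≫ φ = 0) : ∀ a ∈ Ideal.span S, Formal.smulMod A M a ≫ φ = 0 := by
  intro a ha
  induction ha using Submodule.span_induction with
  | mem a ha => exact h a ha
  | zero => rw [smulMod_zero, zero_comp]
  | add a b _ _ ha hb => rw [smulMod_add, Preadditive.add_comp, ha, hb, add_zero]
  | smul r a _ ha => rw [smul_eq_mul, smulMod_mul', Category.assoc, ha, comp_zero]

theorem smul_sup_comp_eq_zero {L L' : Ideal A} {N : X.Modules} (φ : M ⟶ N)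
    (h : ∀ a ∈ L, Formal.smulMod A M a ≫ φ = 0) (h' : ∀ a ∈ L', Formal.smulMod A M a ≫ φ = 0) :
    ∀ a ∈ L ⊔ L', Formal.smulMod A M a ≫ φ = 0 := by
  intro a ha
  obtain ⟨b, hb, c, hc, rfl⟩ := Submodule.mem_sup.1 ha
  rw [smulMod_add, Preadditive.add_comp, h b hb, h' c hc, add_zero]

/-- The quotient by a principal ideal. -/
theorem isQuot_span_singleton {x : A} {N : X.Modules} {p : M ⟶ N} [Epi p]
    (w : Formal.smulMod A M x ≫ p = 0) (hex : (ShortComplex.mk _ p w).Exact) :
    IsQuot (Ideal.span {x}) p := by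
  refine ⟨inferInstance, smul_span_comp_eq_zero p (by simpa using w), fun {T} φ hφ => ?_⟩
  exact ⟨hex.desc φ (hφ x (Ideal.mem_span_singleton_self x)), hex.g_desc _ _⟩

theorem IsQuot.exact_span_singleton {x : A} {N : X.Modules} {p : M ⟶ N} (h : IsQuot (Ideal.span {x}) p) :
    (ShortComplex.mk _ p (h.smul x (Ideal.mem_span_singleton_self x))).Exact := by
  haveI := h.epi
  obtain ⟨g, hg⟩ := h.desc (cokernel.π (Formal.smulMod A M x))
    (smul_span_comp_eq_zero _ (by simp))
  refine ShortComplex.exact_of_g_is_cokernel _ (CokernelCofork.IsColimit.ofπ _ _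
    (fun {T} f hf => g ≫ cokernel.desc _ f hf) (fun {T} f hf => ?_) (fun {T} f hf m hm => h.hom_ext ?_))
  · simp only
    rw [← Category.assoc, hg, cokernel.π_desc]
  · rw [hm, ← Category.assoc, hg, cokernel.π_desc]

theorem smul_kills_kernel {L L' : Ideal A} {N : X.Modules} {p : M ⟶ N} (hp : IsQuot L p) {a : A}
    (ha : ∀ b ∈ L, a * b ∈ L') (hM : Formal.KilledBy L' M) :
    ∃ g : N ⟶ M, p ≫ g = Formal.smulMod A M a :=
  hp.desc _ fun b hb => by rw [← smulMod_mul', mul_comm]; exact hM _ (ha b hb)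

end smul

end Groth.Agent.GExistH7
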