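import Groth.Agent.Lib.GExistH7.ProjExist
import Groth.Agent.Lib.ModM1.LocFree
import Groth.Agent.Lib.TensorMod.Invertible

/-!
Existence of algebraizations over an affine scheme that is proper over the base.
-/

set_option autoImplicit false
set_option linter.style.haveILetI false
set_option backward.isDefEq.respectTransparency false

universe u

open CategoryTheory CategoryTheory.Limits AlgebraicGeometry Opposite

namespace Groth.Agent.GExistH7

open Groth.Agent.FormalH7

variable {T : Scheme.{u}} [IsAffine T]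

theorem epi_of_top_surjective {M N : T.Modules} (hN : Coh.IsQCoh N) (φ : M ⟶ N)
    (h : Function.Surjective (φ.app ⊤)) : Epi φ := by
  haveI := hN
  rw [M1.epi_iff_stalk]
  intro x a
  obtain ⟨r, m, hr, ha⟩ := M1.exists_germ_smul_eq N (isAffineOpen_top T) (show x ∈ (⊤ : T.Opens) from trivial) a
  obtain ⟨m₀, rfl⟩ := h m
  obtain ⟨u, hu⟩ := hr
  have e : (↑u⁻¹ : T.presheaf.stalk x) • N.presheaf.germ ⊤ x trivial (φ.app ⊤ m₀) = a := by
    rw [← ha, ← hu, ← mul_smul, Units.inv_mul, one_smul]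
  obtain ⟨W, hxW, c, hc⟩ := T.presheaf.exists_germ_eq (↑u⁻¹ : T.presheaf.stalk x)
  refine ⟨M.presheaf.germ W x hxW (c • M1.mres M (le_top : W ≤ ⊤) m₀), ?_⟩
  rw [M1.germ_naturality, Scheme.Modules.Hom.app_smul, M1.app_mres, M1.germ_smul, M1.germ_mres, ← e, ← hc]

/-- Free modules lift against all extensions of coherent modules on an affine scheme. -/
theorem lifts_affine [IsLocallyNoetherian T] : Lifts (fun M : T.Modules => Coh.IsCoh M) := by
  intro F hF m Q _
  haveI := M1.finite_sections hF.1 hF.2 (isAffineOpen_top T)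
  obtain ⟨r, g, hg⟩ := Module.Finite.exists_fin' Γ(T, ⊤) Γ(F, ⊤)
  let E := FlatMod.freeMod T r
  let p : E ⟶ F := Sigma.desc fun i => M1.secHom (g (Pi.single i 1))
  have hE : Coh.IsCoh E := (M1.isCoh_iff_isFP _).2
    (M1.isFP_of_isFinLocFree (M2.isFinLocFree_of_ofRank (M2.isFinLocFreeOfRank_freeMod T r)))
  have hp : Epi p := by
    refine epi_of_top_surjective hF.1 p fun s => ?_
    obtain ⟨a, rfl⟩ := hg s
    refine ⟨∑ i, a i • (Sigma.ι (fun _ : Fin r => Coh.structureModule T) i).app ⊤ (M1.one ⊤), ?_⟩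
    rw [map_sum]
    have : ∀ i, p.app ⊤ (a i • (Sigma.ι (fun _ : Fin r => Coh.structureModule T) i).app ⊤ (M1.one ⊤)) =
        g (Pi.single i (a i)) := fun i => by
      rw [Scheme.Modules.Hom.app_smul]
      have h1 : p.app ⊤ ((Sigma.ι (fun _ : Fin r => Coh.structureModule T) i).app ⊤ (M1.one ⊤)) =
          g (Pi.single i 1) := by
        refine ((congrArg (fun φ => φ.app ⊤ (M1.one ⊤))
          (Sigma.ι_desc (fun i => M1.secHom (g (Pi.single i 1))) i)).trans (M1.secHom_app_one _))
      rw [h1, ← map_smul, ← Pi.single_smul, smul_eq_mul, mul_one]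
    rw [Finset.sum_congr rfl fun i _ => this i, ← map_sum, Finset.univ_sum_single]
  refine ⟨E, p, hE, hp, fun S hS h2 h3 _ f => ?_⟩
  haveI := hS.epi_g
  have hl : ∀ i, ∃ s : Γ(S.X₂, ⊤), S.g.app ⊤ s =
      f.app ⊤ ((Sigma.ι (fun _ : Fin r => Coh.structureModule T) i).app ⊤ (M1.one ⊤)) := fun i =>
    M1.app_surjective_affine_of_isQCoh h2.1 h3.1 S.g (isAffineOpen_top T) _
  choose s hs using hl
  refine ⟨Sigma.desc fun i => M1.secHom (s i), Sigma.hom_ext _ _ fun i => ?_⟩
  rw [Sigma.ι_desc_assoc, M1.secHom_comp]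
  refine M1.unit_hom_ext ?_
  rw [M1.secHom_app_one, hs]
  rfl

/-- Existence over an affine scheme proper over the base. -/
theorem algAll_affine {A : Type u} [CommRing A] [IsNoetherianRing A] [T.Over (Spec (CommRingCat.of A))]
    [IsProper (T ↘ Spec (CommRingCat.of A))] (I : Ideal A) [IsAdicComplete I A] :
    AlgAll (fun M : T.Modules => Coh.IsCoh M) I :=
  haveI : IsLocallyNoetherian T := LocallyOfFiniteType.isLocallyNoetherian (T ↘ Spec (CommRingCat.of A))
  algAll_of_lifts lifts_affine I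

end Groth.Agent.GExistH7
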