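import Groth.Agent.Lib.GExistH7.Model

/-!
The comparison map of a system to the completion of the direct image of an algebraization of its pullback.
-/

set_option autoImplicit false
set_option linter.style.haveILetI false
set_option backward.isDefEq.respectTransparency false

universe u

open CategoryTheory CategoryTheory.Limits AlgebraicGeometry Opposite

namespace Groth.Agent.GExistH7

open Groth.Agent.FormalH7

variable {A : Type u} [CommRing A] {X X' : Scheme.{u}} [X.Over (Spec (CommRingCat.of A))]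
  [X'.Over (Spec (CommRingCat.of A))] (π : X' ⟶ X)
  (hπ : π ≫ (X ↘ Spec (CommRingCat.of A)) = X' ↘ Spec (CommRingCat.of A))

include hπ in
/-- The kernels of the direct images of the projections are small. -/
theorem exists_kernel_small {x : A} {P : X'.Modules → Prop} (hS : Stat P) {F : X'.Modules} (hF : P F)
    {T : ℕ → X'.Modules} (p : ∀ n, F ⟶ T n) (hp : ∀ n, IsQuot (Ideal.span {x} ^ (n + 1)) (p n)) :
    ∃ c, ∀ k j, k + c ≤ j → kernel.ι ((Scheme.Modules.pushforward π).map (p j)) ≫
      modIπ (Ideal.span {x} ^ (k + 1)) ((Scheme.Modules.pushforward π).obj F) = 0 := by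
  let P' := Scheme.Modules.pushforward π
  haveI : P'.Additive := (Scheme.Modules.pullbackPushforwardAdjunction π).right_adjoint_additive
  obtain ⟨c, hc⟩ := hS F hF (fun _ => F) (fun j => Formal.smulMod A F (x ^ j)) (fun _ => hF) fun j => by
    rw [pow_succ, smulMod_mul', ← Category.assoc, kernel.condition, zero_comp]
  refine ⟨c, fun k j hj => ?_⟩
  haveI := (hp j).epi
  let S := Formal.smulMod A F (x ^ c)
  let W := Abelian.image S
  have hw : (Abelian.image.ι S ≫ Formal.smulMod A F (x ^ (j + 1 - c))) ≫ p j = 0 := by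
    rw [← cancel_epi (Abelian.factorThruImage S), comp_zero, ← Category.assoc, ← Category.assoc, Abelian.image.fac,
      ← smulMod_mul', ← pow_add, Nat.add_sub_cancel' (by omega)]
    exact (hp j).smul _ (mem_span_pow x (j + 1))
  let m : W ⟶ kernel (p j) := kernel.lift _ _ hw
  haveI : Epi m := by
    rw [epi_iff_surjective_up_to_refinements]
    intro V y
    obtain ⟨V', π', hπ', z, hz⟩ := exists_eq_smul (hp j) (y ≫ kernel.ι _)
      (by rw [Category.assoc, kernel.condition, comp_zero])
    refine ⟨V', π', hπ', z ≫ Abelian.factorThruImage S, (cancel_mono (kernel.ι (p j))).1 ?_⟩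
    rw [Category.assoc, hz, Category.assoc, Category.assoc, kernel.lift_ι,
      ← Category.assoc (Abelian.factorThruImage S), Abelian.image.fac, ← smulMod_mul', ← pow_add,
      Nat.add_sub_cancel' (by omega)]
  haveI : Mono m := by
    refine Preadditive.mono_of_cancel_zero _ fun {V} y hy => ?_
    obtain ⟨V', π', hπ', z, hz⟩ := surjective_up_to_refinements_of_epi (Abelian.factorThruImage S) y
    have h1 : z ≫ Formal.smulMod A F (x ^ (j + 1)) = 0 := by
      have := congrArg (fun t => π' ≫ t ≫ kernel.ι (p j)) hy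
      rw [zero_comp, comp_zero, Category.assoc, kernel.lift_ι, reassoc_of% hz, ← Category.assoc (Abelian.factorThruImage S),
        Abelian.image.fac, ← smulMod_mul', ← pow_add, Nat.add_sub_cancel' (by omega)] at this
      exact this
    have h2 : z ≫ S = 0 := by
      rw [← kernel.lift_ι (Formal.smulMod A F (x ^ (j + 1))) z h1, Category.assoc, hc (j + 1) (by omega), comp_zero]
    rw [← cancel_epi π', hz, comp_zero, ← cancel_mono (Abelian.image.ι S), Category.assoc, Abelian.image.fac, h2,
      zero_comp]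
  haveI : IsIso m := isIso_of_mono_of_epi m
  have e : kernel.ι (p j) = (inv m ≫ Abelian.image.ι S) ≫ Formal.smulMod A F (x ^ (j + 1 - c)) := by
    rw [Category.assoc, eq_comm, IsIso.inv_comp_eq, kernel.lift_ι]
  haveI : PreservesLimit (parallelPair (p j) 0) P' :=
    (Scheme.Modules.pullbackPushforwardAdjunction π).rightAdjoint_preservesLimits.preservesLimitsOfShape.preservesLimit
  have e2 : (PreservesKernel.iso P' (p j)).hom ≫ kernel.ι (P'.map (p j)) = P'.map (kernel.ι (p j)) := by simp
  rw [← cancel_epi (PreservesKernel.iso P' (p j)).hom, reassoc_of% e2, e, Functor.map_comp, Category.assoc,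
    pushforward_map_smulMod π hπ, (isQuot_modIπ _ _).smul _
      (Ideal.pow_le_pow_right (show k + 1 ≤ j + 1 - c by omega) (mem_span_pow x (j + 1 - c))), comp_zero, comp_zero]

include hπ in
/-- The comparison map. -/
theorem exists_alpha {x : A} {G : ℕᵒᵖ ⥤ X.Modules} (hG : IsSys (Ideal.span {x}) G) {P : X'.Modules → Prop}
    (hS : Stat P) {F : X'.Modules} (hF : P F)
    (χ' : ∀ n, F ⟶ (Scheme.Modules.pullback π).obj (G.obj (op n)))
    (hq : ∀ n, IsQuot (Ideal.span {x} ^ (n + 1)) (χ' n))
    (hcompat : ∀ n m (h : n ≤ m), χ' m ≫ (Scheme.Modules.pullback π).map (gm G h) = χ' n)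
    (hfac : ∀ n, (Scheme.Modules.pullbackPushforwardAdjunction π).unit.app (G.obj (op n)) ≫
      cokernel.π ((Scheme.Modules.pushforward π).map (χ' n)) = 0) :
    ∃ (α : ∀ n, G.obj (op n) ⟶ modI (Ideal.span {x} ^ (n + 1)) ((Scheme.Modules.pushforward π).obj F)) (c : ℕ),
      IsFam α ∧ IsCmp π x G F χ' α c := by
  let P' := Scheme.Modules.pushforward π
  let η := (Scheme.Modules.pullbackPushforwardAdjunction π).unit
  obtain ⟨c, hc⟩ := exists_kernel_small π hπ hS hF χ' hq
  have hkey : ∀ k, ∃ α : G.obj (op k) ⟶ modI (Ideal.span {x} ^ (k + 1)) (P'.obj F),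
      ∀ {W : X.Modules} (y : W ⟶ G.obj (op (k + c))) (h : W ⟶ P'.obj F),
        h ≫ P'.map (χ' (k + c)) = y ≫ η.app _ → y ≫ gm G (Nat.le_add_right k c) ≫ α = h ≫ modIπ _ _ := by
    intro k
    let ψ := P'.map (χ' (k + c))
    let I₁ := Abelian.image ψ
    obtain ⟨v, hv⟩ : ∃ v : G.obj (op (k + c)) ⟶ I₁, v ≫ Abelian.image.ι ψ = η.app _ :=
      ⟨kernel.lift _ _ (hfac (k + c)), kernel.lift_ι _ _ _⟩
    obtain ⟨s, hs⟩ := kernel_desc (Abelian.factorThruImage ψ) (modIπ (Ideal.span {x} ^ (k + 1)) (P'.obj F)) (by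
      have e : kernel.ι (Abelian.factorThruImage ψ) ≫ ψ = 0 := by
        conv_lhs => arg 2; rw [← Abelian.image.fac ψ]
        rw [← Category.assoc, kernel.condition, zero_comp]
      rw [← kernel.lift_ι ψ _ e, Category.assoc, hc k (k + c) le_rfl, comp_zero])
    obtain ⟨α, hα⟩ := (hG.quot_gm (Nat.le_add_right k c)).desc_killed (v ≫ s) (isQuot_modIπ _ _).killed
    refine ⟨α, fun {W} y h hh => ?_⟩
    have e1 : y ≫ v = h ≫ Abelian.factorThruImage ψ := by
      rw [← cancel_mono (Abelian.image.ι ψ), Category.assoc, hv, Category.assoc, Abelian.image.fac, hh]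
    rw [hα, reassoc_of% e1, hs]
  choose α hα using hkey
  refine ⟨α, c, fun k => ?_, fun k U y h hh => ?_⟩
  · let ψ := P'.map (χ' (k + 1 + c))
    obtain ⟨W, π₁, hπ₁, h, hh⟩ := surjective_up_to_refinements_of_epi (Abelian.factorThruImage ψ)
      (kernel.lift (cokernel.π ψ) (η.app (G.obj (op (k + 1 + c)))) (hfac _))
    have hh' : h ≫ ψ = π₁ ≫ η.app _ := by
      have := congrArg (· ≫ Abelian.image.ι ψ) hh
      simp only [Category.assoc, Abelian.image.fac] at this
      rw [← this]
      exact congrArg (π₁ ≫ ·) (kernel.lift_ι _ _ _)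
    haveI := (hG.quot_gm (Nat.le_add_right (k + 1) c)).epi
    have hle : k + c ≤ k + 1 + c := by omega
    have h2 : h ≫ P'.map (χ' (k + c)) = (π₁ ≫ gm G hle) ≫ η.app _ := by
      rw [Category.assoc, show gm G hle ≫ η.app _ = η.app _ ≫ P'.map ((Scheme.Modules.pullback π).map (gm G hle)) from
        η.naturality (gm G hle), ← reassoc_of% hh', ← hcompat (k + c) (k + 1 + c) hle, P'.map_comp]
    rw [← cancel_epi (gm G (Nat.le_add_right (k + 1) c)), ← cancel_epi π₁, reassoc_of% (hα (k + 1) π₁ h hh'), π_tr,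
      ← hα k (π₁ ≫ gm G hle) h h2, Category.assoc, gm_comp_assoc, gm_comp_assoc]
  · let ψ := P'.map (χ' (k + c))
    let v : G.obj (op (k + c)) ⟶ Abelian.image ψ := kernel.lift _ _ (hfac (k + c))
    -- sections are tested through the pullback of `y` and `h`
    let Wp := pullback (η.app (G.obj (op (k + c)))) ψ
    have hsq : pullback.snd (η.app (G.obj (op (k + c)))) ψ ≫ ψ = pullback.fst _ _ ≫ η.app _ := pullback.condition.symm
    have h1 := hα k (pullback.fst (η.app (G.obj (op (k + c)))) ψ) (pullback.snd _ _) hsq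
    haveI : PreservesLimit (cospan (η.app (G.obj (op (k + c)))) ψ) (secFunctor X U) := inferInstance
    have hpb := (IsPullback.of_hasPullback (η.app (G.obj (op (k + c)))) ψ).map (secFunctor X U)
    obtain ⟨z, hz₁, hz₂⟩ := Types.exists_of_isPullback hpb y h hh.symm
    have h3 := congrArg (fun φ => φ.app U z) h1
    rw [← hz₁, ← hz₂]
    exact h3

end Groth.Agent.GExistH7
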