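import Groth.Agent.Lib.GExistH7.PullLoc
import Groth.Agent.Lib.GExistH7.Model

/-!
Change of the base ring for quotients by powers, and sections of pullbacks modulo powers.
-/

set_option autoImplicit false
set_option linter.style.haveILetI false
set_option backward.isDefEq.respectTransparency false

universe u

open CategoryTheory CategoryTheory.Limits AlgebraicGeometry Opposite

namespace Groth.Agent.GExistH7

open Groth.Agent.FormalH7 Groth.Agent.ModLimH13

section naturality

variable {A : Type u} [CommRing A] {X Y : Scheme.{u}} [X.Over (Spec (CommRingCat.of A))]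
  [Y.Over (Spec (CommRingCat.of A))] (f : Y ⟶ X)
  (hf : f ≫ (X ↘ Spec (CommRingCat.of A)) = Y ↘ Spec (CommRingCat.of A))

include hf in
theorem toGlobal_comp (a : A) :
    Coh.toGlobal (Y ↘ Spec (CommRingCat.of A)) a = f.appTop (Coh.toGlobal (X ↘ Spec (CommRingCat.of A)) a) := by
  rw [← hf]; rfl

include hf in
theorem mult_natural (a : A) {U : X.Opens} {V : Y.Opens} (e : V ≤ f ⁻¹ᵁ U) :
    f.appLE U V e (multHom X U a) = multHom Y V a := by
  have h1 : multHom X U a = X.presheaf.map (homOfLE (le_top : U ≤ ⊤)).op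
      (Coh.toGlobal (X ↘ Spec (CommRingCat.of A)) a) := rfl
  rw [h1, ← CommRingCat.comp_apply, Scheme.Hom.map_appLE]
  show _ = Y.presheaf.map (homOfLE (le_top : V ≤ ⊤)).op (Coh.toGlobal (Y ↘ Spec (CommRingCat.of A)) a)
  rw [toGlobal_comp f hf]
  rfl

end naturality

section change

variable {A R : Type u} [CommRing A] [CommRing R] {Z : Scheme.{u}} [Z.Over (Spec (CommRingCat.of A))]
  [Z.Over (Spec (CommRingCat.of R))] {x : A} {y : R}
  (h : Coh.toGlobal (Z ↘ Spec (CommRingCat.of R)) y = Coh.toGlobal (Z ↘ Spec (CommRingCat.of A)) x)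

include h in
theorem smulMod_change (m : ℕ) (M : Z.Modules) : Formal.smulMod R M (y ^ m) = Formal.smulMod A M (x ^ m) := by
  unfold Formal.smulMod
  rw [map_pow, map_pow, h]

include h in
theorem killedBy_change {m : ℕ} {M : Z.Modules} (hM : Formal.KilledBy (Ideal.span {x} ^ m) M) :
    Formal.KilledBy (Ideal.span {y} ^ m) M :=
  killedBy_span_pow ((smulMod_change h m M).trans (hM _ (mem_span_pow x m)))

include h in
theorem isQuot_change {m : ℕ} {M N : Z.Modules} {p : M ⟶ N} (hp : IsQuot (Ideal.span {x} ^ m) p) :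
    IsQuot (Ideal.span {y} ^ m) p := by
  refine ⟨hp.epi, fun b hb => ?_, fun φ hφ => hp.desc φ fun a ha => ?_⟩
  · rw [Ideal.span_singleton_pow, Ideal.mem_span_singleton'] at hb
    obtain ⟨c, rfl⟩ := hb
    rw [smulMod_mul', smulMod_change h, Category.assoc, hp.smul _ (mem_span_pow x m), comp_zero]
  · rw [Ideal.span_singleton_pow, Ideal.mem_span_singleton'] at ha
    obtain ⟨c, rfl⟩ := ha
    rw [smulMod_mul', Category.assoc, ← smulMod_change h, hφ _ (mem_span_pow y m), comp_zero]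

end change

section sections

variable {A : Type u} [CommRing A] {X Y : Scheme.{u}} [X.Over (Spec (CommRingCat.of A))]
  [Y.Over (Spec (CommRingCat.of A))]

theorem app_zero_of_killed {M N : X.Modules} {x : A} {m : ℕ} (φ : M ⟶ N)
    (hN : Formal.KilledBy (Ideal.span {x} ^ m) N) {U : X.Opens} {s : Γ(M, U)}
    (hs : s ∈ (Ideal.span {xsec x U} ^ m • ⊤ : Submodule Γ(X, U) Γ(M, U))) : φ.app U s = 0 := by
  refine Submodule.smul_induction_on hs (fun r hr t _ => ?_) fun a b ha hb => by rw [map_add, ha, hb, add_zero]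
  rw [Ideal.span_singleton_pow, Ideal.mem_span_singleton'] at hr
  obtain ⟨c, rfl⟩ := hr
  rw [mul_smul, Scheme.Modules.Hom.app_smul, Scheme.Modules.Hom.app_smul, ← map_pow]
  have h0 : multHom X U (x ^ m) • φ.app U t = 0 := congrArg (fun ψ => ψ.app U (φ.app U t)) (hN _ (mem_span_pow x m))
  rw [h0, smul_zero]

variable (f : Y ⟶ X) (hf : f ≫ (X ↘ Spec (CommRingCat.of A)) = Y ↘ Spec (CommRingCat.of A)) (x : A)
  {U : X.Opens} {W : Y.Opens} (e : W ≤ f ⁻¹ᵁ U) (hU : IsAffineOpen U) (hW : IsAffineOpen W)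
  (hs : ∀ (n : ℕ) (s : Γ(Y, W)), ∃ b, s - f.appLE U W e b ∈ Ideal.span {f.appLE U W e (xsec x U)} ^ n)
  (hi : ∀ (n : ℕ) (b : Γ(X, U)), f.appLE U W e b ∈ Ideal.span {f.appLE U W e (xsec x U)} ^ n →
    b ∈ Ideal.span {xsec x U} ^ n)

omit [Y.Over (Spec (CommRingCat.of A))] in
include hU hW hs hi in
theorem bijective_res'_killed_pow (M : X.Modules) [Coh.IsQCoh M] {m : ℕ}
    (hM : Formal.KilledBy (Ideal.span {x} ^ m) M) :
    Function.Bijective (res' f M e : Γ(M, U) → Γ((Scheme.Modules.pullback f).obj M, W)) := by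
  have hJ : (Ideal.span {xsec x U} ^ m).map (f.appLE U W e).hom = Ideal.span {f.appLE U W e (xsec x U)} ^ m := by
    rw [Ideal.map_pow, Ideal.map_span, Set.image_singleton]
  refine bijective_res'_of_killed f M hU hW e (Ideal.span {xsec x U} ^ m) (fun r hr t => ?_)
    (fun s => ?_) fun r hr => hi m r (hJ ▸ hr)
  · rw [Ideal.span_singleton_pow, Ideal.mem_span_singleton'] at hr
    obtain ⟨c, rfl⟩ := hr
    rw [mul_smul, ← map_pow]
    have h0 : multHom X U (x ^ m) • t = 0 := congrArg (fun ψ => ψ.app U t) (hM _ (mem_span_pow x m))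
    rw [h0, smul_zero]
  · obtain ⟨b, hb⟩ := hs m s
    exact ⟨b, hJ ▸ hb⟩

omit [Y.Over (Spec (CommRingCat.of A))] in
include hU hW hs in
theorem res'_surj_mod (M : X.Modules) [Coh.IsQCoh M] (n : ℕ) (t : Γ((Scheme.Modules.pullback f).obj M, W)) :
    ∃ s, t - res' f M e s ∈
      (Ideal.span {f.appLE U W e (xsec x U)} ^ n • ⊤ : Submodule Γ(Y, W) Γ((Scheme.Modules.pullback f).obj M, W)) := by
  letI := (f.appLE U W e).hom.toAlgebra
  obtain ⟨Φ, hΦ⟩ := exists_pullEquiv f M e hU hW
  obtain ⟨z, rfl⟩ := Φ.surjective t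
  induction z using TensorProduct.induction_on with
  | zero => exact ⟨0, by rw [map_zero, show res' f M e 0 = 0 from map_zero (AddMonoidHom.mk' (res' f M e)
      (res'_add f M e)), sub_zero]; exact Submodule.zero_mem _⟩
  | tmul c s =>
    obtain ⟨b, hb⟩ := hs n c
    exact ⟨b • s, by rw [hΦ, res'_smul, ← sub_smul]; exact Submodule.smul_mem_smul hb trivial⟩
  | add a b ha hb =>
    obtain ⟨p, hp⟩ := ha
    obtain ⟨q, hq⟩ := hb
    exact ⟨p + q, by rw [map_add, res'_add, add_sub_add_comm]; exact Submodule.add_mem _ hp hq⟩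

include hf hU hW hs hi in
theorem res'_inj_mod (M : X.Modules) [hM : Coh.IsQCoh M] (n : ℕ)
    (hq : Coh.IsQCoh (modI (Ideal.span {x} ^ n) M)) (s : Γ(M, U))
    (h : res' f M e s ∈ (Ideal.span {f.appLE U W e (xsec x U)} ^ n • ⊤ :
      Submodule Γ(Y, W) Γ((Scheme.Modules.pullback f).obj M, W))) :
    s ∈ (Ideal.span {xsec x U} ^ n • ⊤ : Submodule Γ(X, U) Γ(M, U)) := by
  let p := modIπ (Ideal.span {x} ^ n) M
  have hp : IsQuot (Ideal.span {x} ^ n) p := isQuot_modIπ _ _
  haveI := hq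
  refine mem_smul_of_app_zero hM p hp hU ?_
  apply (bijective_res'_killed_pow f x e hU hW hs hi (modI (Ideal.span {x} ^ n) M) hp.killed).1
  refine ((map_res' f M e p s).symm.trans (app_zero_of_killed _ (killedBy_pullback f hf hp.killed) ?_)).trans
    (map_zero (AddMonoidHom.mk' (res' f (modI (Ideal.span {x} ^ n) M) e) (res'_add f _ e))).symm
  show _ ∈ (Ideal.span {multHom Y W x} ^ n • ⊤ : Submodule Γ(Y, W) _)
  rw [← mult_natural f hf x e]
  exact h

end sections

end Groth.Agent.GExistH7
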