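import Groth.Agent.Lib.GExistH7.Change
import Groth.Agent.Lib.Compl.Noetherian
import Groth.Agent.Lib.FormalH7.CplRing
import Mathlib.RingTheory.AdicCompletion.AsTensorProduct

/-!
The spectrum of the completion of the functions on an affine open.
-/

set_option autoImplicit false
set_option linter.style.haveILetI false
set_option backward.isDefEq.respectTransparency false

universe u

open CategoryTheory CategoryTheory.Limits AlgebraicGeometry Opposite

namespace Groth.Agent.GExistH7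

variable {X : Scheme.{u}} [IsLocallyNoetherian X] {U : X.Opens} (hU : IsAffineOpen U) (b₀ : Γ(X, U))

/-- The completion of the functions on `U` along `b₀`. -/
abbrev CplR : Type u := AdicCompletion (Ideal.span {b₀}) Γ(X, U)

/-- Its spectrum. -/
noncomputable abbrev CplT : Scheme.{u} := Spec (CommRingCat.of (CplR b₀))

/-- The map to `X`. -/
noncomputable def cplJ : CplT b₀ ⟶ X :=
  Spec.map (CommRingCat.ofHom (algebraMap Γ(X, U) (CplR b₀))) ≫ hU.fromSpec

omit [IsLocallyNoetherian X] in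
theorem cplJ_le : (⊤ : (CplT b₀).Opens) ≤ cplJ hU b₀ ⁻¹ᵁ U := fun t _ => by
  have h : hU.fromSpec (Spec.map (CommRingCat.ofHom (algebraMap Γ(X, U) (CplR b₀))) t) ∈ U :=
    SetLike.mem_coe.1 (hU.range_fromSpec.le (Set.mem_range_self _))
  exact h

/-- The map on functions. -/
noncomputable def cplφ : Γ(X, U) →+* Γ(CplT b₀, ⊤) := ((cplJ hU b₀).appLE U ⊤ (cplJ_le hU b₀)).hom

omit [IsLocallyNoetherian X] in
theorem cplφ_eq (b : Γ(X, U)) :
    cplφ hU b₀ b = (Scheme.ΓSpecIso (CommRingCat.of (CplR b₀))).inv (algebraMap Γ(X, U) (CplR b₀) b) := by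
  have h : (cplJ hU b₀).appLE U ⊤ (cplJ_le hU b₀) =
      CommRingCat.ofHom (algebraMap Γ(X, U) (CplR b₀)) ≫ (Scheme.ΓSpecIso (CommRingCat.of (CplR b₀))).inv := by
    rw [Scheme.ΓSpecIso_inv_naturality]
    simp only [cplJ, Scheme.Hom.comp_appLE, IsAffineOpen.fromSpec_app_self]
    simp only [Scheme.Hom.appLE, Scheme.Hom.app, Scheme.Hom.naturality_assoc,
      Category.assoc]
    rw [← Functor.map_comp]
    refine congrArg (_ ≫ ·) ?_
    refine (congrArg (fun t => _ ≫ (CplT b₀).presheaf.map t) (Subsingleton.elim _ (𝟙 _))).trans ?_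
    rw [CategoryTheory.Functor.map_id]
    exact Category.comp_id _
  exact ConcreteCategory.congr_hom h b

include hU in
theorem cplR_noeth : IsNoetherianRing (CplR b₀) :=
  haveI := IsLocallyNoetherian.component_noetherian ⟨U, hU⟩
  Compl.isNoetherianRing_adicCompletion _ (Submodule.fg_span_singleton b₀)

/-- The image of `b₀`. -/
noncomputable abbrev cplX : CplR b₀ := algebraMap Γ(X, U) (CplR b₀) b₀

omit [IsLocallyNoetherian X] in
theorem cplX_complete : IsAdicComplete (Ideal.span {cplX b₀}) (CplR b₀) := by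
  have h := AdicCompletion.isAdicComplete_self (Ideal.span {b₀}) (Submodule.fg_span_singleton b₀)
  rwa [Ideal.map_span, Set.image_singleton] at h

include hU in
theorem cplJ_flat : Flat (cplJ hU b₀) := by
  haveI := IsLocallyNoetherian.component_noetherian ⟨U, hU⟩
  haveI : Module.Flat Γ(X, U) (CplR b₀) := AdicCompletion.flat_of_isNoetherian _
  haveI : Flat (Spec.map (CommRingCat.ofHom (algebraMap Γ(X, U) (CplR b₀)))) :=
    (HasRingHomProperty.Spec_iff (P := @Flat)).2 (RingHom.flat_algebraMap_iff.2 inferInstance)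
  rw [cplJ]
  infer_instance

omit [IsLocallyNoetherian X] in
theorem cplX_surj (n : ℕ) (r : CplR b₀) :
    ∃ b, r - algebraMap Γ(X, U) (CplR b₀) b ∈ Ideal.span {cplX b₀} ^ n := by
  obtain ⟨b, hb⟩ := Ideal.Quotient.mk_surjective (AdicCompletion.evalₐ (Ideal.span {b₀}) n r)
  refine ⟨b, ?_⟩
  have e : (Ideal.span {b₀} ^ n).map (algebraMap Γ(X, U) (CplR b₀)) = Ideal.span {cplX b₀} ^ n := by
    rw [Ideal.map_pow, Ideal.map_span, Set.image_singleton]
  rw [← e, ← FormalH7.ker_evalₐ_eq_map _ (Submodule.fg_span_singleton b₀), RingHom.mem_ker]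
  refine (map_sub (AdicCompletion.evalₐ (Ideal.span {b₀}) n) _ _).trans ?_
  rw [AlgHom.commutes, ← hb, sub_eq_zero]
  rfl

omit [IsLocallyNoetherian X] in
theorem cplX_inj (n : ℕ) (b : Γ(X, U)) (h : algebraMap Γ(X, U) (CplR b₀) b ∈ Ideal.span {cplX b₀} ^ n) :
    b ∈ Ideal.span {b₀} ^ n := by
  have e : (Ideal.span {b₀} ^ n).map (algebraMap Γ(X, U) (CplR b₀)) = Ideal.span {cplX b₀} ^ n := by
    rw [Ideal.map_pow, Ideal.map_span, Set.image_singleton]
  rw [← e, ← FormalH7.ker_evalₐ_eq_map _ (Submodule.fg_span_singleton b₀), RingHom.mem_ker] at h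
  exact Ideal.Quotient.eq_zero_iff_mem.1 (((AdicCompletion.evalₐ (Ideal.span {b₀}) n).commutes b).symm.trans h)

theorem surj_of_equiv {B R S : Type u} [CommRing B] [CommRing R] [CommRing S] (θ : R →+* S) (θ' : S →+* R)
    (h₁ : ∀ s, θ (θ' s) = s) (ψ : B →+* R) (φ : B →+* S) (hφ : ∀ b, φ b = θ (ψ b)) (b₀ : B) (n : ℕ)
    (h : ∀ r, ∃ b, r - ψ b ∈ Ideal.span {ψ b₀} ^ n) (s : S) : ∃ b, s - φ b ∈ Ideal.span {φ b₀} ^ n := by
  obtain ⟨b, hb⟩ := h (θ' s)
  refine ⟨b, ?_⟩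
  have := Ideal.mem_map_of_mem θ hb
  rw [Ideal.map_pow, Ideal.map_span, Set.image_singleton, map_sub, h₁] at this
  rwa [hφ, hφ]

theorem inj_of_equiv {B R S : Type u} [CommRing B] [CommRing R] [CommRing S] (θ : R →+* S) (θ' : S →+* R)
    (h₂ : ∀ r, θ' (θ r) = r) (ψ : B →+* R) (φ : B →+* S) (hφ : ∀ b, φ b = θ (ψ b)) (b₀ : B) (n : ℕ)
    (h : ∀ b, ψ b ∈ Ideal.span {ψ b₀} ^ n → b ∈ Ideal.span {b₀} ^ n) (b : B)
    (hb : φ b ∈ Ideal.span {φ b₀} ^ n) : b ∈ Ideal.span {b₀} ^ n := by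
  refine h b ?_
  have := Ideal.mem_map_of_mem θ' hb
  rwa [Ideal.map_pow, Ideal.map_span, Set.image_singleton, hφ, hφ, h₂, h₂] at this

omit [IsLocallyNoetherian X] in
theorem cplφ_surj (n : ℕ) (s : Γ(CplT b₀, ⊤)) :
    ∃ b, s - cplφ hU b₀ b ∈ Ideal.span {cplφ hU b₀ b₀} ^ n :=
  surj_of_equiv (Scheme.ΓSpecIso (CommRingCat.of (CplR b₀))).inv.hom
    (Scheme.ΓSpecIso (CommRingCat.of (CplR b₀))).hom.hom
    (fun s => ConcreteCategory.congr_hom (Scheme.ΓSpecIso (CommRingCat.of (CplR b₀))).hom_inv_id s)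
    (algebraMap Γ(X, U) (CplR b₀)) (cplφ hU b₀) (cplφ_eq hU b₀) b₀ n (cplX_surj b₀ n) s

omit [IsLocallyNoetherian X] in
theorem cplφ_inj (n : ℕ) (b : Γ(X, U)) (h : cplφ hU b₀ b ∈ Ideal.span {cplφ hU b₀ b₀} ^ n) :
    b ∈ Ideal.span {b₀} ^ n :=
  inj_of_equiv (Scheme.ΓSpecIso (CommRingCat.of (CplR b₀))).inv.hom
    (Scheme.ΓSpecIso (CommRingCat.of (CplR b₀))).hom.hom
    (fun r => ConcreteCategory.congr_hom (Scheme.ΓSpecIso (CommRingCat.of (CplR b₀))).inv_hom_id r)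
    (algebraMap Γ(X, U) (CplR b₀)) (cplφ hU b₀) (cplφ_eq hU b₀) b₀ n (cplX_inj b₀ n) b h

end Groth.Agent.GExistH7
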