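import Groth.Agent.Lib.GExistH7.FormalAlg
import Groth.Agent.Lib.FormalModH7.CplAlgKer
import Groth.Agent.Lib.FormalModH7.CplPull

/-!
The inverse image to a completion is fully faithful on coherent modules (proper case).
-/

set_option autoImplicit false
set_option linter.style.haveILetI false
set_option backward.isDefEq.respectTransparency false

universe u

open CategoryTheory CategoryTheory.Limits AlgebraicGeometry Opposite TopologicalSpace

namespace Groth.Agent.GExistH7

open Groth.Agent.FormalH7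

section nat

variable {X : Scheme.{u}} (𝓘 : X.IdealSheafData) (h : (FSch.completionAlong X 𝓘).IsFormal) {F G : X.Modules}

theorem unitC_naturality (φ : F ⟶ G) (n : ℕ) :
    φ ≫ FormalModH7.unitC 𝓘 h G n = FormalModH7.unitC 𝓘 h F n ≫ (FormalModH7.tsm 𝓘 h).push.map
      ((FSch.levelMor (FSch.completionAlong X 𝓘) h n).push.map ((FSch.complModMap 𝓘 φ).app n)) := by
  have h1 := (Scheme.Modules.pullbackPushforwardAdjunction (FSch.completionToX X 𝓘 n)).unit.naturality φ
  have h2 := (FSch.schPushCompare (FSch.completionAlong X 𝓘) h (FSch.completionToX X 𝓘)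
    (FSch.completionToX_comm X 𝓘) n).naturality ((FSch.complModMap 𝓘 φ).app n)
  refine (Category.assoc _ _ _).symm.trans ((congrArg (· ≫ _) h1).trans ?_)
  refine (Category.assoc _ _ _).trans ((congrArg (_ ≫ ·) h2).trans ?_)
  exact (Category.assoc _ _ _).symm

theorem gam_naturality (φ : F ⟶ G) :
    (FormalModH7.tsm 𝓘 h).pull.map φ ≫ FormalModH7.gam 𝓘 h G =
      FormalModH7.gam 𝓘 h F ≫ FormalModH7.cplHom h φ :=
  limit.hom_ext fun ⟨k⟩ => by
    show (_ ≫ _) ≫ FSch.realProj _ h (FSch.complMod 𝓘 G).F (FSch.complMod 𝓘 G).toPush k =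
      (_ ≫ _) ≫ FSch.realProj _ h (FSch.complMod 𝓘 G).F (FSch.complMod 𝓘 G).toPush k
    rw [Category.assoc, Category.assoc, FormalModH7.gam_proj]
    have e : FormalModH7.cplHom h φ ≫ FSch.realProj _ h (FSch.complMod 𝓘 G).F (FSch.complMod 𝓘 G).toPush k =
        FSch.realProj _ h (FSch.complMod 𝓘 F).F (FSch.complMod 𝓘 F).toPush k ≫
          (FSch.levelMor (FSch.completionAlong X 𝓘) h k).push.map ((FSch.complModMap 𝓘 φ).app k) :=
      FSch.realLimMap_realProj _ h _ _ k
    rw [e, ← Category.assoc, FormalModH7.gam_proj, ← Adjunction.homEquiv_naturality_left_symm,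
      ← Adjunction.homEquiv_naturality_right_symm, unitC_naturality]

end nat

section ff

variable {A : Type u} [CommRing A] [IsNoetherianRing A] (J : Ideal A) [IsAdicComplete J A] {X : Scheme.{u}}
  [X.Over (Spec (CommRingCat.of A))] [LocallyOfFiniteType (X ↘ Spec (CommRingCat.of A))]
  [QuasiCompact (X ↘ Spec (CommRingCat.of A))]
  (𝓘 : X.IdealSheafData) (h𝓘 : 𝓘 = (FSch.idealSpec A J).comap (X ↘ Spec (CommRingCat.of A)))
  (h : (FSch.completionAlong X 𝓘).IsFormal) {F G : X.Modules}

include h𝓘 in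
/-- Inverse image to the completion is bijective on maps of coherent modules with proper support. -/
theorem pull_map_bijective_of_PS (hF : PS A F) (hG : PS A G) :
    Function.Bijective (fun φ : F ⟶ G => (FormalModH7.tsm 𝓘 h).pull.map φ) := by
  haveI : IsLocallyNoetherian X := LocallyOfFiniteType.isLocallyNoetherian (X ↘ Spec (CommRingCat.of A))
  have hN := FormalModH7.isLocNoethFormal_completionAlong 𝓘 h
  haveI := FormalModH7.isIso_gam 𝓘 h hF.1
  haveI := FormalModH7.isIso_gam 𝓘 h hG.1
  have hbij : Function.Bijective (fun φ : F ⟶ G => FormalModH7.cplHom (𝓘 := 𝓘) h φ) := by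
    refine ⟨fun φ ψ e => ?_, fun Φ => FormalModH7.exists_complModMap_eq J 𝓘 h𝓘 h hF.1 hG.1
      (ClSub24.isProperOver_subset _ Set.inter_subset_left
        ((M1.isClosed_support hF.1.2).inter (M1.isClosed_support hG.1.2)) hF.2) Φ⟩
    have e' : FSch.complModMap 𝓘 φ = FSch.complModMap 𝓘 ψ :=
      FormalModH7.realModMap_injective hN (FormalModH7.isCoh_complMod 𝓘 hF.1) e
    refine (fFaith_PS J).hom_ext hF hG (fun n => isQuot_unitLvl J 𝓘 h𝓘 h hG.1 n) fun n => ?_
    have h1 := fun χ : F ⟶ G =>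
      (Scheme.Modules.pullbackPushforwardAdjunction (FSch.completionToX X 𝓘 n)).unit.naturality χ
    refine (h1 φ).trans (Eq.trans ?_ (h1 ψ).symm)
    exact congrArg (fun θ : FSch.complMod 𝓘 F ⟶ FSch.complMod 𝓘 G => (_ : F ⟶ _) ≫
      (Scheme.Modules.pushforward (FSch.completionToX X 𝓘 n)).map (θ.app n)) e'
  have e : (fun φ : F ⟶ G => (FormalModH7.tsm 𝓘 h).pull.map φ) =
      (fun Φ => (asIso (FormalModH7.gam 𝓘 h F)).hom ≫ Φ ≫ (asIso (FormalModH7.gam 𝓘 h G)).inv) ∘
        fun φ : F ⟶ G => FormalModH7.cplHom (𝓘 := 𝓘) h φ := funext fun φ => by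
    simp only [Function.comp_apply, asIso_hom, asIso_inv]
    rw [← Category.assoc, ← gam_naturality, Category.assoc, IsIso.hom_inv_id, Category.comp_id]
  rw [e]
  exact (Iso.homCongr (asIso (FormalModH7.gam 𝓘 h F)).symm (asIso (FormalModH7.gam 𝓘 h G)).symm).bijective.comp hbij

end ff

end Groth.Agent.GExistH7
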