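import Groth.Agent.Lib.GExistH7.Change
import Groth.Agent.Lib.GExistH7.IsoLocus
import Groth.Agent.Lib.GExistH7.AffAlg
import Groth.Agent.Lib.GExistH7.Alpha
import Groth.Agent.Lib.ParaFDesc27.QcqsBC
import Groth.Agent.Lib.ProperFormalH7.Bc

/-!
The local model of a system, obtained over a completed affine base.
-/

set_option autoImplicit false
set_option linter.style.haveILetI false
set_option backward.isDefEq.respectTransparency false

universe u

open CategoryTheory CategoryTheory.Limits AlgebraicGeometry Opposite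

namespace Groth.Agent.GExistH7

open Groth.Agent.FormalH7 Groth.Agent.ModLimH13

theorem app_mem_smul {X : Scheme.{u}} {M N : X.Modules} (f : M ⟶ N) {U : X.Opens} (J : Ideal Γ(X, U))
    {s : Γ(M, U)} (hs : s ∈ (J • ⊤ : Submodule Γ(X, U) Γ(M, U))) :
    f.app U s ∈ (J • ⊤ : Submodule Γ(X, U) Γ(N, U)) := by
  refine Submodule.smul_induction_on hs (fun r hr t _ => ?_) fun a b ha hb => by
    rw [map_add]; exact Submodule.add_mem _ ha hb
  rw [Scheme.Modules.Hom.app_smul]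
  exact Submodule.smul_mem_smul hr trivial

/-- The comparison of the two ways of pulling back along a square. -/
noncomputable def sqIso {X X' T Z : Scheme.{u}} {π : X' ⟶ X} {j : T ⟶ X} {pZ : Z ⟶ X'} {π' : Z ⟶ T}
    (w : pZ ≫ π = π' ≫ j) :
    Scheme.Modules.pullback j ⋙ Scheme.Modules.pullback π' ≅ Scheme.Modules.pullback π ⋙ Scheme.Modules.pullback pZ :=
  cmp π' j rfl ≪≫ (cmp pZ π w).symm

theorem sqIso_res' {X X' T Z : Scheme.{u}} {π : X' ⟶ X} {j : T ⟶ X} {pZ : Z ⟶ X'} {π' : Z ⟶ T}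
    (w : pZ ≫ π = π' ≫ j) (N : X.Modules) {U : X.Opens} {W : T.Opens} (e : W ≤ j ⁻¹ᵁ U)
    (eZ : π' ⁻¹ᵁ W ≤ pZ ⁻¹ᵁ (π ⁻¹ᵁ U)) (g : Γ(N, U)) :
    ((sqIso w).hom.app N).app (π' ⁻¹ᵁ W) (res' π' _ (le_refl (π' ⁻¹ᵁ W)) (res' j N e g)) =
      res' pZ _ eZ (res' π N (le_refl (π ⁻¹ᵁ U)) g) := by
  have h1 := cmp_res' π' j N rfl e (le_refl (π' ⁻¹ᵁ W)) g
  have h2 := cmp_res' pZ π N w (le_refl (π ⁻¹ᵁ U)) eZ g
  have h3 : ((sqIso w).hom.app N) ≫ (cmp pZ π w).hom.app N = (cmp π' j rfl).hom.app N := by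
    simp [sqIso]
  have hinj : Function.Injective (((cmp pZ π w).hom.app N).app (π' ⁻¹ᵁ W)) :=
    (ConcreteCategory.bijective_of_isIso _).1
  apply hinj
  exact ((congrArg (fun φ => φ.app (π' ⁻¹ᵁ W) (res' π' _ (le_refl _) (res' j N e g))) h3).trans h1).trans h2.symm

theorem preimage_le_of_basicOpen {X T : Scheme.{u}} (j : T ⟶ X) {U : X.Opens} {W : T.Opens} (e : W ≤ j ⁻¹ᵁ U)
    (g : Γ(X, U)) : T.basicOpen (j.appLE U W e g) ≤ j ⁻¹ᵁ X.basicOpen g := by
  rw [Scheme.preimage_basicOpen, Scheme.Hom.appLE, CommRingCat.comp_apply]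
  exact (T.basicOpen_res _ _).le.trans inf_le_right

/-- A global comparison with a direct image is bijective away from the bad locus up to powers. -/
theorem exists_pow_of_iso {Z T : Scheme.{u}} [IsAffine T] (π' : Z ⟶ T) (Mt : T.Modules) [Coh.IsQCoh Mt]
    (N : Z.Modules) [Coh.IsQCoh ((Scheme.Modules.pushforward π').obj N)]
    (ε : (Scheme.Modules.pullback π').obj Mt ⟶ N) [IsIso ε] (f : Γ(T, ⊤)) [IsIso (π' ∣_ T.basicOpen f)] :
    let at' : Mt ⟶ (Scheme.Modules.pushforward π').obj N :=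
      (Scheme.Modules.pullbackPushforwardAdjunction π').unit.app Mt ≫ (Scheme.Modules.pushforward π').map ε
    (∀ s, at'.app ⊤ s = 0 → ∃ n : ℕ, f ^ n • s = 0) ∧ ∀ z, ∃ (n : ℕ) (s : Γ(Mt, ⊤)), f ^ n • z = at'.app ⊤ s := by
  intro at'
  have hT := isAffineOpen_top T
  have hV := IsAffineOpen.basicOpen hT f
  have hat : ∀ (s : Γ(Mt, T.basicOpen f)), at'.app (T.basicOpen f) s =
      ε.app (π' ⁻¹ᵁ T.basicOpen f) (res' π' Mt (le_refl (π' ⁻¹ᵁ T.basicOpen f)) s) := fun s => by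
    rw [res', M1.mres_id]
    rfl
  have hbij : Function.Bijective (at'.app (T.basicOpen f)) := by
    refine ⟨fun s₁ s₂ h => ?_, fun w => ?_⟩
    · rw [hat, hat] at h
      exact (bijective_res'_of_iso π' Mt hV).1 ((ConcreteCategory.bijective_of_isIso (ε.app _)).1 h)
    · obtain ⟨t, ht⟩ := (ConcreteCategory.bijective_of_isIso (ε.app (π' ⁻¹ᵁ T.basicOpen f))).2 w
      obtain ⟨t₁, rfl⟩ := (bijective_res'_of_iso π' Mt hV).2 t
      exact ⟨t₁, (hat t₁).trans ht⟩
  refine ⟨fun s h0 => ?_, fun z => ?_⟩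
  · refine M1.exists_pow_smul_eq_zero_affine Mt hT f s (hbij.1 ?_)
    rw [map_zero]; exact (M1.app_mres at' (T.basicOpen_le f) s).trans ((congrArg _ h0).trans (map_zero _))
  · obtain ⟨t₁, ht₁⟩ := hbij.2 (M1.mres _ (T.basicOpen_le f) z)
    obtain ⟨k, t₀, ht₀⟩ := M1.exists_pow_smul_eq_res_affine Mt hT f t₁
    obtain ⟨l, hl⟩ := M1.exists_pow_smul_eq_zero_affine ((Scheme.Modules.pushforward π').obj N) hT f
      (at'.app ⊤ t₀ - f ^ k • z) (by
        rw [map_sub, ← M1.app_mres, ht₀, Scheme.Modules.Hom.app_smul, ht₁, M1.mres_smul, map_pow, sub_self])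
    refine ⟨l + k, f ^ l • t₀, ?_⟩
    rw [smul_sub, sub_eq_zero] at hl
    rw [Scheme.Modules.Hom.app_smul, pow_add, mul_smul]
    exact hl.symm

section rel

variable {X X' T Z : Scheme.{u}} {π : X' ⟶ X} {j : T ⟶ X} {pZ : Z ⟶ X'} {π' : Z ⟶ T}
  (w : pZ ≫ π = π' ≫ j) {U : X.Opens} {W : T.Opens} (e : W ≤ j ⁻¹ᵁ U) (eZ : π' ⁻¹ᵁ W ≤ pZ ⁻¹ᵁ (π ⁻¹ᵁ U))

theorem map_bc0_res' {F P : X'.Modules} (φ : F ⟶ P) (η : Γ((Scheme.Modules.pushforward π).obj F, U)) :
    ((Scheme.Modules.pullback pZ).map φ).app (π' ⁻¹ᵁ W)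
        ((CohBC.bc0 π j π' pZ w F).app W (res' j ((Scheme.Modules.pushforward π).obj F) e η)) =
      res' pZ P eZ (φ.app (π ⁻¹ᵁ U) η) := by
  rw [ParaFDesc27.bc0_res' w F e η eZ]
  exact map_res' pZ F eZ φ η

theorem map_adjunct_res' (N : X.Modules) {M : T.Modules} (χ : M ⟶ (Scheme.Modules.pullback j).obj N)
    {K : Z.Modules} (ε : (Scheme.Modules.pullback π').obj M ⟶ K)
    (b : K ⟶ (Scheme.Modules.pullback pZ).obj ((Scheme.Modules.pullback π).obj N))
    (h : ε ≫ b = (Scheme.Modules.pullback π').map χ ≫ (sqIso w).hom.app N) (s : Γ(M, W)) (g : Γ(N, U))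
    (hg : res' j N e g = χ.app W s) :
    b.app (π' ⁻¹ᵁ W) (ε.app (π' ⁻¹ᵁ W) (res' π' M (le_refl (π' ⁻¹ᵁ W)) s)) =
      res' pZ ((Scheme.Modules.pullback π).obj N) eZ
        (((Scheme.Modules.pullbackPushforwardAdjunction π).unit.app N).app U g) := by
  refine (congrArg (fun φ => φ.app (π' ⁻¹ᵁ W) (res' π' M (le_refl _) s)) h).trans ?_
  refine (congrArg (((sqIso w).hom.app N).app (π' ⁻¹ᵁ W)) ((map_res' π' M (le_refl _) χ s).trans
    (congrArg _ hg.symm))).trans ?_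
  refine (sqIso_res' w N e eZ g).trans (congrArg _ ?_)
  rw [res', M1.mres_id]

end rel

variable {A R : Type u} [CommRing A] [CommRing R] [IsNoetherianRing R] {X X' T Z : Scheme.{u}}
  [X.Over (Spec (CommRingCat.of A))] [X'.Over (Spec (CommRingCat.of A))] [T.Over (Spec (CommRingCat.of A))]
  [T.Over (Spec (CommRingCat.of R))] [Z.Over (Spec (CommRingCat.of A))] [Z.Over (Spec (CommRingCat.of R))]
  [IsAffine T] [IsProper (T ↘ Spec (CommRingCat.of R))]
  {π : X' ⟶ X} [IsProper π] {j : T ⟶ X} [Flat j] {pZ : Z ⟶ X'} {π' : Z ⟶ T}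
  (sq : IsPullback pZ π' π j)
  (hπ : π ≫ (X ↘ Spec (CommRingCat.of A)) = X' ↘ Spec (CommRingCat.of A))
  (hj : j ≫ (X ↘ Spec (CommRingCat.of A)) = T ↘ Spec (CommRingCat.of A))
  (hpA : pZ ≫ (X' ↘ Spec (CommRingCat.of A)) = Z ↘ Spec (CommRingCat.of A))
  (hπR : π' ≫ (T ↘ Spec (CommRingCat.of R)) = Z ↘ Spec (CommRingCat.of R))
  {x : A} {y : R} [IsAdicComplete (Ideal.span {y}) R]
  (hy : Coh.toGlobal (T ↘ Spec (CommRingCat.of R)) y = Coh.toGlobal (T ↘ Spec (CommRingCat.of A)) x)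

include sq hπ hj hpA hπR hy in
theorem exists_locModel [IsLocallyNoetherian X] {G : ℕᵒᵖ ⥤ X.Modules} (hG : IsSys (Ideal.span {x}) G)
    {F : X'.Modules} (hF : Coh.IsCoh F) (χ' : ∀ n, F ⟶ (Scheme.Modules.pullback π).obj (G.obj (op n)))
    (hq : ∀ n, IsQuot (Ideal.span {x} ^ (n + 1)) (χ' n))
    (hc : ∀ n m (h : n ≤ m), χ' m ≫ (Scheme.Modules.pullback π).map (gm G h) = χ' n)
    {U : X.Opens} (hU : IsAffineOpen U) (e : (⊤ : T.Opens) ≤ j ⁻¹ᵁ U)
    (hs : ∀ (n : ℕ) (s : Γ(T, ⊤)), ∃ b, s - j.appLE U ⊤ e b ∈ Ideal.span {j.appLE U ⊤ e (xsec x U)} ^ n)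
    (hi : ∀ (n : ℕ) (b : Γ(X, U)), j.appLE U ⊤ e b ∈ Ideal.span {j.appLE U ⊤ e (xsec x U)} ^ n →
      b ∈ Ideal.span {xsec x U} ^ n)
    (S : Set Γ(X, U)) (hS : ∀ g ∈ S, IsIso (π ∣_ X.basicOpen g)) :
    Nonempty (LocModel π x G F χ' U S) := by
  have hw : pZ ≫ π = π' ≫ j := sq.w
  haveI : IsProper π' := MorphismProperty.of_isPullback sq inferInstance
  haveI : IsProper (Z ↘ Spec (CommRingCat.of R)) := by rw [← hπR]; infer_instance
  haveI : IsLocallyNoetherian T := LocallyOfFiniteType.isLocallyNoetherian (T ↘ Spec (CommRingCat.of R))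
  haveI : IsLocallyNoetherian Z := LocallyOfFiniteType.isLocallyNoetherian (Z ↘ Spec (CommRingCat.of R))
  haveI : IsLocallyNoetherian X' := LocallyOfFiniteType.isLocallyNoetherian π
  have hπA : π' ≫ (T ↘ Spec (CommRingCat.of A)) = Z ↘ Spec (CommRingCat.of A) := by
    rw [← hj, ← reassoc_of% hw, hπ, hpA]
  have hyZ : Coh.toGlobal (Z ↘ Spec (CommRingCat.of R)) y = Coh.toGlobal (Z ↘ Spec (CommRingCat.of A)) x := by
    rw [toGlobal_comp π' hπR, toGlobal_comp π' hπA, hy]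
  have hxT : multHom T ⊤ x = j.appLE U ⊤ e (xsec x U) := (mult_natural j hj x e).symm
  have hyT : multHom T ⊤ y = j.appLE U ⊤ e (xsec x U) := by
    rw [← hxT]
    exact congrArg (fun t => T.presheaf.map (homOfLE (le_top : (⊤ : T.Opens) ≤ ⊤)).op t) hy
  -- the system on the completed base and its algebraization
  obtain ⟨Mt, χT, hMt, hqT, hcT⟩ := algAll_affine (T := T) (Ideal.span {y}) (G ⋙ Scheme.Modules.pullback j)
    ⟨fun n => M1.isCoh_pullback j (hG.coh n), fun n => killedBy_change hy (killedBy_pullback j hj (hG.killed n)),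
      fun n => isQuot_change hy (isQuot_of_pullback j hj (hG.quot n))⟩
    (fun n => M1.isCoh_pullback j (hG.coh n))
  -- the comparison over the base change
  let Θ := sqIso (j := j) (π := π) hw
  let a : ∀ n, (Scheme.Modules.pullback π').obj Mt ⟶
      (Scheme.Modules.pullback pZ).obj ((Scheme.Modules.pullback π).obj (G.obj (op n))) :=
    fun n => (Scheme.Modules.pullback π').map (χT n) ≫ Θ.hom.app (G.obj (op n))
  let b : ∀ n, (Scheme.Modules.pullback pZ).obj F ⟶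
      (Scheme.Modules.pullback pZ).obj ((Scheme.Modules.pullback π).obj (G.obj (op n))) :=
    fun n => (Scheme.Modules.pullback pZ).map (χ' n)
  let t : ∀ n, (Scheme.Modules.pullback pZ).obj ((Scheme.Modules.pullback π).obj (G.obj (op (n + 1)))) ⟶
      (Scheme.Modules.pullback pZ).obj ((Scheme.Modules.pullback π).obj (G.obj (op n))) :=
    fun n => (Scheme.Modules.pullback pZ).map ((Scheme.Modules.pullback π).map (gm G (Nat.le_succ n)))
  have ha : ∀ n, IsQuot (Ideal.span {y} ^ (n + 1)) (a n) := fun n =>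
    (isQuot_of_pullback π' hπR (hqT n)).comp_iso (Θ.app (G.obj (op n)))
  have hb : ∀ n, IsQuot (Ideal.span {y} ^ (n + 1)) (b n) := fun n =>
    isQuot_change hyZ (isQuot_of_pullback pZ hpA (hq n))
  have hac : ∀ n, a (n + 1) ≫ t n = a n := fun n => by
    show (_ ≫ Θ.hom.app _) ≫ _ = _
    rw [Category.assoc]
    erw [← Θ.hom.naturality (gm G (Nat.le_succ n))]
    rw [← Category.assoc]
    exact congrArg (· ≫ _) ((((Scheme.Modules.pullback π').map_comp _ _).symm).trans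
      (congrArg (Scheme.Modules.pullback π').map (hcT n)))
  have hbc : ∀ n, b (n + 1) ≫ t n = b n := fun n =>
    ((Scheme.Modules.pullback pZ).map_comp _ _).symm.trans
      (congrArg (Scheme.Modules.pullback pZ).map (hc n (n + 1) (Nat.le_succ n)))
  have hFF := fFaith_proper (X := Z) (Ideal.span {y})
  have hMZ : Coh.IsCoh ((Scheme.Modules.pullback π').obj Mt) := M1.isCoh_pullback π' hMt
  have hNZ : Coh.IsCoh ((Scheme.Modules.pullback pZ).obj F) := M1.isCoh_pullback pZ hF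
  obtain ⟨ε, hε⟩ := hFF.exists_lift hMZ hNZ hb t hbc a hac
  obtain ⟨ε', hε'⟩ := hFF.exists_lift hNZ hMZ ha t hac b hbc
  have hε₁ : ε ≫ ε' = 𝟙 _ := hFF.hom_ext hMZ hMZ ha fun n => by
    rw [Category.assoc, hε' n, hε n, Category.id_comp]
  have hε₂ : ε' ≫ ε = 𝟙 _ := hFF.hom_ext hNZ hNZ hb fun n => by
    rw [Category.assoc, hε n, hε' n, Category.id_comp]
  haveI : IsIso ε := ⟨ε', hε₁, hε₂⟩
  let N' := (Scheme.Modules.pullback pZ).obj F
  let H' := (Scheme.Modules.pushforward π').obj N'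
  let at' : Mt ⟶ H' := (Scheme.Modules.pullbackPushforwardAdjunction π').unit.app Mt ≫
    (Scheme.Modules.pushforward π').map ε
  have hat : ∀ (V : T.Opens) (s : Γ(Mt, V)),
      at'.app V s = ε.app (π' ⁻¹ᵁ V) (res' π' Mt (le_refl (π' ⁻¹ᵁ V)) s) := fun V s => by
    rw [res', M1.mres_id]
    rfl
  have hH' : Coh.IsCoh H' := ProperFormalH7.isCoh_pushforward_of_isProper π' hNZ
  haveI := hMt.1
  haveI := hF.1
  haveI : Coh.IsQCoh ((Scheme.Modules.pushforward π).obj F) := M1.isQCoh_push π hF.1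
  haveI : ∀ n, Coh.IsQCoh (G.obj (op n)) := fun n => (hG.coh n).1
  haveI : ∀ n, Coh.IsQCoh ((Scheme.Modules.pullback π).obj (G.obj (op n))) := fun n => M1.isQCoh_pullback π (hG.coh n).1
  haveI : ∀ n, Coh.IsQCoh ((Scheme.Modules.pushforward π).obj ((Scheme.Modules.pullback π).obj (G.obj (op n)))) :=
    fun n => M1.isQCoh_push π inferInstance
  haveI : ∀ M : X'.Modules, [Coh.IsQCoh M] → IsIso (CohBC.bc0 π j π' pZ hw M) := fun M _ =>
    ParaFDesc27.isIso_bc0_of_flat sq M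
  have hT := isAffineOpen_top T
  -- sections of the system
  let β : ∀ n, Γ(G.obj (op n), U) ≃+ Γ((Scheme.Modules.pullback j).obj (G.obj (op n)), ⊤) := fun n =>
    AddEquiv.ofBijective (AddMonoidHom.mk' (res' j (G.obj (op n)) e) (res'_add j _ e))
      (bijective_res'_killed_pow j x e hU hT hs hi (G.obj (op n)) (hG.killed n))
  let q : ∀ n, Γ(Mt, ⊤) →+ Γ(G.obj (op n), U) := fun n => (β n).symm.toAddMonoidHom.comp ((χT n).app ⊤).hom
  have hβq : ∀ n s, res' j (G.obj (op n)) e (q n s) = (χT n).app ⊤ s := fun n s => (β n).apply_symm_apply _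
  -- sections of the direct image
  let bc : (Scheme.Modules.pullback j).obj ((Scheme.Modules.pushforward π).obj F) ⟶ H' :=
    CohBC.bc0 π j π' pZ hw F
  let ρ : Γ((Scheme.Modules.pushforward π).obj F, U) →+ Γ(H', ⊤) :=
    (bc.app ⊤).hom.comp (AddMonoidHom.mk' (res' j ((Scheme.Modules.pushforward π).obj F) e) (res'_add j _ e))
  have eZ : π' ⁻¹ᵁ (⊤ : T.Opens) ≤ pZ ⁻¹ᵁ (π ⁻¹ᵁ U) := fun z _ => by
    show π (pZ z) ∈ U
    rw [← Scheme.Hom.comp_apply, hw, Scheme.Hom.comp_apply]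
    exact e (show π' z ∈ (⊤ : T.Opens) from trivial)
  let hlin : Γ(Mt, ⊤) →ₗ[Γ(T, ⊤)] Γ(H', ⊤) :=
    { toFun := at'.app ⊤, map_add' := map_add _, map_smul' := fun r s => at'.app_smul r s }
  refine ⟨{
    R := Γ(T, ⊤)
    noeth := IsLocallyNoetherian.component_noetherian ⟨⊤, hT⟩
    φ := (j.appLE U ⊤ e).hom
    φ_surj := hs
    M := Γ(Mt, ⊤)
    finM := M1.finite_sections hMt.1 hMt.2 hT
    H := Γ(H', ⊤)
    finH := M1.finite_sections hH'.1 hH'.2 hT
    q := q
    q_smul := fun n c s => ?_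
    q_surj := fun n g => ?_
    q_ker := fun n s => ?_
    q_gm := fun n s => ?_
    ρ := ρ
    ρ_smul := fun c η => ?_
    ρ_surj := fun n z => ?_
    ρ_inj := fun n η hη => ?_
    h := hlin
    rel := fun n s η hsη => ?_
    hker := fun g hg s h0 => ?_
    hcok := fun g hg z => ?_ }⟩
  · apply (β n).injective
    show res' j _ e (q n _) = res' j _ e (c • q n s)
    rw [res'_smul, hβq, hβq, Scheme.Modules.Hom.app_smul]
  · haveI := (hqT n).epi
    obtain ⟨s, hs'⟩ := M1.app_surjective_affine_of_isQCoh hMt.1 (M1.isQCoh_pullback j (hG.coh n).1) (χT n) hT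
      (β n g)
    exact ⟨s, (β n).injective ((hβq n s).trans hs')⟩
  · rw [← (β n).injective.eq_iff, map_zero, show β n (q n s) = (χT n).app ⊤ s from hβq n s, ← hyT]
    exact ⟨fun h => mem_smul_of_app_zero hMt.1 _ (hqT n) hT h, fun h => app_eq_zero_of_smul _ (hqT n) h⟩
  · apply (β n).injective
    show res' j _ e ((gm G (Nat.le_succ n)).app U (q (n + 1) s)) = res' j _ e (q n s)
    rw [← map_res', hβq, hβq]
    exact congrArg (fun φ => φ.app ⊤ s) (hcT n)
  · show bc.app ⊤ (res' j _ e (c • η)) = _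
    rw [res'_smul, Scheme.Modules.Hom.app_smul]
    rfl
  · obtain ⟨z₀, rfl⟩ := (ConcreteCategory.bijective_of_isIso (bc.app ⊤)).2 z
    obtain ⟨η, hη⟩ := res'_surj_mod j x e hU hT hs ((Scheme.Modules.pushforward π).obj F) n z₀
    refine ⟨η, ?_⟩
    have := app_mem_smul bc _ hη
    rw [map_sub] at this
    exact this
  · have hq' : Coh.IsQCoh (modI (Ideal.span {x} ^ n) ((Scheme.Modules.pushforward π).obj F)) :=
      M1.isQCoh_cokernel (SerreCl8.isQCoh_sigma _ fun _ => M1.isQCoh_push π hF.1) (M1.isQCoh_push π hF.1) _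
    refine res'_inj_mod j hj x e hU hT hs hi _ n hq' η ?_
    have := app_mem_smul (inv bc) _ hη
    rwa [show (inv bc).app ⊤ (ρ η) = res' j _ e η from
      congrArg (fun φ => φ.app ⊤ (res' j ((Scheme.Modules.pushforward π).obj F) e η)) (IsIso.hom_inv_id bc)] at this
  · let P := (Scheme.Modules.pullback π).obj (G.obj (op n))
    have hPk : Formal.KilledBy (Ideal.span {x} ^ (n + 1)) ((Scheme.Modules.pushforward π).obj P) := fun r hr => by
      haveI := (Scheme.Modules.pullbackPushforwardAdjunction π).right_adjoint_additive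
      rw [← pushforward_map_smulMod π hπ, killedBy_pullback π hπ (hG.killed n) r hr, Functor.map_zero]
    have hinj : Function.Injective fun z : Γ((Scheme.Modules.pushforward π).obj P, U) =>
        (CohBC.bc0 π j π' pZ hw P).app ⊤ (res' j ((Scheme.Modules.pushforward π).obj P) e z) :=
      (ConcreteCategory.bijective_of_isIso ((CohBC.bc0 π j π' pZ hw P).app ⊤)).1.comp
        (bijective_res'_killed_pow j x e hU hT hs hi _ hPk).1
    apply hinj
    show (CohBC.bc0 π j π' pZ hw P).app ⊤ _ = (CohBC.bc0 π j π' pZ hw P).app ⊤ _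
    rw [ParaFDesc27.bc0_res' hw P e _ eZ, ParaFDesc27.bc0_res' hw P e _ eZ]
    have h1 := map_bc0_res' hw e eZ (χ' n) η
    have h2 := map_adjunct_res' hw e eZ (G.obj (op n)) (χT n) ε (b n) (hε n) s (q n s) (hβq n s)
    rw [← hat ⊤ s] at h2
    have hk : Formal.KilledBy (Ideal.span {x} ^ (n + 1))
        ((Scheme.Modules.pushforward π').obj ((Scheme.Modules.pullback pZ).obj P)) := fun r hr => by
      haveI := (Scheme.Modules.pullbackPushforwardAdjunction π').right_adjoint_additive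
      rw [← pushforward_map_smulMod π' hπA, killedBy_pullback pZ hpA (killedBy_pullback π hπ (hG.killed n)) r hr,
        Functor.map_zero]
    rw [← hxT] at hsη
    have h3 := app_zero_of_killed ((Scheme.Modules.pushforward π').map (b n)) hk hsη
    rw [map_sub, sub_eq_zero] at h3
    exact (h1.symm.trans h3.symm).trans h2
  · haveI := hS g hg
    haveI := isIso_restrict_of_isPullback sq (X.basicOpen g) _ (preimage_le_of_basicOpen j e g)
    haveI := hH'.1
    exact (exists_pow_of_iso π' Mt N' ε (j.appLE U ⊤ e g)).1 s h0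
  · haveI := hS g hg
    haveI := isIso_restrict_of_isPullback sq (X.basicOpen g) _ (preimage_le_of_basicOpen j e g)
    haveI := hH'.1
    exact (exists_pow_of_iso π' Mt N' ε (j.appLE U ⊤ e g)).2 z

end Groth.Agent.GExistH7
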