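import Groth.Agent.Lib.GExistH7.Geometry
import Groth.Agent.Lib.GExistH7.CplBase

/-!
Local models over every affine open.
-/

set_option autoImplicit false
set_option linter.style.haveILetI false
set_option backward.isDefEq.respectTransparency false

universe u

open CategoryTheory CategoryTheory.Limits AlgebraicGeometry Opposite

namespace Groth.Agent.GExistH7

open Groth.Agent.FormalH7

theorem multHom_top {A : Type u} [CommRing A] {X : Scheme.{u}} [X.Over (Spec (CommRingCat.of A))] (a : A) :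
    multHom X ⊤ a = Coh.toGlobal (X ↘ Spec (CommRingCat.of A)) a := by
  show X.presheaf.map (homOfLE (le_top : (⊤ : X.Opens) ≤ ⊤)).op _ = _
  rw [show (homOfLE (le_top : (⊤ : X.Opens) ≤ ⊤)).op = 𝟙 _ from rfl, CategoryTheory.Functor.map_id]
  rfl

theorem toGlobal_id (R : Type u) [CommRing R] (y : R) :
    Coh.toGlobal (𝟙 (Spec (CommRingCat.of R))) y = (Scheme.ΓSpecIso (CommRingCat.of R)).inv y := rfl

variable {A : Type u} [CommRing A] {X X' : Scheme.{u}} [X.Over (Spec (CommRingCat.of A))]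
  [X'.Over (Spec (CommRingCat.of A))] {π : X' ⟶ X} [IsProper π] [IsLocallyNoetherian X]
  (hπ : π ≫ (X ↘ Spec (CommRingCat.of A)) = X' ↘ Spec (CommRingCat.of A))

include hπ in
/-- Local models exist over every affine open. -/
theorem exists_locModel_affine {x : A} {G : ℕᵒᵖ ⥤ X.Modules} (hG : IsSys (Ideal.span {x}) G)
    {F : X'.Modules} (hF : Coh.IsCoh F) (χ' : ∀ n, F ⟶ (Scheme.Modules.pullback π).obj (G.obj (op n)))
    (hq : ∀ n, IsQuot (Ideal.span {x} ^ (n + 1)) (χ' n))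
    (hc : ∀ n m (h : n ≤ m), χ' m ≫ (Scheme.Modules.pullback π).map (gm G h) = χ' n)
    {U : X.Opens} (hU : IsAffineOpen U) (S : Set Γ(X, U)) (hS : ∀ g ∈ S, IsIso (π ∣_ X.basicOpen g)) :
    Nonempty (LocModel π x G F χ' U S) := by
  let b₀ := xsec x U
  let j := cplJ hU b₀
  haveI := cplR_noeth hU b₀
  haveI := cplX_complete b₀
  haveI : Flat j := cplJ_flat hU b₀
  letI : (CplT b₀).Over (Spec (CommRingCat.of A)) := ⟨j ≫ (X ↘ Spec (CommRingCat.of A))⟩
  letI : (CplT b₀).Over (Spec (CommRingCat.of (CplR b₀))) := ⟨𝟙 _⟩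
  haveI : IsProper ((CplT b₀) ↘ Spec (CommRingCat.of (CplR b₀))) := inferInstanceAs (IsProper (𝟙 (CplT b₀)))
  letI : (pullback π j).Over (Spec (CommRingCat.of A)) := ⟨pullback.fst π j ≫ (X' ↘ Spec (CommRingCat.of A))⟩
  letI : (pullback π j).Over (Spec (CommRingCat.of (CplR b₀))) :=
    ⟨pullback.snd π j ≫ ((CplT b₀) ↘ Spec (CommRingCat.of (CplR b₀)))⟩
  have hy : Coh.toGlobal ((CplT b₀) ↘ Spec (CommRingCat.of (CplR b₀))) (cplX b₀) =
      Coh.toGlobal ((CplT b₀) ↘ Spec (CommRingCat.of A)) x := by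
    refine ((toGlobal_id (CplR b₀) (cplX b₀)).trans (cplφ_eq hU b₀ b₀).symm).trans ?_
    rw [← multHom_top]
    exact mult_natural (X := X) (Y := CplT b₀) j rfl x (cplJ_le hU b₀)
  exact exists_locModel (R := CplR b₀) (IsPullback.of_hasPullback π j) hπ rfl rfl rfl hy hG hF χ' hq hc hU
    (cplJ_le hU b₀) (cplφ_surj hU b₀) (cplφ_inj hU b₀) S hS

end Groth.Agent.GExistH7
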