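import Groth.Agent.Lib.GExistH7.Supp
import Groth.Agent.Lib.GExistH7.ProjExist
import Groth.Agent.Lib.PropSuppH7.Basic

/-!
Supports near the closed fibre, and extension of systems with proper support along open immersions.
-/

set_option autoImplicit false
set_option linter.style.haveILetI false
set_option backward.isDefEq.respectTransparency false

universe u

open CategoryTheory CategoryTheory.Limits AlgebraicGeometry Opposite TopologicalSpace

namespace Groth.Agent.GExistH7

open Groth.Agent.FormalH7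

variable {A : Type u} [CommRing A]

theorem support_subset_of_quot {X : Scheme.{u}} [X.Over (Spec (CommRingCat.of A))] [IsNoetherianRing A]
    [LocallyOfFiniteType (X ↘ Spec (CommRingCat.of A))] {J : Ideal A} [IsAdicComplete J A] {M N : X.Modules}
    (hM : PS A M) {p : M ⟶ N} (hp : IsQuot J p) {O : X.Opens} (hN : CohB1.support N ⊆ O) :
    CohB1.support M ⊆ (O : Set X) := by
  intro z hz
  by_contra hzO
  let f := X ↘ Spec (CommRingCat.of A)
  let T : Set X := CohB1.support M ∩ (O : Set X)ᶜ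
  have hTc : IsClosed T := (M1.isClosed_support hM.1.2).inter O.2.isClosed_compl
  have hTp : ClSub.IsProperOver f T := ClSub24.isProperOver_subset _ Set.inter_subset_left hTc hM.2
  obtain ⟨T', i, hi, hr, hpr⟩ := (ClSub24.isProperOver_iff_exists f T).1 hTp
  haveI := hpr
  have hcl : IsClosed (f '' T) := by
    rw [← hr, ← Set.range_comp]
    exact (i ≫ f).isClosedMap.isClosed_range
  obtain ⟨I', hI'⟩ := (PrimeSpectrum.isClosed_iff_zeroLocus_ideal _).1 hcl
  let p' : PrimeSpectrum A := f z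
  have hp' : p' ∈ PrimeSpectrum.zeroLocus (I' : Set A) := hI' ▸ ⟨z, ⟨hz, hzO⟩, rfl⟩
  obtain ⟨m, hm, hpm⟩ := Ideal.exists_le_maximal p'.asIdeal p'.isPrime.ne_top
  let q : PrimeSpectrum A := ⟨m, hm.isPrime⟩
  have hq : q ∈ f '' T := by
    rw [hI', PrimeSpectrum.mem_zeroLocus]
    exact fun a ha => hpm ((PrimeSpectrum.mem_zeroLocus _ _).1 hp' ha)
  obtain ⟨y, ⟨hy, hyO⟩, hyq⟩ := hq
  obtain ⟨w, hw⟩ := hp.isIso_desc
  have htop : ∀ b : M.presheaf.stalk y, b ∈ stalkIdeal J y • (⊤ : Submodule (X.presheaf.stalk y) (M.presheaf.stalk y)) :=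
    fun b => mem_stalk_of_map_eq_zero p w hw y b ((M1.notMem_support_iff N y).1 (fun hc => hyO (hN hc)) _)
  have hle : stalkIdeal J y ≤ IsLocalRing.maximalIdeal (X.presheaf.stalk y) := by
    rw [stalkIdeal, Ideal.map_le_iff_le_comap]
    intro a ha hu
    have h1 : y ∈ X.basicOpen (multHom X ⊤ a) := (Scheme.mem_basicOpen X (U := ⊤) _ y trivial).2 hu
    have e : multHom X ⊤ a = f.appTop ((Scheme.ΓSpecIso (CommRingCat.of A)).inv a) := by
      rw [multHom_apply, mult, Subsingleton.elim (homOfLE _).op (𝟙 (op (⊤ : X.Opens))), CategoryTheory.Functor.map_id]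
      rfl
    rw [e, ← Scheme.preimage_basicOpen_top f] at h1
    have h2 : f y ∈ PrimeSpectrum.basicOpen a := by
      have := h1
      rw [Scheme.Hom.mem_preimage, basicOpen_eq_of_affine] at this
      exact this
    rw [hyq] at h2
    exact h2 ((Ideal.mem_sInf.1 (IsAdicComplete.le_jacobson_bot J ha)) ⟨bot_le, hm⟩)
  haveI := M1.finite_stalk hM.1.1 hM.1.2 y
  have h0 : (⊤ : Submodule (X.presheaf.stalk y) (M.presheaf.stalk y)) = ⊥ :=
    Submodule.eq_bot_of_le_smul_of_le_jacobson_bot (stalkIdeal J y) ⊤ Module.Finite.fg_top (fun b _ => htop b)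
      (hle.trans (IsLocalRing.maximalIdeal_le_jacobson _))
  exact (M1.notMem_support_iff M y).2 (fun b => (Submodule.mem_bot _).1 (h0 ▸ Submodule.mem_top)) hy

section open'

variable {U Y : Scheme.{u}} [U.Over (Spec (CommRingCat.of A))] [Y.Over (Spec (CommRingCat.of A))]
  (ι : U ⟶ Y) [IsOpenImmersion ι]
  (hι : ι ≫ (Y ↘ Spec (CommRingCat.of A)) = U ↘ Spec (CommRingCat.of A))

theorem notMem_support_push {M : U.Modules} (hcl : IsClosed (⇑ι '' CohB1.support M)) {y : Y}
    (hy : y ∉ ⇑ι '' CohB1.support M) : y ∉ CohB1.support ((Scheme.Modules.pushforward ι).obj M) := by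
  refine (M1.notMem_support_iff _ y).2 fun b => ?_
  obtain ⟨W, hyW, s, rfl⟩ := ((Scheme.Modules.pushforward ι).obj M).presheaf.exists_germ_eq b
  let W' : Y.Opens := W ⊓ ⟨_, hcl.isOpen_compl⟩
  have hz : M1.mres ((Scheme.Modules.pushforward ι).obj M) (show W' ≤ W from inf_le_left) s = 0 := by
    refine M1.section_ext (M := M) (U := ι ⁻¹ᵁ W') _ _ fun u hu => ?_
    exact ((M1.notMem_support_iff M u).1 (fun hc => hu.2 ⟨u, hc, rfl⟩) _).trans
      ((M1.notMem_support_iff M u).1 (fun hc => hu.2 ⟨u, hc, rfl⟩) _).symm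
  rw [← M1.germ_mres _ (show W' ≤ W from inf_le_left) (show y ∈ W' from ⟨hyW, hy⟩) s, hz]
  exact map_zero _

theorem isIso_counit_open (M : U.Modules) :
    IsIso ((Scheme.Modules.pullbackPushforwardAdjunction ι).counit.app M) := inferInstance

include hι in
theorem isQuot_pushOpen {J : Ideal A} {M N : U.Modules} {p : M ⟶ N} (hp : IsQuot J p)
    (hcl : IsClosed (⇑ι '' CohB1.support M)) (hcl' : IsClosed (⇑ι '' CohB1.support N)) :
    IsQuot J ((Scheme.Modules.pushforward ι).map p) := by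
  let F := Scheme.Modules.pushforward ι
  let R := Scheme.Modules.restrictFunctor ι
  let e := Scheme.Modules.restrictFunctorIsoPullback ι
  let ε := (Scheme.Modules.restrictAdjunction ι).counit
  haveI : R.Additive := (Scheme.Modules.restrictAdjunction ι).left_adjoint_additive
  have hR : ∀ (K : Y.Modules) (a : A), R.map (Formal.smulMod A K a) = Formal.smulMod A (R.obj K) a := fun K a => by
    rw [← cancel_mono (e.hom.app K), e.hom.naturality, pullback_map_smulMod ι hι, smulMod_naturality]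
  have hs : ∀ a ∈ J, Formal.smulMod A (F.obj M) a ≫ F.map p = 0 := fun a ha => by
    rw [← pushforward_map_smulMod ι hι, ← F.map_comp, hp.smul a ha, F.map_zero]
  obtain ⟨c, hc⟩ := (isQuot_modIπ J (F.obj M)).desc (F.map p) hs
  have h1 : IsQuot J (R.map (modIπ J (F.obj M))) := isQuot_map_of_isLeftAdjoint R hR (isQuot_modIπ J _)
  have h2 : IsQuot J (R.map (F.map p)) := by
    haveI := hp.epi
    have : R.map (F.map p) = (asIso (ε.app M)).hom ≫ p ≫ (asIso (ε.app N)).inv := by
      have := ε.naturality p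
      rw [asIso_hom, asIso_inv, ← Category.assoc, IsIso.eq_comp_inv]
      exact this
    rw [this]
    haveI : Epi (p ≫ (asIso (ε.app N)).inv) := epi_comp _ _
    refine ⟨epi_comp _ _, fun a ha => ?_, fun {T} φ hφ => ?_⟩
    · rw [smulMod_naturality_assoc]
      exact (congrArg (_ ≫ ·) ((Category.assoc _ _ _).symm.trans
        ((congrArg (· ≫ _) (hp.smul a ha)).trans zero_comp))).trans comp_zero
    · obtain ⟨φ', hφ'⟩ := hp.desc ((asIso (ε.app M)).inv ≫ φ) fun a ha => by
        rw [smulMod_naturality_assoc]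
        erw [hφ a ha]
        exact comp_zero
      exact ⟨(asIso (ε.app N)).hom ≫ φ', by simp [hφ']⟩
  obtain ⟨e', he'⟩ := h1.exists_iso h2
  haveI : IsIso (R.map c) := by
    have : R.map c = e'.hom := h1.hom_ext (by rw [he', ← R.map_comp, hc])
    rw [this]; infer_instance
  have hRb : ∀ W : U.Opens, Function.Bijective (c.app (ι ''ᵁ W)) := fun W =>
    (ConcreteCategory.isIso_iff_bijective _).1
      (Scheme.Modules.Hom.isIso_iff_isIso_app.1 (inferInstance : IsIso (R.map c)) W)
  haveI := (isQuot_modIπ J (F.obj M)).epi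
  have hst : ∀ y : Y, Function.Bijective ((M1.stalkAb y).map c) := by
    intro y
    by_cases hy : y ∈ Set.range ι
    · obtain ⟨u, rfl⟩ := hy
      have key : ∀ W : Y.Opens, ι u ∈ W → ι u ∈ ι ''ᵁ (ι ⁻¹ᵁ W) := fun W hW => ⟨u, hW, rfl⟩
      have hle : ∀ W : Y.Opens, ι ''ᵁ (ι ⁻¹ᵁ W) ≤ W := fun W => ι.image_preimage_le W
      refine ⟨(injective_iff_map_eq_zero _).2 fun b hb => ?_, fun b => ?_⟩
      · obtain ⟨W, hW, s, rfl⟩ := (modI J (F.obj M)).presheaf.exists_germ_eq b
        rw [M1.germ_naturality] at hb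
        obtain ⟨W', hW', i₁, i₂, he⟩ := (F.obj N).presheaf.germ_eq _ hW hW _ 0 (hb.trans (map_zero _).symm)
        have h0 : c.app (ι ''ᵁ (ι ⁻¹ᵁ W')) (M1.mres _ ((hle W').trans i₁.le) s) = 0 := by
          rw [M1.app_mres, ← M1.mres_mres _ i₁.le (hle W'),
            show M1.mres (F.obj N) i₁.le (c.app W s) = 0 from he.trans (map_zero _), map_zero]
        rw [← M1.germ_mres _ ((hle W').trans i₁.le) (key W' hW') s,
          (injective_iff_map_eq_zero _).1 (hRb _).1 _ h0, map_zero]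
      · obtain ⟨W, hW, s, rfl⟩ := (F.obj N).presheaf.exists_germ_eq b
        obtain ⟨t, ht⟩ := (hRb (ι ⁻¹ᵁ W)).2 (M1.mres _ (hle W) s)
        exact ⟨(modI J (F.obj M)).presheaf.germ _ (ι u) (key W hW) t,
          ((M1.germ_naturality c _ _ _ t).trans (congrArg _ ht)).trans (M1.germ_mres _ (hle W) (key W hW) s)⟩
    · have hM0 : y ∉ ⇑ι '' CohB1.support M := fun ⟨u, _, hu⟩ => hy ⟨u, hu⟩
      have hN0 : y ∉ ⇑ι '' CohB1.support N := fun ⟨u, _, hu⟩ => hy ⟨u, hu⟩
      have hA := (M1.notMem_support_iff _ y).1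
        (notMem_support_of_epi (modIπ J (F.obj M)) (notMem_support_push ι hcl hM0))
      have hB := (M1.notMem_support_iff _ y).1 (notMem_support_push ι hcl' hN0)
      exact ⟨fun a b _ => (hA a).trans (hA b).symm, fun b => ⟨0, (hB _).trans (hB b).symm⟩⟩
  haveI : Mono c := (M1.mono_iff_stalk c).2 fun y => (hst y).1
  haveI : Epi c := (M1.epi_iff_stalk c).2 fun y => (hst y).2
  haveI : IsIso c := isIso_of_mono_of_epi c
  exact ((isQuot_modIπ J (F.obj M)).comp_iso (asIso c)).of_eq hc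

include hι in
theorem isCoh_pushOpen [LocallyOfFiniteType (U ↘ Spec (CommRingCat.of A))]
    [IsSeparated (Y ↘ Spec (CommRingCat.of A))] {M : U.Modules} (hM : PS A M) :
    Coh.IsCoh ((Scheme.Modules.pushforward ι).obj M) ∧ IsClosed (⇑ι '' CohB1.support M) := by
  obtain ⟨Z, i, hi, hpr, hr, N, hN, hNFT, ⟨e⟩⟩ := PropSuppH7.exists_model _ hM.1.1 hM.1.2 hM.2
  haveI : IsProper ((i ≫ ι) ≫ (Y ↘ Spec (CommRingCat.of A))) := by rwa [Category.assoc, hι]
  haveI : IsProper (i ≫ ι) := IsProper.of_comp (i ≫ ι) (Y ↘ Spec (CommRingCat.of A))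
  haveI : Mono i := inferInstance
  haveI : Mono (i ≫ ι) := mono_comp _ _
  haveI : IsClosedImmersion (i ≫ ι) := (IsClosedImmersion.iff_isProper_and_mono (i ≫ ι)).2 ⟨inferInstance, inferInstance⟩
  refine ⟨CohFound.isCoh_of_iso ((((Scheme.Modules.pushforwardComp i ι).app N).symm ≪≫
      (Scheme.Modules.pushforward ι).mapIso e)) (CohFound.isCoh_push_closedImm (i ≫ ι) ⟨hN, hNFT⟩), ?_⟩
  rw [← hr, ← Set.range_comp]
  exact (i ≫ ι).isClosedEmbedding.isClosed_range

end open'

end Groth.Agent.GExistH7
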