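import Groth.Agent.Lib.GExistH7.Sys
import Groth.Agent.Lib.ModM1.Coh

/-!
Existence for a principal ideal, from liftings out of enough coherent modules.
-/

set_option autoImplicit false
set_option linter.style.haveILetI false
set_option backward.isDefEq.respectTransparency false

universe u

open CategoryTheory CategoryTheory.Limits AlgebraicGeometry Opposite

namespace Groth.Agent.GExistH7

open Groth.Agent.FormalH7

variable {A : Type u} [CommRing A] {X : Scheme.{u}} [X.Over (Spec (CommRingCat.of A))]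

/-- Enough coherent modules lift against extensions by finitely many given coherent modules. -/
def Lifts (P : X.Modules → Prop) : Prop :=
  ∀ (F : X.Modules), P F → ∀ (m : ℕ) (Q : Fin m → X.Modules), (∀ j, P (Q j)) →
    ∃ (E : X.Modules) (p : E ⟶ F), P E ∧ Epi p ∧
      ∀ (S : ShortComplex X.Modules), S.ShortExact → P S.X₂ → P S.X₃ → (∃ j, Nonempty (S.X₁ ≅ Q j)) →
        ∀ f : E ⟶ S.X₃, ∃ g, g ≫ S.g = f

/-- Increasing kernels out of a module of the class are stationary. -/
def Stat (P : X.Modules → Prop) : Prop :=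
  ∀ (F : X.Modules), P F → ∀ (T : ℕ → X.Modules) (u : ∀ j, F ⟶ T j), (∀ j, P (T j)) →
    (∀ j, kernel.ι (u j) ≫ u (j + 1) = 0) → ∃ c, ∀ j, c ≤ j → kernel.ι (u j) ≫ u c = 0

/-- The closure properties needed of the class of modules. -/
structure IsClass (P : X.Modules → Prop) : Prop where
  coh : ∀ M, P M → Coh.IsCoh M
  iso : ∀ {M N : X.Modules}, (M ≅ N) → P M → P N
  kernel : ∀ {M N : X.Modules} (f : M ⟶ N), P M → Coh.IsQCoh N → P (kernel f)
  cokernel : ∀ {M N : X.Modules} (f : M ⟶ N), Coh.IsQCoh M → P N → P (cokernel f)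

variable {x : A} {G : ℕᵒᵖ ⥤ X.Modules}

theorem kernel_desc {M N T : X.Modules} (q : M ⟶ N) [Epi q] (r : M ⟶ T) (h : kernel.ι q ≫ r = 0) :
    ∃ g : N ⟶ T, q ≫ g = r :=
  ⟨(ShortComplex.exact_kernel q).desc r h, (ShortComplex.exact_kernel q).g_desc r h⟩

theorem exists_iso_of_kernel {M N T : X.Modules} (q : M ⟶ N) [Epi q] (r : M ⟶ T) [Epi r]
    (h : kernel.ι q ≫ r = 0) (h' : kernel.ι r ≫ q = 0) : Nonempty (N ≅ T) := by
  obtain ⟨g, hg⟩ := kernel_desc q r h
  obtain ⟨g', hg'⟩ := kernel_desc r q h'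
  exact ⟨⟨g, g', (cancel_epi q).1 (by rw [← Category.assoc, hg, hg', Category.comp_id]),
    (cancel_epi r).1 (by rw [← Category.assoc, hg', hg, Category.comp_id])⟩⟩

theorem mem_span_pow (x : A) (n : ℕ) : x ^ n ∈ Ideal.span {x} ^ n :=
  Ideal.pow_mem_pow (Ideal.mem_span_singleton_self x) n

/-- Elements killed in a lower term are multiples of the power. -/
theorem exists_preimage (hG : IsSys (Ideal.span {x}) G) {a b : ℕ} (h : a ≤ b) {W : X.Modules}
    (y : W ⟶ G.obj (op b)) (hy : y ≫ gm G h = 0) :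
    ∃ (W' : X.Modules) (π : W' ⟶ W) (_ : Epi π) (m : W' ⟶ G.obj (op b)),
      π ≫ y = m ≫ Formal.smulMod A _ (x ^ (a + 1)) := by
  have hq := hG.quot_gm h
  rw [Ideal.span_singleton_pow] at hq
  exact hq.exact_span_singleton.exact_up_to_refinements y hy

theorem gm_mul_eq (hG : IsSys (Ideal.span {x}) G) (j : ℕ) :
    ∃ g : G.obj (op 0) ⟶ G.obj (op j), gm G (Nat.zero_le j) ≫ g = Formal.smulMod A _ (x ^ j) :=
  smul_kills_kernel (hG.quot_gm (Nat.zero_le j)) (L' := Ideal.span {x} ^ (j + 1)) (fun b hb => by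
    rw [zero_add, pow_one] at hb
    exact pow_succ (Ideal.span {x}) j ▸ Ideal.mul_mem_mul (mem_span_pow x j) hb) (hG.killed j)

/-- The data obtained from the liftings. -/
theorem exists_epi {P : X.Modules → Prop} (hP : IsClass P) (hL : Lifts P) (hS : Stat P)
    (hG : IsSys (Ideal.span {x}) G) (hGP : ∀ n, P (G.obj (op n))) :
    ∃ (E : X.Modules) (φ : ∀ n, E ⟶ G.obj (op n)) (c : ℕ), P E ∧ (∀ n, Epi (φ n)) ∧
      (∀ n m (h : n ≤ m), φ m ≫ gm G h = φ n) ∧
      ∀ j, c ≤ j → ∀ {W : X.Modules} (e : W ⟶ E), e ≫ φ j ≫ Formal.smulMod A _ (x ^ j) = 0 →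
        e ≫ φ c ≫ Formal.smulMod A _ (x ^ c) = 0 := by
  choose g hg using gm_mul_eq hG
  have hmono : ∀ j, kernel.ι (g j) ≫ g (j + 1) = 0 := by
    intro j
    obtain ⟨h, hh⟩ := smul_kills_kernel (hG.quot j) (a := x) (L' := Ideal.span {x} ^ (j + 1 + 1)) (fun b hb =>
      pow_succ' (Ideal.span {x}) (j + 1) ▸ Ideal.mul_mem_mul (Ideal.mem_span_singleton_self x) hb)
      (hG.killed (j + 1))
    have e : g (j + 1) = g j ≫ h := by
      refine (hG.quot_gm (Nat.zero_le (j + 1))).hom_ext ?_
      rw [hg, ← gm_comp G (Nat.zero_le j) (Nat.le_succ j), Category.assoc, reassoc_of% (hg j),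
        ← smulMod_naturality_assoc, hh, ← smulMod_mul', ← pow_succ]
    rw [e, kernel.condition_assoc, zero_comp]
  obtain ⟨c, hc⟩ := hS _ (hGP 0) _ g hGP hmono
  have hker : ∀ i j, i ≤ j → kernel.ι (g i) ≫ g j = 0 := by
    intro i j h
    induction j, h using Nat.le_induction with
    | base => exact kernel.condition _
    | succ j h ih => rw [← kernel.lift_ι (g j) _ ih, Category.assoc, hmono, comp_zero]
  let Q : Fin (c + 1) → X.Modules := fun j => if (j : ℕ) < c then kernel (gm G (Nat.le_succ (j : ℕ))) else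
    Abelian.image (g c)
  obtain ⟨E, p, hE, hp, hlift⟩ := hL _ (hGP 0) (c + 1) Q fun j => by
    simp only [Q]
    split_ifs
    · exact hP.kernel _ (hGP _) (hG.coh _).1
    · exact hP.kernel _ (hGP _) (M1.isQCoh_cokernel (hG.coh _).1 (hG.coh _).1 _)
  have hstep : ∀ (j : ℕ) (f : E ⟶ G.obj (op j)), ∃ f' : E ⟶ G.obj (op (j + 1)), f' ≫ gm G (Nat.le_succ j) = f := by
    intro j f
    haveI := (hG.quot j).epi
    let S : ShortComplex X.Modules := ShortComplex.mk _ _ (kernel.condition (gm G (Nat.le_succ j)))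
    have hSe : S.ShortExact := { exact := ShortComplex.exact_kernel _ }
    refine hlift S hSe (hGP _) (hGP _) ?_ f
    by_cases hj : j < c
    · refine ⟨⟨j, by omega⟩, ⟨eqToIso ?_⟩⟩
      simp only [Q, hj, if_true, S]
    · refine ⟨⟨c, by omega⟩, ?_⟩
      have hQ : Q ⟨c, by omega⟩ = Abelian.image (g c) := by simp [Q]
      rw [hQ]
      have hgk : g (j + 1) ≫ gm G (Nat.le_succ j) = 0 := by
        refine (hG.quot_gm (Nat.zero_le (j + 1))).hom_ext ?_
        rw [reassoc_of% (hg (j + 1)), comp_zero]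
        exact (hG.quot j).smul _ (mem_span_pow x (j + 1))
      let q : G.obj (op 0) ⟶ kernel (gm G (Nat.le_succ j)) := kernel.lift _ (g (j + 1)) hgk
      haveI : Epi q := by
        rw [epi_iff_surjective_up_to_refinements]
        intro W y
        obtain ⟨W', π, hπ, m, hm⟩ := exists_preimage hG (Nat.le_succ j) (y ≫ kernel.ι _)
          (by rw [Category.assoc, kernel.condition, comp_zero])
        refine ⟨W', π, hπ, m ≫ gm G (Nat.zero_le _), (cancel_mono (kernel.ι (gm G (Nat.le_succ j)))).1 ?_⟩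
        rw [Category.assoc, hm, Category.assoc, Category.assoc, kernel.lift_ι, hg]
      have e1 : kernel.ι q ≫ g (j + 1) = 0 := by
        rw [← kernel.lift_ι (gm G (Nat.le_succ j)) (g (j + 1)) hgk, ← Category.assoc, kernel.condition, zero_comp]
      refine exists_iso_of_kernel q (Abelian.factorThruImage (g c)) ?_ ?_
      · rw [← cancel_mono (Abelian.image.ι (g c)), Category.assoc, Abelian.image.fac, zero_comp,
          ← kernel.lift_ι (g (j + 1)) _ e1, Category.assoc, hc (j + 1) (by omega), comp_zero]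
      · have e2 : kernel.ι (Abelian.factorThruImage (g c)) ≫ g c = 0 := by
          conv_lhs => arg 2; rw [← Abelian.image.fac (g c)]
          rw [← Category.assoc, kernel.condition, zero_comp]
        rw [← cancel_mono (kernel.ι (gm G (Nat.le_succ j))), Category.assoc, kernel.lift_ι, zero_comp,
          ← kernel.lift_ι (g c) _ e2, Category.assoc, hker c (j + 1) (by omega), comp_zero]
  choose nx hnx using hstep
  let φ : ∀ n, E ⟶ G.obj (op n) := fun n =>
    Nat.rec (motive := fun n => E ⟶ G.obj (op n)) p (fun n f => nx n f) n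
  have hφs : ∀ n, φ (n + 1) ≫ gm G (Nat.le_succ n) = φ n := fun n => hnx n (φ n)
  have hφc : ∀ n m (h : n ≤ m), φ m ≫ gm G h = φ n := by
    intro n m h
    induction m, h using Nat.le_induction with
    | base => rw [gm_refl, Category.comp_id]
    | succ m h ih => rw [← gm_comp G h (Nat.le_succ m), ← Category.assoc, hφs, ih]
  have hepi : ∀ n, Epi (φ n) := by
    intro n
    haveI : Epi p := hp
    have h0 : Epi (Formal.smulMod A (cokernel (φ n)) x) := by
      refine Preadditive.epi_of_cancel_zero _ fun {T} ψ hψ => ?_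
      obtain ⟨ψ', hψ'⟩ := (hG.quot_gm (Nat.zero_le n)).desc (cokernel.π (φ n) ≫ ψ) (by
        rw [zero_add, pow_one]
        refine smul_span_comp_eq_zero _ ?_
        simp [smulMod_naturality_assoc, hψ])
      have : ψ' = 0 := by
        rw [← cancel_epi p, comp_zero]
        show φ 0 ≫ ψ' = 0
        rw [← hφc 0 n (Nat.zero_le n), Category.assoc, hψ', cokernel.condition_assoc, zero_comp]
      rw [← cancel_epi (cokernel.π (φ n)), ← hψ', this, comp_zero, comp_zero]
    have hpow : ∀ i, Epi (Formal.smulMod A (cokernel (φ n)) (x ^ i)) := by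
      intro i
      induction i with
      | zero => rw [pow_zero, smulMod_one]; infer_instance
      | succ i ih => rw [pow_succ, smulMod_mul]; exact epi_comp _ _
    have hz : Formal.smulMod A (cokernel (φ n)) (x ^ (n + 1)) = 0 := by
      rw [← cancel_epi (cokernel.π (φ n)), ← smulMod_naturality, hG.killed n _ (mem_span_pow x (n + 1)),
        zero_comp, comp_zero]
    haveI := hpow (n + 1)
    have h1 : 𝟙 (cokernel (φ n)) = 0 := by
      rw [← cancel_epi (Formal.smulMod A (cokernel (φ n)) (x ^ (n + 1))), Category.comp_id, hz, comp_zero]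
    exact Abelian.epi_of_cokernel_π_eq_zero _ (by rw [← Category.comp_id (cokernel.π _), h1, comp_zero])
  refine ⟨E, φ, c, hE, hepi, hφc, fun j hj {W} e he => ?_⟩
  have e1 : (e ≫ φ 0) ≫ g j = 0 := by
    rw [Category.assoc, ← hφc 0 j (Nat.zero_le j), Category.assoc, hg, he]
  rw [← hg c, reassoc_of% (hφc 0 c (Nat.zero_le c)), ← Category.assoc,
    ← kernel.lift_ι (g j) (e ≫ φ 0) e1, Category.assoc, hc j hj, comp_zero]

end Groth.Agent.GExistH7
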