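import Groth.Agent.Lib.GExistH7.Principal

/-!
The kernels of an epimorphic family onto a system form a system after a shift, and existence for a principal
ideal.
-/

set_option autoImplicit false
set_option linter.style.haveILetI false
set_option backward.isDefEq.respectTransparency false

universe u

open CategoryTheory CategoryTheory.Limits AlgebraicGeometry Opposite

namespace Groth.Agent.GExistH7

open Groth.Agent.FormalH7

variable {A : Type u} [CommRing A] {X : Scheme.{u}} [X.Over (Spec (CommRingCat.of A))]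

theorem exists_kernel_system {x : A} {G : ℕᵒᵖ ⥤ X.Modules} {P : X.Modules → Prop} (hP : IsClass P)
    (hG : IsSys (Ideal.span {x}) G) (hGP : ∀ n, P (G.obj (op n))) {E : X.Modules} (hE : P E)
    (φ : ∀ n, E ⟶ G.obj (op n)) (hepi : ∀ n, Epi (φ n))
    (hφ : ∀ n m (h : n ≤ m), φ m ≫ gm G h = φ n) (c : ℕ)
    (hc : ∀ j, c ≤ j → ∀ {W : X.Modules} (e : W ⟶ E), e ≫ φ j ≫ Formal.smulMod A _ (x ^ j) = 0 →
        e ≫ φ c ≫ Formal.smulMod A _ (x ^ c) = 0) :
    ∃ (F : ℕ → X.Modules) (t : ∀ k, F (k + 1) ⟶ F k) (i : ∀ k, F k ⟶ modI (Ideal.span {x} ^ (k + 1)) E),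
      IsSys (Ideal.span {x}) (Functor.ofOpSequence (X := F) t) ∧ (∀ k, P (F k)) ∧
      (∀ k, ∀ s, modIπ (Ideal.span {x} ^ (k + 1 + 1)) E ≫ s = modIπ (Ideal.span {x} ^ (k + 1)) E →
        t k ≫ i k = i (k + 1) ≫ s) ∧
      (∀ k (β : modI (Ideal.span {x} ^ (k + 1)) E ⟶ G.obj (op k)),
        modIπ (Ideal.span {x} ^ (k + 1)) E ≫ β = φ k → i k ≫ β = 0) ∧
      ∀ k {T : X.Modules} (β : modI (Ideal.span {x} ^ (k + 1)) E ⟶ T), i k ≫ β = 0 →
        kernel.ι (φ k) ≫ modIπ (Ideal.span {x} ^ (k + 1)) E ≫ β = 0 := by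
  let N : ℕ → X.Modules := fun j => kernel (φ j)
  have hNP : ∀ j, P (N j) := fun j => hP.kernel _ hE (hG.coh j).1
  have hι : ∀ a b (h : a ≤ b), kernel.ι (φ b) ≫ φ a = 0 := fun a b h => by
    rw [← hφ a b h, kernel.condition_assoc, zero_comp]
  let inc : ∀ a b (h : a ≤ b), N b ⟶ N a := fun a b h => kernel.lift (φ a) (kernel.ι (φ b)) (hι a b h)
  have hinc : ∀ a b (h : a ≤ b), inc a b h ≫ kernel.ι (φ a) = kernel.ι (φ b) := fun a b h => kernel.lift_ι _ _ _
  have hθ0 : ∀ j, Formal.smulMod A E (x ^ (j + 1)) ≫ φ j = 0 := fun j => by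
    rw [smulMod_naturality, hG.killed j _ (mem_span_pow x (j + 1)), comp_zero]
  let θ : ∀ j, E ⟶ N j := fun j => kernel.lift (φ j) _ (hθ0 j)
  have hθ : ∀ j, θ j ≫ kernel.ι (φ j) = Formal.smulMod A E (x ^ (j + 1)) := fun j => kernel.lift_ι _ _ _
  have star : ∀ a b (h : a ≤ b) {W : X.Modules} (y : W ⟶ N a),
      ∃ (W' : X.Modules) (π : W' ⟶ W) (_ : Epi π) (n : W' ⟶ N b) (e : W' ⟶ E),
        π ≫ y = n ≫ inc a b h + e ≫ θ a := by
    intro a b h W y
    obtain ⟨W₁, π₁, hπ₁, m, hm⟩ := exists_preimage hG h (y ≫ kernel.ι (φ a) ≫ φ b)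
      (by rw [Category.assoc, Category.assoc, hφ a b h, kernel.condition, comp_zero])
    haveI := hepi b
    obtain ⟨W₂, π₂, hπ₂, e, he⟩ := surjective_up_to_refinements_of_epi (φ b) m
    have h0 : (π₂ ≫ π₁ ≫ y ≫ kernel.ι (φ a) - e ≫ Formal.smulMod A E (x ^ (a + 1))) ≫ φ b = 0 := by
      rw [Preadditive.sub_comp, Category.assoc, Category.assoc, Category.assoc, Category.assoc, hm,
        smulMod_naturality, reassoc_of% he, sub_self]
    refine ⟨W₂, π₂ ≫ π₁, epi_comp _ _, kernel.lift _ _ h0, e, (cancel_mono (kernel.ι (φ a))).1 ?_⟩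
    rw [Preadditive.add_comp, Category.assoc, Category.assoc, Category.assoc, Category.assoc, hinc a b h, hθ,
      kernel.lift_ι, sub_add_cancel]
  let ρ : ∀ k, N (k + c) ⟶ modI (Ideal.span {x} ^ (k + 1)) (N (k + c)) := fun k => modIπ _ _
  let F : ℕ → X.Modules := fun k => cokernel (θ (k + c) ≫ ρ k)
  let ν : ∀ k, N (k + c) ⟶ F k := fun k => ρ k ≫ cokernel.π _
  have hνepi : ∀ k, Epi (ν k) := fun k => epi_comp _ _
  have hνθ : ∀ k, θ (k + c) ≫ ν k = 0 := fun k => by
    rw [← Category.assoc]; exact cokernel.condition _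
  have hνkill : ∀ k, ∀ a ∈ Ideal.span {x} ^ (k + 1), Formal.smulMod A _ a ≫ ν k = 0 := fun k a ha => by
    rw [← Category.assoc, (isQuot_modIπ _ _).smul a ha, zero_comp]
  have hFkill : ∀ k, Formal.KilledBy (Ideal.span {x} ^ (k + 1)) (F k) := fun k =>
    killedBy_of_epi (cokernel.π _) (isQuot_modIπ _ _).killed
  have hνdesc : ∀ k {T : X.Modules} (β : N (k + c) ⟶ T),
      (∀ a ∈ Ideal.span {x} ^ (k + 1), Formal.smulMod A _ a ≫ β = 0) → θ (k + c) ≫ β = 0 →
      ∃ β', ν k ≫ β' = β := by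
    intro k T β h1 h2
    obtain ⟨β₁, hβ₁⟩ := (isQuot_modIπ _ _).desc β h1
    exact ⟨cokernel.desc _ β₁ (by rw [Category.assoc, hβ₁, h2]),
      (Category.assoc _ _ _).trans ((congrArg (ρ k ≫ ·) (cokernel.π_desc _ _ _)).trans hβ₁)⟩
  have hFP : ∀ k, P (F k) := fun k => by
    refine hP.cokernel _ (hP.coh _ hE).1 ?_
    have h1 : IsQuot (Ideal.span {x} ^ (k + 1)) (cokernel.π (Formal.smulMod A (N (k + c)) (x ^ (k + 1)))) := by
      rw [Ideal.span_singleton_pow]
      exact isQuot_span_singleton (cokernel.condition _) (ShortComplex.exact_cokernel _)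
    obtain ⟨e, -⟩ := h1.exists_iso (isQuot_modIπ (Ideal.span {x} ^ (k + 1)) (N (k + c)))
    exact hP.iso e (hP.cokernel _ (hP.coh _ (hNP _)).1 (hNP _))
  have hi0 : ∀ k, ∃ i : F k ⟶ modI (Ideal.span {x} ^ (k + 1)) E,
      ν k ≫ i = kernel.ι (φ (k + c)) ≫ modIπ _ E := by
    intro k
    refine hνdesc k _ (fun a ha => ?_) ?_
    · rw [smulMod_naturality_assoc, (isQuot_modIπ _ E).smul a ha, comp_zero]
    · rw [← Category.assoc, hθ]
      exact (isQuot_modIπ _ E).smul _ (Ideal.pow_le_pow_right (by omega) (mem_span_pow x (k + c + 1)))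
  choose i hi using hi0
  have ht0 : ∀ k, ∃ t : F (k + 1) ⟶ F k, ν (k + 1) ≫ t = inc (k + c) (k + 1 + c) (by omega) ≫ ν k := by
    intro k
    refine hνdesc (k + 1) _ (fun a ha => ?_) ?_
    · rw [smulMod_naturality_assoc, hνkill k a (Ideal.pow_le_pow_right (Nat.le_succ _) ha), comp_zero]
    · have e : θ (k + 1 + c) ≫ inc (k + c) (k + 1 + c) (by omega) =
          Formal.smulMod A E x ≫ θ (k + c) := by
        refine (cancel_mono (kernel.ι (φ (k + c)))).1 ?_
        rw [Category.assoc, hinc (k + c) (k + 1 + c) (by omega), hθ, Category.assoc, hθ, ← smulMod_mul']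
        congr 1
        rw [← pow_succ']
        congr 1
        omega
      rw [reassoc_of% e, hνθ, comp_zero]
  choose t ht using ht0
  have hquot : ∀ k, IsQuot (Ideal.span {x} ^ (k + 1)) (t k) := by
    intro k
    have hk : k + c ≤ k + 1 + c := by omega
    let pc : N (k + 1 + c) ⟶ cokernel (θ (k + c)) := inc (k + c) _ hk ≫ cokernel.π _
    haveI : Epi pc := by
      rw [epi_iff_surjective_up_to_refinements]
      intro W y
      obtain ⟨W₁, π₁, hπ₁, y₁, hy₁⟩ := surjective_up_to_refinements_of_epi (cokernel.π (θ (k + c))) y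
      obtain ⟨W₂, π₂, hπ₂, n, e, hne⟩ := star (k + c) (k + 1 + c) hk y₁
      refine ⟨W₂, π₂ ≫ π₁, epi_comp _ _, n, ?_⟩
      rw [Category.assoc, hy₁, reassoc_of% hne, Preadditive.add_comp, Category.assoc, Category.assoc,
        cokernel.condition, comp_zero, add_zero]
    refine ⟨?_, fun a ha => by rw [smulMod_naturality, hFkill k a ha, comp_zero], fun {T} α hα => ?_⟩
    · haveI := hνepi k
      obtain ⟨β, hβ⟩ : ∃ β, cokernel.π (θ (k + c)) ≫ β = ν k := ⟨cokernel.desc _ _ (hνθ k), cokernel.π_desc _ _ _⟩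
      haveI : Epi (cokernel.π (θ (k + c)) ≫ β) := by rw [hβ]; infer_instance
      haveI : Epi β := epi_of_epi (cokernel.π (θ (k + c))) β
      haveI : Epi (ν (k + 1) ≫ t k) := by
        rw [ht, ← hβ, ← Category.assoc]; exact epi_comp _ _
      exact epi_of_epi (ν (k + 1)) (t k)
    · have hker : kernel.ι pc ≫ ν (k + 1) ≫ α = 0 := by
        obtain ⟨W₁, π₁, hπ₁, e, he⟩ := (ShortComplex.exact_cokernel (θ (k + c))).exact_up_to_refinements
          (kernel.ι pc ≫ inc (k + c) (k + 1 + c) hk) (by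
            rw [Category.assoc]; exact kernel.condition pc)
        have he' : π₁ ≫ kernel.ι pc ≫ kernel.ι (φ (k + 1 + c)) = e ≫ Formal.smulMod A E (x ^ (k + c + 1)) := by
          have := congrArg (· ≫ kernel.ι (φ (k + c))) he
          simpa only [Category.assoc, hinc, hθ] using this
        have h2 : e ≫ φ (k + 1 + c) ≫ Formal.smulMod A _ (x ^ (k + 1 + c)) = 0 := by
          rw [← smulMod_naturality, show x ^ (k + 1 + c) = x ^ (k + c + 1) by congr 1; omega,
            ← reassoc_of% he', kernel.condition, comp_zero, comp_zero]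
        have h3 := hc (k + 1 + c) (by omega) e h2
        let y : W₁ ⟶ N c := kernel.lift (φ c) (e ≫ Formal.smulMod A E (x ^ c))
          (by rw [Category.assoc, smulMod_naturality, h3])
        obtain ⟨W₂, π₂, hπ₂, n, e', hne⟩ := star c (k + 1 + c) (by omega) y
        have key : π₂ ≫ π₁ ≫ kernel.ι pc =
            n ≫ Formal.smulMod A _ (x ^ (k + 1)) + e' ≫ θ (k + 1 + c) := by
          refine (cancel_mono (kernel.ι (φ (k + 1 + c)))).1 ?_
          have h4 : π₂ ≫ e ≫ Formal.smulMod A E (x ^ c) = n ≫ kernel.ι (φ (k + 1 + c)) +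
              e' ≫ Formal.smulMod A E (x ^ (c + 1)) := by
            have := congrArg (· ≫ kernel.ι (φ c)) hne
            simpa only [Category.assoc, Preadditive.add_comp, hinc, hθ, y, kernel.lift_ι] using this
          rw [Preadditive.add_comp, Category.assoc, Category.assoc, Category.assoc, Category.assoc, hθ, he',
            smulMod_naturality, show x ^ (k + c + 1) = x ^ c * x ^ (k + 1) by rw [← pow_add]; congr 1; omega,
            smulMod_mul', reassoc_of% h4, Preadditive.add_comp, Category.assoc, Category.assoc, ← smulMod_mul',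
            ← pow_add]
          rw [show c + 1 + (k + 1) = k + 1 + c + 1 by omega]
        haveI := hπ₁
        haveI := hπ₂
        have hz : Formal.smulMod A (N (k + 1 + c)) (x ^ (k + 1)) ≫ ν (k + 1) ≫ α = 0 := by
          rw [smulMod_naturality_assoc, hα _ (mem_span_pow x (k + 1)), comp_zero]
        rw [← cancel_epi π₁, ← cancel_epi π₂, reassoc_of% key, Preadditive.add_comp, Category.assoc, Category.assoc,
          show Formal.smulMod A (N (k + 1 + c)) (x ^ (k + 1)) ≫ ρ (k + 1) ≫ cokernel.π _ ≫ α = 0 from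
            (congrArg (_ ≫ ·) (Category.assoc _ _ _).symm).trans hz,
          Category.assoc e' (θ (k + 1 + c)),
          show θ (k + 1 + c) ≫ ρ (k + 1) ≫ cokernel.π _ ≫ α = 0 from
            (Category.assoc _ _ _).symm.trans (by rw [cokernel.condition_assoc, zero_comp])]
        simp
      obtain ⟨Φ, hΦ⟩ := kernel_desc pc (ν (k + 1) ≫ α) hker
      obtain ⟨Φ', hΦ'⟩ := hνdesc k (cokernel.π _ ≫ Φ) (fun a ha => by
        rw [smulMod_naturality_assoc, smulMod_naturality]
        have : Formal.smulMod A (cokernel (θ (k + c))) a ≫ Φ = 0 := by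
          rw [← cancel_epi pc, ← smulMod_naturality_assoc, hΦ, smulMod_naturality_assoc, hα a ha, comp_zero,
            comp_zero]
        rw [← smulMod_naturality, this, comp_zero]) (by rw [cokernel.condition_assoc, zero_comp])
      refine ⟨Φ', ?_⟩
      haveI := hνepi (k + 1)
      rw [← cancel_epi (ν (k + 1)), ← Category.assoc, ht, Category.assoc, hΦ', ← hΦ, Category.assoc]
  refine ⟨F, t, i, isSys_ofOpSequence t (fun k => hP.coh _ (hFP k)) hFkill hquot, hFP, fun k s hs => ?_,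
    fun k β hβ => ?_, fun k {T} β hβ => ?_⟩
  · haveI := hνepi (k + 1)
    rw [← cancel_epi (ν (k + 1)), ← Category.assoc, ht, Category.assoc, hi, reassoc_of% (hi (k + 1)), hs,
      ← Category.assoc, hinc (k + c) (k + 1 + c) (by omega)]
  · haveI := hνepi k
    rw [← cancel_epi (ν k), reassoc_of% (hi k), hβ, hι k (k + c) (by omega), comp_zero]
  · obtain ⟨W₁, π₁, hπ₁, n, e, hne⟩ := star k (k + c) (by omega) (𝟙 (N k))
    haveI := hπ₁
    have hne' : π₁ ≫ kernel.ι (φ k) = n ≫ kernel.ι (φ (k + c)) + e ≫ Formal.smulMod A E (x ^ (k + 1)) := by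
      have := congrArg (· ≫ kernel.ι (φ k)) hne
      simpa only [Category.assoc, Preadditive.add_comp, hinc, hθ, Category.id_comp] using this
    rw [← cancel_epi π₁, reassoc_of% hne', Preadditive.add_comp, Category.assoc, Category.assoc, ← reassoc_of% (hi k),
      hβ, reassoc_of% ((isQuot_modIπ _ E).smul _ (mem_span_pow x (k + 1)))]
    simp

/-- Existence for a principal ideal. -/
theorem algebraizable_principal {x : A} {P : X.Modules → Prop} (hP : IsClass P) (hL : Lifts P) (hS : Stat P)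
    (hF : FFaith P (Ideal.span {x})) (G : ℕᵒᵖ ⥤ X.Modules) (hG : IsSys (Ideal.span {x}) G)
    (hGP : ∀ n, P (G.obj (op n))) :
    ∃ (M : X.Modules) (χ : ∀ n, M ⟶ G.obj (op n)), P M ∧
      (∀ n, IsQuot (Ideal.span {x} ^ (n + 1)) (χ n)) ∧ ∀ n, χ (n + 1) ≫ gm G (Nat.le_succ n) = χ n := by
  obtain ⟨E, φ, c, hE, hepi, hφ, hc⟩ := exists_epi hP hL hS hG hGP
  obtain ⟨F, t, i, hFs, hFP, hcomm, hzero, hkey⟩ := exists_kernel_system hP hG hGP hE φ hepi hφ c hc
  obtain ⟨E', φ', c', hE', hepi', hφ', -⟩ := exists_epi hP hL hS hFs hFP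
  choose s hs using fun k => (isQuot_modIπ (Ideal.span {x} ^ (k + 1 + 1)) E).desc_killed
    (modIπ (Ideal.span {x} ^ (k + 1)) E)
    (killedBy_mono (Ideal.pow_le_pow_right (Nat.le_succ _)) (isQuot_modIπ _ _).killed)
  have hf : ∀ k, (φ' (k + 1) ≫ i (k + 1)) ≫ s k = φ' k ≫ i k := by
    intro k
    rw [Category.assoc, ← hcomm k (s k) (hs k), ← hφ' k (k + 1) (Nat.le_succ k), gm_ofOpSequence, Category.assoc]
  obtain ⟨ψ, hψ⟩ := hF.exists_lift hE' hE (fun k => isQuot_modIπ (Ideal.span {x} ^ (k + 1)) E) s hs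
    (fun k => φ' k ≫ i k) hf
  choose β hβ using fun k => (isQuot_modIπ (Ideal.span {x} ^ (k + 1)) E).desc_killed (φ k) (hG.killed k)
  have hψφ : ∀ k, ψ ≫ φ k = 0 := fun k => by
    rw [← hβ k, reassoc_of% (hψ k), hzero k (β k) (hβ k), comp_zero]
  refine ⟨cokernel ψ, fun k => cokernel.desc ψ (φ k) (hψφ k), hP.cokernel ψ (hP.coh _ hE').1 hE, fun k => ?_,
    fun k => coequalizer.hom_ext ?_⟩
  · haveI := hepi k
    haveI : Epi (cokernel.π ψ ≫ cokernel.desc ψ (φ k) (hψφ k)) := by rw [cokernel.π_desc]; infer_instance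
    refine ⟨epi_of_epi (cokernel.π ψ) _, fun a ha => by
      rw [smulMod_naturality, hG.killed k a ha, comp_zero], fun {T} α hα => ?_⟩
    obtain ⟨αb, hαb⟩ := (isQuot_modIπ (Ideal.span {x} ^ (k + 1)) E).desc (cokernel.π ψ ≫ α) fun a ha => by
      rw [smulMod_naturality_assoc, hα a ha, comp_zero]
    haveI := hepi' k
    have h1 : i k ≫ αb = 0 := by
      rw [← cancel_epi (φ' k), ← reassoc_of% (hψ k), hαb, cokernel.condition_assoc, zero_comp, comp_zero]
    have h2 := hkey k αb h1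
    rw [hαb] at h2
    obtain ⟨α', hα'⟩ := kernel_desc (φ k) _ h2
    exact ⟨α', (cancel_epi (cokernel.π ψ)).1 (by rw [← Category.assoc, cokernel.π_desc, hα'])⟩
  · rw [← Category.assoc, cokernel.π_desc, hφ k (k + 1) (Nat.le_succ k), cokernel.π_desc]

end Groth.Agent.GExistH7
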