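import Groth.Agent.Lib.FormalModH7.IndExt

/-!
Maps from modules of finite type into filtered unions factor through a stage.
-/

set_option autoImplicit false
set_option linter.style.haveILetI false
set_option backward.isDefEq.respectTransparency false
set_option backward.isDefEq.respectTransparency.types false

universe u

open CategoryTheory CategoryTheory.Limits TopologicalSpace Opposite

namespace Groth.Agent.GExistH7

open FormalModH7 ModFlat16

variable {X : TopCat.{u}} {O : Sheaf (Opens.grothendieckTopology X) CommRingCat.{u}}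
variable {I : Type u} [SmallCategory I] [IsFiltered I] (D : I ⥤ ModSite.Mod O) (c : Cocone D) (hc : IsColimit c)

include hc in
theorem exists_fac_stage [CompactSpace X] (hm : ∀ j, Mono (cmap D c j)) {P : ModSite.Mod O}
    [SheafOfModules.IsFiniteType (R := ModSite.ringSh O) P] (ψ : P ⟶ c.pt) :
    ∃ (j : I) (q : P ⟶ D.obj j), q ≫ cmap D c j = ψ := by
  classical
  obtain ⟨S, hS, h⟩ := covd_hasGens (M := P) (⊤ : Opens X)
  have hloc : ∀ x : X, ∃ U : Opens X, x ∈ U ∧ ∃ (ι : Type u) (_ : Fintype ι) (s : ι → ModSite.sect P U),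
      Gens P U s ∧ ∃ j : I, ∀ k, ∃ t, (cmap D c j).val.app (op U) t = ψ.val.app (op U) (s k) := fun x => by
    obtain ⟨U₀, l, hl, hxU₀⟩ := hS x (Set.mem_univ x)
    obtain ⟨ι, hι, s, hs⟩ := h l hl
    choose j V hV hxV t ht using fun k => exists_local_rep_filt D c hc (ψ.val.app (op U₀) (s k)) hxU₀
    obtain ⟨l, hl⟩ := IsFiltered.sup_objs_exists (Finset.univ.image j)
    let U : Opens X := Finset.univ.inf V ⊓ U₀
    have hU : ∀ k, U ≤ V k := fun k => inf_le_left.trans (Finset.inf_le (Finset.mem_univ k))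
    refine ⟨U, ⟨mem_fin_inf _ _ fun k _ => hxV k, hxU₀⟩, ι, hι, fun k => smap P (homOfLE inf_le_right) (s k),
      gens_smap _ hs, l, fun k => ⟨smap (D.obj l) (homOfLE (hU k))
        ((D.map (hl (Finset.mem_image_of_mem j (Finset.mem_univ k))).some).val.app (op (V k)) (t k)), ?_⟩⟩
    rw [app_smap, app_smap]
    have h1 : (cmap D c l).val.app (op (V k))
        ((D.map (hl (Finset.mem_image_of_mem j (Finset.mem_univ k))).some).val.app (op (V k)) (t k)) =
          smap c.pt (homOfLE (hV k)) (ψ.val.app (op U₀) (s k)) :=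
      (congrArg (fun q : D.obj (j k) ⟶ c.pt => q.val.app (op (V k)) (t k)) (c.w _)).trans (ht k)
    rw [h1, ← smap_comp]
    rfl
  choose U hxU ι hι s hs j t ht using hloc
  obtain ⟨T, hT⟩ := isCompact_univ.elim_finite_subcover (fun x : X => (U x : Set X)) (fun x => (U x).2)
    fun x _ => Set.mem_iUnion.2 ⟨x, hxU x⟩
  obtain ⟨l, hl⟩ := IsFiltered.sup_objs_exists (T.image j)
  refine ⟨l, ?_⟩
  haveI := hm l
  have hz : ψ ≫ cokernel.π (cmap D c l) = 0 := by
    refine SheafOfModules.hom_ext (PresheafOfModules.hom_ext fun W => ?_)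
    obtain ⟨W, rfl⟩ : ∃ W', op W' = W := ⟨W.unop, rfl⟩
    refine ModuleCat.hom_ext (LinearMap.ext fun y => ?_)
    show (ψ ≫ cokernel.π (cmap D c l)).val.app (op W) y = 0
    refine sect_ext _ { arrows := fun W' m => smap _ m ((ψ ≫ cokernel.π (cmap D c l)).val.app (op W) y) = 0
                        downward_closed := by
                          intro V₁ V₂ m hm r
                          rw [smap_comp, hm, map_zero] } (fun x hx => ?_) fun V' m hm => hm.trans (map_zero _).symm
    obtain ⟨x₀, hx₀, hx'⟩ := Set.mem_iUnion₂.1 (hT (Set.mem_univ x))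
    obtain ⟨R, hR, hR'⟩ := gens_apply (hs x₀) (homOfLE (inf_le_right : W ⊓ U x₀ ≤ U x₀))
      (smap P (homOfLE (inf_le_left : W ⊓ U x₀ ≤ W)) y)
    obtain ⟨W', m, hm, hxW'⟩ := hR x ⟨hx, hx'⟩
    obtain ⟨a, ha⟩ := hR' m hm
    refine ⟨W', m ≫ homOfLE inf_le_left, ?_, hxW'⟩
    show smap _ _ _ = 0
    rw [← app_smap, smap_comp, ha, app_sum]
    refine Finset.sum_eq_zero fun k _ => ?_
    rw [app_smap]
    have hk : (ψ ≫ cokernel.π (cmap D c l)).val.app (op (U x₀)) (s x₀ k) = 0 := by
      have hz := ht x₀ k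
      show (cokernel.π (cmap D c l)).val.app (op (U x₀)) (ψ.val.app (op (U x₀)) (s x₀ k)) = 0
      rw [← hz, show cmap D c (j x₀) = D.map (hl (Finset.mem_image_of_mem j hx₀)).some ≫ cmap D c l from (c.w _).symm]
      exact congrArg (fun q : D.obj l ⟶ _ => q.val.app (op (U x₀))
        ((D.map (hl (Finset.mem_image_of_mem j hx₀)).some).val.app (op (U x₀)) (t x₀ k))) (cokernel.condition (cmap D c l))
    rw [hk, map_zero, smul_zero]
  exact ⟨(Abelian.monoIsKernelOfCokernel _ (cokernelIsCokernel (cmap D c l))).lift (KernelFork.ofι ψ hz),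
    (Abelian.monoIsKernelOfCokernel _ (cokernelIsCokernel (cmap D c l))).fac _ WalkingParallelPair.zero⟩

end Groth.Agent.GExistH7
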