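import Groth.Agent.Lib.GExistH7.FullFaith
import Groth.Agent.Lib.GExistH7.StageFac
import Groth.Agent.Lib.FormalModH7.CplIsFlat
import Groth.Agent.Lib.CohMop.QCohVan

/-!
The inverse image to the completion of a proper scheme: quasi-coherent modules and ind-coherent modules.
-/

set_option autoImplicit false
set_option linter.style.haveILetI false
set_option backward.isDefEq.respectTransparency false

universe u

open CategoryTheory CategoryTheory.Limits AlgebraicGeometry Opposite TopologicalSpace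

namespace Groth.Agent.GExistH7

open Groth.Agent.FormalModH7

variable {A : Type u} [CommRing A] [IsNoetherianRing A] (J : Ideal A) [IsAdicComplete J A] {X : Scheme.{u}}
  [X.Over (Spec (CommRingCat.of A))] [IsProper (X ↘ Spec (CommRingCat.of A))]
  (𝓘 : X.IdealSheafData) (h𝓘 : 𝓘 = (FSch.idealSpec A J).comap (X ↘ Spec (CommRingCat.of A)))
  (h : (FSch.completionAlong X 𝓘).IsFormal)

theorem ps_of_isCoh {G : X.Modules} (hG : Coh.IsCoh G) : PS A G := by
  refine ⟨hG, ClSub24.isProperOver_subset _ (Set.subset_univ _) (M1.isClosed_support hG.2) ?_⟩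
  exact (ClSub24.isProperOver_iff_exists _ _).2 ⟨X, 𝟙 X, inferInstance, by simp, by rw [Category.id_comp]; infer_instance⟩

include h𝓘 in
theorem pull_map_bijective {F G : X.Modules} (hF : Coh.IsCoh F) (hG : Coh.IsCoh G) :
    Function.Bijective (fun φ : F ⟶ G => (tsm 𝓘 h).pull.map φ) :=
  pull_map_bijective_of_PS J 𝓘 h𝓘 h (ps_of_isCoh hF) (ps_of_isCoh hG)

/-- The inverse image of a coherent module is coherent. -/
theorem isCohF_pull [IsLocallyNoetherian X] {F : X.Modules} (hF : Coh.IsCoh F) :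
    FSch.IsCohF _ h ((tsm 𝓘 h).pull.obj F) := by
  have hN := isLocNoethFormal_completionAlong 𝓘 h
  haveI := isIso_gam 𝓘 h hF
  have h1 : SheafOfModules.IsFinitePresentation (R := ModSite.ringSh ((FSch.completionAlong X 𝓘).Osh h))
      ((FSch.complMod 𝓘 F).realMod h) := isFinitePresentation_realMod _ hN (isCoh_complMod 𝓘 hF)
  haveI := h1
  exact (SheafOfModules.isFinitePresentation (ModSite.ringSh ((FSch.completionAlong X 𝓘).Osh h))).prop_of_iso
    (asIso (gam 𝓘 h F)).symm h1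

theorem mono_pull [IsLocallyNoetherian X] {F G : X.Modules} (φ : F ⟶ G) [Mono φ] :
    Mono ((tsm 𝓘 h).pull.map φ) := by
  haveI : PreservesFiniteLimits (tsm 𝓘 h).pull := isFlat_completion 𝓘 h
  haveI : Mono (show (F : ModSite.Mod X.sheaf) ⟶ (G : ModSite.Mod X.sheaf) from φ) := ‹Mono φ›
  infer_instance

section qc

variable [IsLocallyNoetherian X] [CompactSpace X]

omit [IsProper (X ↘ Spec (CommRingCat.of A))] in
theorem isCoh_stage (G : QCohCat.QCoh X) (a : QCoh8.StageFT G) : Coh.IsCoh ((CohMop.ftDiag G).obj a) :=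
  ⟨QCoh8.isQCoh_toSub _, a.sub.2⟩

include h𝓘 in
/-- The inverse image is faithful on quasi-coherent modules. -/
theorem pull_map_eq_zero {G H : X.Modules} (hG : Coh.IsQCoh G) (hH : Coh.IsQCoh H) {φ : G ⟶ H}
    (e : (tsm 𝓘 h).pull.map φ = 0) : φ = 0 := by
  haveI : (tsm 𝓘 h).pull.Additive := inferInstance
  let G' : QCohCat.QCoh X := ⟨G, hG⟩
  obtain ⟨hc⟩ := CohMop.nonempty_isColimit_ftCocone G'
  refine hc.hom_ext fun a => ?_
  let ψ : (CohMop.ftDiag G').obj a ⟶ H := (CohMop.ftCocone G').ι.app a ≫ φ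
  show ψ = (CohMop.ftCocone G').ι.app a ≫ (0 : G ⟶ H)
  rw [comp_zero]
  have hK : Coh.IsCoh (Abelian.image ψ) :=
    ⟨M1.isQCoh_kernel hH (M1.isQCoh_cokernel (isCoh_stage G' a).1 hH ψ) _,
      M1.isFT_of_epi (Abelian.factorThruImage ψ) (isCoh_stage G' a).2⟩
  have h0 : (tsm 𝓘 h).pull.map (Abelian.factorThruImage ψ) = 0 := by
    haveI := mono_pull 𝓘 h (Abelian.image.ι ψ)
    rw [← cancel_mono ((tsm 𝓘 h).pull.map (Abelian.image.ι ψ)), zero_comp, ← Functor.map_comp]
    refine (congrArg _ (Abelian.image.fac ψ)).trans ?_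
    exact (Functor.map_comp _ _ _).trans ((congrArg (_ ≫ ·) e).trans comp_zero)
  rw [← Abelian.image.fac ψ, show Abelian.factorThruImage ψ = 0 from
    (pull_map_bijective J 𝓘 h𝓘 h (isCoh_stage G' a) hK).1 (h0.trans (Functor.map_zero _ _ _).symm), zero_comp]

include h𝓘 in
theorem pull_map_injective {G H : X.Modules} (hG : Coh.IsQCoh G) (hH : Coh.IsQCoh H) :
    Function.Injective (fun φ : G ⟶ H => (tsm 𝓘 h).pull.map φ) := fun φ ψ e => by
  haveI : (tsm 𝓘 h).pull.Additive := inferInstance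
  refine sub_eq_zero.1 (pull_map_eq_zero J 𝓘 h𝓘 h hG hH ?_)
  exact (Functor.map_sub _ (f := φ) (g := ψ)).trans (sub_eq_zero.2 e)

include h𝓘 in
/-- The inverse image is full on quasi-coherent modules. -/
theorem pull_map_surjective {G H : X.Modules} (hG : Coh.IsQCoh G) (hH : Coh.IsQCoh H) :
    Function.Surjective (fun φ : G ⟶ H => (tsm 𝓘 h).pull.map φ) := by
  intro Φ
  haveI : CompactSpace ↥((FSch.completionAlong X 𝓘).X 0) := (FSch.completionToX X 𝓘 0).isClosedEmbedding.compactSpace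
  let κ := (tsm 𝓘 h).pull
  haveI : PreservesColimitsOfSize.{u, u} κ := (tsm 𝓘 h).adj.leftAdjoint_preservesColimits
  let G' : QCohCat.QCoh X := ⟨G, hG⟩
  let H' : QCohCat.QCoh X := ⟨H, hH⟩
  obtain ⟨hcG⟩ := CohMop.nonempty_isColimit_ftCocone G'
  obtain ⟨hcH⟩ := CohMop.nonempty_isColimit_ftCocone H'
  haveI := CohMop.nonempty_stageFT H'
  haveI := CohMop.directed_stageFT H'
  haveI hmH : ∀ b, Mono ((CohMop.ftCocone H').ι.app b) := fun b => ((CohMop.ftOver H').obj b).mono
  have key : ∀ a, ∃ ψ : (CohMop.ftDiag G').obj a ⟶ H, κ.map ψ = κ.map ((CohMop.ftCocone G').ι.app a) ≫ Φ := fun a => by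
    haveI : SheafOfModules.IsFiniteType (R := ModSite.ringSh ((FSch.completionAlong X 𝓘).Osh h))
        (κ.obj ((CohMop.ftDiag G').obj a)) := by
      haveI : SheafOfModules.IsFinitePresentation (R := ModSite.ringSh ((FSch.completionAlong X 𝓘).Osh h))
        (κ.obj ((CohMop.ftDiag G').obj a)) := isCohF_pull 𝓘 h (isCoh_stage G' a)
      infer_instance
    obtain ⟨b, q, hq⟩ := exists_fac_stage (CohMop.ftDiag H' ⋙ κ) (κ.mapCocone (CohMop.ftCocone H'))
      (isColimitOfPreserves κ hcH) (fun b => mono_pull 𝓘 h ((CohMop.ftCocone H').ι.app b))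
      (κ.map ((CohMop.ftCocone G').ι.app a) ≫ Φ)
    obtain ⟨ψ₀, hψ₀⟩ := (pull_map_bijective J 𝓘 h𝓘 h (isCoh_stage G' a) (isCoh_stage H' b)).2 q
    exact ⟨ψ₀ ≫ (CohMop.ftCocone H').ι.app b,
      (Functor.map_comp _ _ _).trans ((congrArg (· ≫ _) hψ₀).trans hq)⟩
  choose ψ hψ using key
  let s : Cocone (CohMop.ftDiag G') := Cocone.mk H
    { app := ψ
      naturality := fun a b g => by
        refine (pull_map_injective J 𝓘 h𝓘 h (isCoh_stage G' a).1 hH ?_).trans (Category.comp_id _).symm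
        show κ.map ((CohMop.ftDiag G').map g ≫ ψ b) = κ.map (ψ a)
        rw [Functor.map_comp, hψ, hψ, ← (CohMop.ftCocone G').w g, Functor.map_comp, Category.assoc] }
  refine ⟨hcG.desc s, (isColimitOfPreserves κ hcG).hom_ext fun a => ?_⟩
  show κ.map ((CohMop.ftCocone G').ι.app a) ≫ κ.map (hcG.desc s) = _
  rw [← Functor.map_comp, hcG.fac]
  exact hψ a

/-- The inverse image of a quasi-coherent module is ind-coherent. -/
theorem ind_pull {G : X.Modules} (hG : Coh.IsQCoh G) :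
    IndC (isLocNoethFormal_completionAlong 𝓘 h) ((tsm 𝓘 h).pull.obj G) := by
  let G' : QCohCat.QCoh X := ⟨G, hG⟩
  haveI : PreservesColimitsOfSize.{u, u} (tsm 𝓘 h).pull := (tsm 𝓘 h).adj.leftAdjoint_preservesColimits
  obtain ⟨hc⟩ := CohMop.nonempty_isColimit_ftCocone G'
  haveI := CohMop.nonempty_stageFT G'
  haveI := CohMop.directed_stageFT G'
  exact ⟨QCoh8.StageFT G', inferInstance, inferInstance,
    ⟨CohMop.ftDiag G' ⋙ (tsm 𝓘 h).pull, ((tsm 𝓘 h).pull.mapCocone (CohMop.ftCocone G')).ι,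
      isColimitOfPreserves _ hc⟩, fun a => isCohF_pull 𝓘 h (isCoh_stage G' a)⟩

include h𝓘 in
/-- Ind-coherent modules come from quasi-coherent modules. -/
theorem exists_qcoh_of_ind {𝔉 : FSch.ModF (FSch.completionAlong X 𝓘) h}
    (h𝔉 : IndC (isLocNoethFormal_completionAlong 𝓘 h) 𝔉) :
    ∃ G : X.Modules, Coh.IsQCoh G ∧ Nonempty ((tsm 𝓘 h).pull.obj G ≅ 𝔉) := by
  obtain ⟨I, _, _, pres, hpres⟩ := h𝔉
  let κ := (tsm 𝓘 h).pull
  haveI : PreservesColimitsOfSize.{u, u} κ := (tsm 𝓘 h).adj.leftAdjoint_preservesColimits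
  have key : ∀ i, ∃ G : X.Modules, Coh.IsCoh G ∧ Nonempty (κ.obj G ≅ pres.diag.obj i) := fun i => by
    obtain ⟨G, hG, ⟨e⟩⟩ := exists_algebraization J 𝓘 h𝓘 h (pres.diag.obj i) (hpres i) (Z := Set.univ)
      ((ClSub24.isProperOver_iff_exists _ _).2
        ⟨X, 𝟙 X, inferInstance, by simp, by rw [Category.id_comp]; infer_instance⟩)
      fun x hx => absurd (Set.mem_univ _) hx
    haveI := isIso_gam 𝓘 h hG.1
    exact ⟨G, hG.1, ⟨asIso (gam 𝓘 h G) ≪≫ e.symm⟩⟩
  choose G hG e using key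
  let e' : ∀ i, κ.obj (G i) ≅ pres.diag.obj i := fun i => (e i).some
  choose m hm using fun (i j : I) (f : i ⟶ j) =>
    (pull_map_bijective J 𝓘 h𝓘 h (hG i) (hG j)).2 ((e' i).hom ≫ pres.diag.map f ≫ (e' j).inv)
  let D : I ⥤ X.Modules :=
    { obj := G
      map := fun {i j} f => m i j f
      map_id := fun i => (pull_map_bijective J 𝓘 h𝓘 h (hG i) (hG i)).1 ((hm i i (𝟙 i)).trans
        (((congrArg (fun g => (e' i).hom ≫ g ≫ (e' i).inv) (pres.diag.map_id i)).trans
          ((congrArg ((e' i).hom ≫ ·) (Category.id_comp _)).trans (e' i).hom_inv_id)).trans (κ.map_id _).symm))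
      map_comp := fun {i j k} f g => (pull_map_bijective J 𝓘 h𝓘 h (hG i) (hG k)).1 ((hm i k (f ≫ g)).trans (by
        show _ = κ.map (m i j f ≫ m j k g)
        have a1 : κ.map (m i j f) = (e' i).hom ≫ pres.diag.map f ≫ (e' j).inv := hm i j f
        have a2 : κ.map (m j k g) = (e' j).hom ≫ pres.diag.map g ≫ (e' k).inv := hm j k g
        rw [Functor.map_comp κ, a1, a2]
        simp)) }
  let α : D ⋙ κ ≅ pres.diag := NatIso.ofComponents e' fun {i j} f => by
    show κ.map (m i j f) ≫ (e' j).hom = _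
    rw [show κ.map (m i j f) = _ from hm i j f]
    simp
  refine ⟨colimit D, M1.isQCoh_of_isColimit (fun i => (hG i).1) (colimit.isColimit D), ⟨?_⟩⟩
  exact (isColimitOfPreserves κ (colimit.isColimit D)).coconePointsIsoOfNatIso pres.isColimit α

end qc

end Groth.Agent.GExistH7
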