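import Groth.Agent.Lib.GExistH7.OpenExt
import Groth.Agent.Lib.GExistH7.ProjLift
import Groth.Agent.Lib.CohFound.ClosedImmPush
import Groth.Agent.Lib.CohFound.DevissageModel
import Groth.Agent.Lib.TensorMod.PullSupport

/-!
Existence with proper support on quasi-projective schemes.
-/

set_option autoImplicit false
set_option linter.style.haveILetI false
set_option backward.isDefEq.respectTransparency false

universe u

open CategoryTheory CategoryTheory.Limits AlgebraicGeometry Opposite TopologicalSpace

namespace Groth.Agent.GExistH7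

open Groth.Agent.FormalH7

variable {A : Type u} [CommRing A] [IsNoetherianRing A]

theorem algAll_proj (n : ℕ) (I : Ideal A) [IsAdicComplete I A] :
    AlgAll (fun M : (CohB1.ProjSpace n A).Modules => Coh.IsCoh M) I := by
  haveI : IsProper ((CohB1.ProjSpace n A) ↘ Spec (CommRingCat.of A)) := ProjSpace.isProper_toSpec n A
  exact algAll_of_lifts (X := CohB1.ProjSpace n A) (lifts_proj n A) I

/-- Pushing a system along a closed immersion reduces existence to the ambient scheme. -/
theorem algAll_closed {X Y : Scheme.{u}} [X.Over (Spec (CommRingCat.of A))] [Y.Over (Spec (CommRingCat.of A))]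
    [LocallyOfFiniteType (X ↘ Spec (CommRingCat.of A))] [LocallyOfFiniteType (Y ↘ Spec (CommRingCat.of A))]
    (k : X ⟶ Y) [IsClosedImmersion k] (hk : k ≫ (Y ↘ Spec (CommRingCat.of A)) = X ↘ Spec (CommRingCat.of A))
    (I : Ideal A) (h : AlgAll (PS A : Y.Modules → Prop) I) : AlgAll (PS A : X.Modules → Prop) I := by
  intro G hs hGP
  let F := Scheme.Modules.pushforward k
  let P := Scheme.Modules.pullback k
  let adj := Scheme.Modules.pullbackPushforwardAdjunction k
  haveI : F.IsLeftAdjoint := ClImmProj14.isLeftAdjoint_push k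
  haveI : F.Additive := adj.right_adjoint_additive
  have hsupp : ∀ N : X.Modules, CohB1.support (F.obj N) ⊆ ⇑k '' CohB1.support N := fun N y hy => by
    by_contra hc
    by_cases hr : y ∈ Set.range k
    · obtain ⟨z, rfl⟩ := hr
      refine ((M1.notMem_support_iff _ _).2 fun b => ?_) hy
      refine (CohFound.bijective_pushStalk k N z).1 ?_
      exact ((M1.notMem_support_iff N z).1 (fun hz => hc ⟨z, hz, rfl⟩) _).trans (map_zero _).symm
    · exact ((M1.notMem_support_iff _ _).2 fun b => M1.eq_zero_stalk_push k N hr b) hy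
  have hFP : ∀ N, PS A N → PS A (F.obj N) := fun N hN =>
    ⟨CohFound.isCoh_push_closedImm k hN.1, ClSub24.isProperOver_subset _ (hsupp N)
      (M1.isClosed_support (CohFound.isCoh_push_closedImm k hN.1).2)
      (ClSub24.isProperOver_image (X ↘ Spec (CommRingCat.of A)) (Y ↘ Spec (CommRingCat.of A)) k hk
        (Or.inr inferInstance) hN.2)⟩
  have hsF : IsSys I (G ⋙ F) := ⟨fun n => CohFound.isCoh_push_closedImm k (hs.coh n),
    fun n a ha => (pushforward_map_smulMod k hk _ a).symm.trans
      ((congrArg F.map (hs.killed n a ha)).trans (F.map_zero _ _)),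
    fun n => isQuot_map_of_isLeftAdjoint F (fun M a => pushforward_map_smulMod k hk M a) (hs.quot n)⟩
  obtain ⟨M, χ, hM, hq, hc⟩ := h (G ⋙ F) hsF fun n => hFP _ (hGP n)
  haveI : ∀ n, IsIso (adj.counit.app (G.obj (op n))) := fun n => CohFound.isIso_counit_closedImm k _ (hs.coh n).1
  refine ⟨P.obj M, fun n => P.map (χ n) ≫ adj.counit.app _, ⟨M1.isCoh_pullback k hM.1, ?_⟩,
    fun n => (isQuot_of_pullback k hk (hq n)).comp_iso (asIso (adj.counit.app (G.obj (op n)))), fun n => ?_⟩
  · refine ClSub24.isProperOver_subset _ ?_ (M1.isClosed_support (M1.isCoh_pullback k hM.1).2)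
      (ClSub24.isProperOver_preimage (X ↘ Spec (CommRingCat.of A)) (Y ↘ Spec (CommRingCat.of A)) k hk hM.2)
    exact (M2.support_pullback k hM.1.1 hM.1.2).le
  · rw [Category.assoc]
    erw [← adj.counit.naturality (gm G (Nat.le_succ n))]
    rw [← Category.assoc]
    exact congrArg (· ≫ _) ((P.map_comp _ _).symm.trans (congrArg P.map (hc n)))

/-- Extension by an open immersion reduces existence to a proper scheme. -/
theorem algAll_open {U Y : Scheme.{u}} [U.Over (Spec (CommRingCat.of A))] [Y.Over (Spec (CommRingCat.of A))]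
    [LocallyOfFiniteType (U ↘ Spec (CommRingCat.of A))] [IsProper (Y ↘ Spec (CommRingCat.of A))]
    (ι : U ⟶ Y) [IsOpenImmersion ι] (hι : ι ≫ (Y ↘ Spec (CommRingCat.of A)) = U ↘ Spec (CommRingCat.of A))
    (I : Ideal A) [IsAdicComplete I A] (h : AlgAll (fun M : Y.Modules => Coh.IsCoh M) I) :
    AlgAll (PS A : U.Modules → Prop) I := by
  intro G hs hGP
  let F := Scheme.Modules.pushforward ι
  let P := Scheme.Modules.pullback ι
  let adj := Scheme.Modules.pullbackPushforwardAdjunction ι
  haveI : F.Additive := adj.right_adjoint_additive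
  have hc := fun n => isCoh_pushOpen ι hι (hGP n)
  have hsF : IsSys I (G ⋙ F) := ⟨fun n => (hc n).1,
    fun n a ha => (pushforward_map_smulMod ι hι _ a).symm.trans
      ((congrArg F.map (hs.killed n a ha)).trans (F.map_zero _ _)),
    fun n => isQuot_pushOpen ι hι (hs.quot n) (hc (n + 1)).2 (hc n).2⟩
  obtain ⟨M, χ, hM, hq, hχ⟩ := h (G ⋙ F) hsF fun n => (hc n).1
  have hMP : PS A M := ⟨hM, ⟨M1.isClosed_support hM.2, inferInstance⟩⟩
  have hq0 := hq 0
  rw [zero_add, pow_one] at hq0
  have hsub : CohB1.support M ⊆ (ι.opensRange : Set Y) := by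
    refine support_subset_of_quot hMP hq0 fun y hy => ?_
    by_contra hr
    exact notMem_support_push ι (hc 0).2 (fun ⟨u, _, hu⟩ => hr ⟨u, hu⟩) hy
  refine ⟨P.obj M, fun n => P.map (χ n) ≫ adj.counit.app _, ⟨M1.isCoh_pullback ι hM, ?_⟩,
    fun n => (isQuot_of_pullback ι hι (hq n)).comp_iso (asIso (adj.counit.app (G.obj (op n)))), fun n => ?_⟩
  · obtain ⟨Z, i, hi, hpr, hr, -⟩ := PropSuppH7.exists_model _ hM.1 hM.2 hMP.2
    rw [M2.support_pullback ι hM.1 hM.2]
    let l : Z ⟶ U := IsOpenImmersion.lift ι i (hr.le.trans hsub)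
    have hl : l ≫ ι = i := IsOpenImmersion.lift_fac _ _ _
    haveI : IsClosedImmersion (l ≫ ι) := by rw [hl]; infer_instance
    haveI : IsClosedImmersion l := IsClosedImmersion.of_comp l ι
    haveI : IsProper (l ≫ (U ↘ Spec (CommRingCat.of A))) := by rw [← hι, ← Category.assoc, hl]; exact hpr
    refine LimH13.isProperOver_of_isProper _ l ?_
    rw [← hr, ← hl, Scheme.Hom.comp_base, TopCat.coe_comp, Set.range_comp,
      Set.preimage_image_eq _ ι.isOpenEmbedding.injective]
  · rw [Category.assoc]
    erw [← adj.counit.naturality (gm G (Nat.le_succ n))]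
    rw [← Category.assoc]
    exact congrArg (· ≫ _) ((P.map_comp _ _).symm.trans (congrArg P.map (hχ n)))

/-- Existence on schemes immersed in projective space. -/
theorem algAll_qproj {X : Scheme.{u}} [X.Over (Spec (CommRingCat.of A))] (n : ℕ)
    (j : X ⟶ CohB1.ProjSpace n A) [IsImmersion j]
    (hj : j ≫ CohB1.ProjSpace.toSpec n A = X ↘ Spec (CommRingCat.of A))
    (I : Ideal A) [IsAdicComplete I A] : AlgAll (PS A : X.Modules → Prop) I := by
  haveI : IsProper ((CohB1.ProjSpace n A) ↘ Spec (CommRingCat.of A)) := ProjSpace.isProper_toSpec n A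
  letI : (j.coborderRange : Scheme.{u}).Over (Spec (CommRingCat.of A)) :=
    ⟨j.coborderRange.ι ≫ CohB1.ProjSpace.toSpec n A⟩
  haveI : LocallyOfFiniteType ((CohB1.ProjSpace n A) ↘ Spec (CommRingCat.of A)) := inferInstance
  haveI : LocallyOfFiniteType ((j.coborderRange : Scheme.{u}) ↘ Spec (CommRingCat.of A)) :=
    inferInstanceAs (LocallyOfFiniteType (j.coborderRange.ι ≫ CohB1.ProjSpace.toSpec n A))
  haveI : LocallyOfFiniteType (X ↘ Spec (CommRingCat.of A)) := by rw [← hj]; infer_instance
  refine algAll_closed j.liftCoborder (by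
    rw [← hj]
    exact (Category.assoc _ _ _).symm.trans (congrArg (· ≫ _) j.liftCoborder_ι)) I ?_
  exact algAll_open j.coborderRange.ι rfl I (algAll_proj n I)

end Groth.Agent.GExistH7
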