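import Groth.Agent.Lib.GExistH7.Pieces
import Groth.Agent.Lib.GExistH7.Alpha

/-!
Restriction of systems to closed subschemes, and families into sums.
-/

set_option autoImplicit false
set_option linter.style.haveILetI false
set_option backward.isDefEq.respectTransparency false

universe u

open CategoryTheory CategoryTheory.Limits AlgebraicGeometry Opposite

namespace Groth.Agent.GExistH7

open Groth.Agent.FormalH7

variable {A : Type u} [CommRing A] {X : Scheme.{u}} [X.Over (Spec (CommRingCat.of A))]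

theorem IsFam.app_zero_of_le {I : Ideal A} {G : ℕᵒᵖ ⥤ X.Modules} {E : X.Modules}
    {b : ∀ n, G.obj (op n) ⟶ modI (I ^ (n + 1)) E} (hb : IsFam b) {U : X.Opens} {n m : ℕ} (h : n ≤ m)
    {g : Γ(G.obj (op m), U)} (hg : (b m).app U g = 0) : (b n).app U ((gm G h).app U g) = 0 := by
  induction m, h using Nat.le_induction with
  | base => rw [gm_refl]; exact hg
  | succ m h ih =>
    rw [← gm_comp G h (Nat.le_succ m)]
    refine ih ((congrArg (fun φ => φ.app U g) (hb m)).trans ?_)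
    show (tr I E m).app U ((b (m + 1)).app U g) = 0
    rw [hg, map_zero]

theorem exists_fam_biprod {I : Ideal A} {G : ℕᵒᵖ ⥤ X.Modules} {Q H : X.Modules} {T : ℕ → X.Modules}
    {τ : ∀ n, T (n + 1) ⟶ T n} {χ : ∀ n, Q ⟶ T n} (hχ : ∀ n, IsQuot (I ^ (n + 1)) (χ n))
    (hχc : ∀ n, χ (n + 1) ≫ τ n = χ n) (η : ∀ n, G.obj (op n) ⟶ T n)
    (hη : ∀ n, gm G (Nat.le_succ n) ≫ η n = η (n + 1) ≫ τ n)
    {α : ∀ n, G.obj (op n) ⟶ modI (I ^ (n + 1)) H} (hα : IsFam α) :
    ∃ (b : ∀ n, G.obj (op n) ⟶ modI (I ^ (n + 1)) (Q ⊞ H)) (p₁ : ∀ n, modI (I ^ (n + 1)) (Q ⊞ H) ⟶ T n)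
      (p₂ : ∀ n, modI (I ^ (n + 1)) (Q ⊞ H) ⟶ modI (I ^ (n + 1)) H) (u : ∀ n, T n ⟶ modI (I ^ (n + 1)) (Q ⊞ H))
      (v : ∀ n, modI (I ^ (n + 1)) H ⟶ modI (I ^ (n + 1)) (Q ⊞ H)),
      IsFam b ∧ (∀ n, b n = η n ≫ u n + α n ≫ v n) ∧ (∀ n, b n ≫ p₁ n = η n) ∧ (∀ n, b n ≫ p₂ n = α n) ∧
        ∀ n, p₁ n ≫ u n + p₂ n ≫ v n = 𝟙 _ := by
  choose u hu using fun n => (hχ n).desc_killed ((biprod.inl : Q ⟶ Q ⊞ H) ≫ modIπ (I ^ (n + 1)) (Q ⊞ H))
    (isQuot_modIπ _ _).killed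
  choose p₁ hp₁ using fun n => (isQuot_modIπ (I ^ (n + 1)) (Q ⊞ H)).desc_killed
    ((biprod.fst : Q ⊞ H ⟶ Q) ≫ χ n) (hχ n).killed
  let v : ∀ n, modI (I ^ (n + 1)) H ⟶ modI (I ^ (n + 1)) (Q ⊞ H) := fun n => modIMap _ biprod.inr
  let p₂ : ∀ n, modI (I ^ (n + 1)) (Q ⊞ H) ⟶ modI (I ^ (n + 1)) H := fun n => modIMap _ biprod.snd
  have hv : ∀ n, modIπ (I ^ (n + 1)) H ≫ v n = biprod.inr ≫ modIπ _ (Q ⊞ H) := fun n => π_modIMap _ _
  have hp₂ : ∀ n, modIπ (I ^ (n + 1)) (Q ⊞ H) ≫ p₂ n = biprod.snd ≫ modIπ _ H := fun n => π_modIMap _ _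
  have h11 : ∀ n, u n ≫ p₁ n = 𝟙 _ := fun n => (hχ n).hom_ext (by
    rw [reassoc_of% hu, hp₁, biprod.inl_fst_assoc, Category.comp_id])
  have h12 : ∀ n, u n ≫ p₂ n = 0 := fun n => (hχ n).hom_ext (by
    rw [reassoc_of% hu, hp₂, biprod.inl_snd_assoc, zero_comp, comp_zero])
  have h21 : ∀ n, v n ≫ p₁ n = 0 := fun n => (isQuot_modIπ _ H).hom_ext (by
    rw [reassoc_of% hv, hp₁, biprod.inr_fst_assoc, zero_comp, comp_zero])
  have h22 : ∀ n, v n ≫ p₂ n = 𝟙 _ := fun n => (isQuot_modIπ _ H).hom_ext (by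
    rw [reassoc_of% hv, hp₂, biprod.inr_snd_assoc, Category.comp_id])
  have hut : ∀ n, u (n + 1) ≫ tr I (Q ⊞ H) n = τ n ≫ u n := fun n => (hχ (n + 1)).hom_ext (by
    rw [reassoc_of% hu, π_tr, reassoc_of% hχc, hu])
  have hvt : ∀ n, v (n + 1) ≫ tr I (Q ⊞ H) n = tr I H n ≫ v n := fun n => (isQuot_modIπ _ H).hom_ext (by
    rw [reassoc_of% hv, π_tr, ← Category.assoc, π_tr, hv])
  refine ⟨fun n => η n ≫ u n + α n ≫ v n, p₁, p₂, u, v, fun n => ?_, fun n => rfl, fun n => ?_, fun n => ?_,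
    fun n => ?_⟩
  · simp only [Preadditive.comp_add, Preadditive.add_comp, Category.assoc]
    rw [reassoc_of% hη, ← hut, ← Category.assoc (gm G (Nat.le_succ n)), hα n, Category.assoc, ← hvt]
  · simp only [Preadditive.add_comp, Category.assoc, h11, h21, comp_zero, add_zero, Category.comp_id]
  · simp only [Preadditive.add_comp, Category.assoc, h12, h22, comp_zero, zero_add, Category.comp_id]
  · refine (isQuot_modIπ _ (Q ⊞ H)).hom_ext ?_
    rw [Preadditive.comp_add, reassoc_of% hp₁, reassoc_of% hp₂, hu, hv, ← Category.assoc, ← Category.assoc,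
      ← Preadditive.add_comp, biprod.total, Category.id_comp, Category.comp_id]

variable [IsNoetherianRing A] [LocallyOfFiniteType (X ↘ Spec (CommRingCat.of A))]

/-- A system restricted to a closed subscheme and algebraized there. -/
theorem exists_restrict_alg {I : Ideal A} (J : X.IdealSheafData)
    (hY : letI : J.subscheme.Over (Spec (CommRingCat.of A)) := ⟨J.subschemeι ≫ (X ↘ Spec (CommRingCat.of A))⟩
      AlgAll (PS A : J.subscheme.Modules → Prop) I)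
    {G : ℕᵒᵖ ⥤ X.Modules} (hG : IsSys I G) (hGP : ∀ n, PS A (G.obj (op n))) :
    ∃ (Q : X.Modules) (χ : ∀ n, Q ⟶ (Scheme.Modules.pushforward J.subschemeι).obj
        ((Scheme.Modules.pullback J.subschemeι).obj (G.obj (op n)))),
      PS A Q ∧ (∀ n, IsQuot (I ^ (n + 1)) (χ n)) ∧ ∀ n, χ (n + 1) ≫ (Scheme.Modules.pushforward J.subschemeι).map
        ((Scheme.Modules.pullback J.subschemeι).map (gm G (Nat.le_succ n))) = χ n := by
  letI : J.subscheme.Over (Spec (CommRingCat.of A)) := ⟨J.subschemeι ≫ (X ↘ Spec (CommRingCat.of A))⟩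
  haveI : LocallyOfFiniteType (J.subscheme ↘ Spec (CommRingCat.of A)) :=
    inferInstanceAs (LocallyOfFiniteType (J.subschemeι ≫ (X ↘ Spec (CommRingCat.of A))))
  haveI : IsLocallyNoetherian J.subscheme :=
    LocallyOfFiniteType.isLocallyNoetherian (J.subscheme ↘ Spec (CommRingCat.of A))
  let l := J.subschemeι
  have hl : l ≫ (X ↘ Spec (CommRingCat.of A)) = J.subscheme ↘ Spec (CommRingCat.of A) := rfl
  obtain ⟨M, χ, hM, hq, hc⟩ := hY (G ⋙ Scheme.Modules.pullback l)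
    ⟨fun n => M1.isCoh_pullback l (hG.coh n), fun n => killedBy_pullback l hl (hG.killed n),
      fun n => isQuot_of_pullback l hl (hG.quot n)⟩ (fun n => PS.pull l hl (hGP n))
  haveI : (Scheme.Modules.pushforward l).IsLeftAdjoint := ClImmProj14.isLeftAdjoint_push l
  haveI : (Scheme.Modules.pushforward l).Additive :=
    (Scheme.Modules.pullbackPushforwardAdjunction l).right_adjoint_additive
  exact ⟨(Scheme.Modules.pushforward l).obj M, fun n => (Scheme.Modules.pushforward l).map (χ n), PS.push l hl hM,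
    fun n => isQuot_map_of_isLeftAdjoint _ (fun N a => pushforward_map_smulMod l hl N a) (hq n),
    fun n => ((Scheme.Modules.pushforward l).map_comp _ _).symm.trans
      (congrArg (Scheme.Modules.pushforward l).map (hc n))⟩

/-- A system killed by an ideal sheaf is algebraized on the closed subscheme. -/
theorem exists_alg_of_killed {I : Ideal A} (J : X.IdealSheafData)
    (hY : letI : J.subscheme.Over (Spec (CommRingCat.of A)) := ⟨J.subschemeι ≫ (X ↘ Spec (CommRingCat.of A))⟩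
      AlgAll (PS A : J.subscheme.Modules → Prop) I)
    {ι : Type*} (W : ι → X.Opens) (hW : ∀ i, IsAffineOpen (W i)) (hc : ∀ x : X, ∃ i, x ∈ W i)
    {G : ℕᵒᵖ ⥤ X.Modules} (hG : IsSys I G) (hGP : ∀ n, PS A (G.obj (op n)))
    (hk : ∀ n i, ∀ r ∈ J.ideal ⟨W i, hW i⟩, ∀ s : Γ(G.obj (op n), W i), r • s = 0) :
    ∃ (M : X.Modules) (χ : ∀ n, M ⟶ G.obj (op n)), PS A M ∧ (∀ n, IsQuot (I ^ (n + 1)) (χ n)) ∧
      ∀ n, χ (n + 1) ≫ gm G (Nat.le_succ n) = χ n := by
  obtain ⟨Q, χ, hQ, hq, hcc⟩ := exists_restrict_alg J hY hG hGP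
  let η := (Scheme.Modules.pullbackPushforwardAdjunction J.subschemeι).unit
  haveI : ∀ n, IsIso (η.app (G.obj (op n))) := fun n => isIso_unit_of_killed J W hW hc _ (hG.coh n).1 (hk n)
  refine ⟨Q, fun n => χ n ≫ inv (η.app (G.obj (op n))), hQ,
    fun n => (hq n).comp_iso (asIso (η.app (G.obj (op n)))).symm, fun n => ?_⟩
  show (χ (n + 1) ≫ inv _) ≫ _ = χ n ≫ inv _
  rw [← hcc n, Category.assoc, Category.assoc]
  congr 1
  rw [IsIso.inv_comp_eq, ← Category.assoc, IsIso.eq_comp_inv]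
  exact η.naturality (gm G (Nat.le_succ n))

end Groth.Agent.GExistH7
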