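import Groth.Agent.Lib.GExistH7.Restrict
import Groth.Agent.Lib.GExistH7.LocalModel
import Groth.Agent.S0025

/-!
The inductive step of existence with proper support.
-/

set_option autoImplicit false
set_option linter.style.haveILetI false
set_option backward.isDefEq.respectTransparency false

universe u

open CategoryTheory CategoryTheory.Limits AlgebraicGeometry Opposite TopologicalSpace

namespace Groth.Agent.GExistH7

open Groth.Agent.FormalH7

variable {A : Type u} [CommRing A] {X : Scheme.{u}} [X.Over (Spec (CommRingCat.of A))]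

theorem basicOpen_le_of_mem_vanishing {U : X.Opens} {K : X.IdealSheafData} (hK : (K.support : Set X) = (U : Set X)ᶜ)
    (W : X.affineOpens) {g : Γ(X, W)} (hg : g ∈ K.ideal W) : X.basicOpen g ≤ U := by
  intro z hz
  by_contra hzU
  have h1 : z ∈ (K.support : Set X) ∩ (W : X.Opens) := ⟨hK ▸ hzU, X.basicOpen_le g hz⟩
  rw [K.coe_support_inter W] at h1
  exact (Scheme.mem_zeroLocus_iff _ _ _).1 h1.1 g hg hz

theorem isQCoh_modI {L : Ideal A} {M : X.Modules} (hM : Coh.IsQCoh M) : Coh.IsQCoh (modI L M) :=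
  M1.isQCoh_cokernel (SerreCl8.isQCoh_sigma _ fun _ => hM) hM _

variable [IsNoetherianRing A] [IsSeparated (X ↘ Spec (CommRingCat.of A))]
  [LocallyOfFiniteType (X ↘ Spec (CommRingCat.of A))] [QuasiCompact (X ↘ Spec (CommRingCat.of A))]

/-- Existence for `X` from existence on the closed subschemes inside the complement of an open over which a
quasi-projective modification is an isomorphism. -/
theorem algAll_step {x : A} [IsAdicComplete (Ideal.span {x}) A] {X' : Scheme.{u}} (π : X' ⟶ X) [IsProper π] (n : ℕ)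
    (j : X' ⟶ CohB1.ProjSpace n A) [IsImmersion j]
    (hj : j ≫ CohB1.ProjSpace.toSpec n A = π ≫ (X ↘ Spec (CommRingCat.of A)))
    (U : X.Opens) [IsIso (π ∣_ U)]
    (ih : ∀ (Y : Scheme.{u}) [Y.Over (Spec (CommRingCat.of A))] (k : Y ⟶ X) [IsClosedImmersion k],
      k ≫ (X ↘ Spec (CommRingCat.of A)) = Y ↘ Spec (CommRingCat.of A) → Set.range k ⊆ (U : Set X)ᶜ →
        AlgAll (PS A : Y.Modules → Prop) (Ideal.span {x})) :
    AlgAll (PS A : X.Modules → Prop) (Ideal.span {x}) := by
  letI : X'.Over (Spec (CommRingCat.of A)) := ⟨π ≫ (X ↘ Spec (CommRingCat.of A))⟩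
  have hπ : π ≫ (X ↘ Spec (CommRingCat.of A)) = X' ↘ Spec (CommRingCat.of A) := rfl
  haveI : LocallyOfFiniteType (X' ↘ Spec (CommRingCat.of A)) :=
    inferInstanceAs (LocallyOfFiniteType (π ≫ (X ↘ Spec (CommRingCat.of A))))
  haveI : IsLocallyNoetherian X := LocallyOfFiniteType.isLocallyNoetherian (X ↘ Spec (CommRingCat.of A))
  haveI : CompactSpace X := QuasiCompact.compactSpace_of_compactSpace (X ↘ Spec (CommRingCat.of A))
  haveI : IsLocallyNoetherian X' := LocallyOfFiniteType.isLocallyNoetherian π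
  haveI : CompactSpace X' := QuasiCompact.compactSpace_of_compactSpace π
  haveI : IsNoetherian X := ⟨⟩
  haveI : IsNoetherian X' := ⟨⟩
  intro G hG hGP
  -- the algebraization upstairs
  obtain ⟨F, χ'', hF, hq'', hqc''⟩ := algAll_qproj n j hj (Ideal.span {x}) (G ⋙ Scheme.Modules.pullback π)
    ⟨fun m => M1.isCoh_pullback π (hG.coh m), fun m => killedBy_pullback π hπ (hG.killed m),
      fun m => isQuot_of_pullback π hπ (hG.quot m)⟩ (fun m => PS.pull π hπ (hGP m))
  let χ' : ∀ m, F ⟶ (Scheme.Modules.pullback π).obj (G.obj (op m)) := χ''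
  have hq : ∀ m, IsQuot (Ideal.span {x} ^ (m + 1)) (χ' m) := hq''
  have hqc : ∀ m, χ' (m + 1) ≫ (Scheme.Modules.pullback π).map (gm G (Nat.le_succ m)) = χ' m := hqc''
  have hc : ∀ a b (h : a ≤ b), χ' b ≫ (Scheme.Modules.pullback π).map (gm G h) = χ' a := by
    intro a b h
    induction b, h using Nat.le_induction with
    | base =>
      rw [gm_refl, CategoryTheory.Functor.map_id]
      exact Category.comp_id _
    | succ b h ih =>
      rw [← gm_comp G h (Nat.le_succ b), Functor.map_comp, ← Category.assoc]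
      exact (congrArg (· ≫ _) (hqc b)).trans ih
  let H := (Scheme.Modules.pushforward π).obj F
  have hH : PS A H := PS.push π hπ hF
  -- the bad locus
  let K : X.IdealSheafData := Scheme.IdealSheafData.vanishingIdeal ⟨(U : Set X)ᶜ, U.2.isClosed_compl⟩
  have hKsupp : (K.support : Set X) = (U : Set X)ᶜ := Scheme.IdealSheafData.coe_support_vanishingIdeal _
  have hKpow : ∀ e : ℕ, letI : (K ^ (e + 1)).subscheme.Over (Spec (CommRingCat.of A)) :=
      ⟨(K ^ (e + 1)).subschemeι ≫ (X ↘ Spec (CommRingCat.of A))⟩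
      AlgAll (PS A : (K ^ (e + 1)).subscheme.Modules → Prop) (Ideal.span {x}) := fun e => by
    letI : (K ^ (e + 1)).subscheme.Over (Spec (CommRingCat.of A)) :=
      ⟨(K ^ (e + 1)).subschemeι ≫ (X ↘ Spec (CommRingCat.of A))⟩
    refine ih _ (K ^ (e + 1)).subschemeι rfl ?_
    rw [Scheme.IdealSheafData.range_subschemeι, Scheme.IdealSheafData.support_pow_succ, hKsupp]
  -- an affine cover with its local models
  obtain ⟨s, hs⟩ := CompactSpace.isCompact_univ (X := X) |>.elim_finite_subcover
    (fun W : X.affineOpens => ((W : X.Opens) : Set X)) (fun W => W.1.2) (fun z _ => by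
      obtain ⟨W, hW, hzW, -⟩ := exists_isAffineOpen_mem_and_subset (x := z) (U := ⊤) trivial
      exact Set.mem_iUnion.2 ⟨⟨W, hW⟩, hzW⟩)
  let W : s → X.Opens := fun i => (i.1 : X.Opens)
  have hW : ∀ i, IsAffineOpen (W i) := fun i => i.1.2
  have hcov : ∀ z : X, ∃ i, z ∈ W i := fun z => by
    obtain ⟨i, hi, hz⟩ := Set.mem_iUnion₂.1 (hs (Set.mem_univ z))
    exact ⟨⟨i, hi⟩, hz⟩
  have hL : ∀ i, Nonempty (LocModel π x G F χ' (W i) (K.ideal ⟨W i, hW i⟩ : Set Γ(X, W i))) := fun i =>
    exists_locModel_affine hπ hG hF.1 χ' hq hc (hW i) _ fun g hg => by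
      exact isIso_restrict_le π U _ (basicOpen_le_of_mem_vanishing hKsupp _ hg)
  let L := fun i => (hL i).some
  have hfac : ∀ m, (Scheme.Modules.pullbackPushforwardAdjunction π).unit.app (G.obj (op m)) ≫
      cokernel.π ((Scheme.Modules.pushforward π).map (χ' m)) = 0 := fun m => by
    refine hom_eq_zero_of_cover W hW hcov (hG.coh m).1 _ fun i g => ?_
    obtain ⟨η, hη⟩ := (L i).exists_eq m g
    show (cokernel.π ((Scheme.Modules.pushforward π).map (χ' m))).app (W i) (((Scheme.Modules.pullbackPushforwardAdjunction π).unit.app _).app (W i) g) = 0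
    rw [← hη]
    exact congrArg (fun φ : (Scheme.Modules.pushforward π).obj F ⟶ _ => φ.app (W i) η) (cokernel.condition _)
  obtain ⟨α, c, hα, hαc⟩ := exists_alpha π hπ hG stat_isCoh hF.1 χ' hq hc hfac
  choose e he m₀ hm₀ using fun i => (L i).exists_bounds (hW i) hH.1.1 hαc
  simp only [Ideal.span_eq] at he hm₀
  let m : ℕ := Finset.univ.sup m₀ + 1
  choose d hd using fun i => hm₀ i m ((Finset.le_sup (Finset.mem_univ i)).trans (Nat.le_succ _))
  let D : ℕ := Finset.univ.sup d
  let N : ℕ := m + Finset.univ.sup e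
  -- the restriction to the thickened bad locus
  obtain ⟨Q, χQ, hQ, hχQ, hχQc⟩ := exists_restrict_alg (K ^ m) (hKpow (Finset.univ.sup m₀)) hG hGP
  let η := (Scheme.Modules.pullbackPushforwardAdjunction (K ^ m).subschemeι).unit
  obtain ⟨b, p₁, p₂, u, v, hb, hbe, hb₁, hb₂, hid⟩ := exists_fam_biprod hχQ hχQc (fun k => η.app (G.obj (op k)))
    (fun k => η.naturality (gm G (Nat.le_succ k))) hα
  have hE : PS A (Q ⊞ H) := PS.biprod hQ hH
  refine algebraizable_of_fam isClass_PS ?_ (fFaith_PS _) (fun L p hp hM => PS.of_quot p hp hM) hG hGP hE b hb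
    (fun k => ?_) fun vv hvv hvs hvP => ?_
  · intro M hM T w hT hw
    exact stat_isCoh M hM.1 T w (fun i => (hT i).1) hw
  · refine ⟨k + D, Nat.le_add_right k D, hom_eq_zero_of_cover W hW hcov
      (M1.isQCoh_kernel (hG.coh _).1 (isQCoh_modI hE.1.1) _) _ fun i t => ?_⟩
    let g : Γ(G.obj (op (k + D)), W i) := (kernel.ι (b (k + D))).app (W i) t
    have hg : (b (k + D)).app (W i) g = 0 :=
      congrArg (fun φ : kernel (b (k + D)) ⟶ _ => φ.app (W i) t) (kernel.condition (b (k + D)))
    have hg1 : (η.app (G.obj (op (k + D)))).app (W i) g = 0 := by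
      rw [← hb₁]
      exact (congrArg ((p₁ (k + D)).app (W i)) hg).trans (map_zero _)
    have hg2 : (α (k + D)).app (W i) g = 0 := by
      rw [← hb₂]
      exact (congrArg ((p₂ (k + D)).app (W i)) hg).trans (map_zero _)
    have hdD : k + d i ≤ k + D := by have := Finset.le_sup (f := d) (Finset.mem_univ i); omega
    haveI := (hG.coh (k + D)).1
    have h1 := app_mem_smul (gm G hdD) _ ((unit_closed_app (K ^ m) (G.obj (op (k + D))) (hW i)).2 g hg1)
    have h2 := hd i k _ (by simpa using h1) (hα.app_zero_of_le hdD hg2)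
    show (gm G (Nat.le_add_right k D)).app (W i) g = 0
    rw [← gm_comp G (Nat.le_add_right k (d i)) hdD]
    exact h2
  · have hk : ∀ k i, ∀ r ∈ (K ^ N).ideal ⟨W i, hW i⟩, ∀ t : Γ(cokernel (b k), W i), r • t = 0 := by
      intro k i r hr t
      obtain ⟨w, rfl⟩ := M1.app_surjective_affine_of_isQCoh (isQCoh_modI hE.1.1) (hvP k).1.1 (cokernel.π (b k))
        (hW i) t
      have hcond : ∀ g, (cokernel.π (b k)).app (W i) ((b k).app (W i) g) = 0 := fun g =>
        congrArg (fun φ : G.obj (op k) ⟶ _ => φ.app (W i) g) (cokernel.condition (b k))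
      have hbapp : ∀ g, (b k).app (W i) g = (u k).app (W i) ((η.app (G.obj (op k))).app (W i) g) +
          (v k).app (W i) ((α k).app (W i) g) := fun g => congrArg (fun φ => φ.app (W i) g) (hbe k)
      haveI := (hG.coh k).1
      obtain ⟨g₀, hg₀⟩ := (unit_closed_app (K ^ m) (G.obj (op k)) (hW i)).1 ((p₁ k).app (W i) w)
      have hw : w = (b k).app (W i) g₀ + (v k).app (W i) ((p₂ k).app (W i) w - (α k).app (W i) g₀) := by
        have h := congrArg (fun φ => φ.app (W i) w) (hid k)
        rw [hbapp, hg₀, map_sub]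
        refine h.symm.trans ?_
        show (u k).app (W i) ((p₁ k).app (W i) w) + (v k).app (W i) ((p₂ k).app (W i) w) = _
        abel
      rw [hw, map_add, hcond, zero_add]
      generalize (p₂ k).app (W i) w - (α k).app (W i) g₀ = z
      rw [Scheme.IdealSheafData.ideal_pow, Pi.pow_apply, pow_add] at hr
      refine Submodule.mul_induction_on hr (fun r₁ hr₁ r₂ hr₂ => ?_) fun a a' ha ha' => by
        rw [add_smul, ha, ha', add_zero]
      have hr₂' : r₂ ∈ K.ideal ⟨W i, hW i⟩ ^ e i :=
        Ideal.pow_le_pow_right (Finset.le_sup (f := e) (Finset.mem_univ i)) hr₂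
      obtain ⟨z₀, rfl⟩ := M1.app_surjective_affine_of_isQCoh hH.1.1 (isQCoh_modI hH.1.1)
        (modIπ (Ideal.span {x} ^ (k + 1)) H) (hW i) z
      obtain ⟨g₁, hg₁⟩ := he i k r₂ hr₂' z₀
      have hη0 : (η.app (G.obj (op k))).app (W i) (r₁ • g₁) = 0 := by
        rw [Scheme.Modules.Hom.app_smul]
        exact smul_push_eq_zero (K ^ m) _ (hW i) (by simpa using hr₁) _
      have := hcond (r₁ • g₁)
      rw [hbapp, hη0, map_zero, zero_add, Scheme.Modules.Hom.app_smul, hg₁, smul_smul, Scheme.Modules.Hom.app_smul,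
        Scheme.Modules.Hom.app_smul] at this
      exact this
    obtain ⟨C, χC, hC, hqC, hcC⟩ := exists_alg_of_killed (K ^ N) (by
      have h := hKpow (Finset.univ.sup m₀ + Finset.univ.sup e)
      rwa [show Finset.univ.sup m₀ + Finset.univ.sup e + 1 = N by simp only [N, m]; omega] at h) W hW hcov hvs hvP
      hk
    exact ⟨C, χC, hC, hqC,
      fun k => (congrArg (χC (k + 1) ≫ ·) (gm_ofOpSequence (M := fun n => cokernel (b n)) vv k).symm).trans (hcC k)⟩

end Groth.Agent.GExistH7
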