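import Groth.Agent.Lib.GExistH7.PrincipalMain
import Mathlib.RingTheory.Ideal.Operations

/-!
Existence for `J + (x)` from existence for `J` and for `(x)`.
-/

set_option autoImplicit false
set_option linter.style.haveILetI false
set_option backward.isDefEq.respectTransparency false

universe u

open CategoryTheory CategoryTheory.Limits AlgebraicGeometry Opposite

namespace Groth.Agent.GExistH7

open Groth.Agent.FormalH7

variable {A : Type u} [CommRing A] {X : Scheme.{u}} [X.Over (Spec (CommRingCat.of A))]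

/-- All coherent systems in the class are algebraizable within it. -/
def AlgAll (P : X.Modules → Prop) (I : Ideal A) : Prop :=
  ∀ G : ℕᵒᵖ ⥤ X.Modules, IsSys I G → (∀ n, P (G.obj (op n))) →
    ∃ (M : X.Modules) (χ : ∀ n, M ⟶ G.obj (op n)), P M ∧ (∀ n, IsQuot (I ^ (n + 1)) (χ n)) ∧
      ∀ n, χ (n + 1) ≫ gm G (Nat.le_succ n) = χ n

theorem algAll_bot (P : X.Modules → Prop) : AlgAll P (⊥ : Ideal A) := by
  intro G hG hP
  have h0 : ∀ n, Formal.KilledBy (⊥ : Ideal A) (G.obj (op n)) := fun n a ha => by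
    rw [Ideal.mem_bot.1 ha, smulMod_zero]
  have hle : ∀ n : ℕ, ((⊥ : Ideal A) ^ (n + 1)) = ⊥ := fun n => by rw [pow_succ, Ideal.mul_bot]
  have hi : ∀ n, IsIso (gm G (Nat.zero_le n)) := fun n => by
    have := hG.quot_gm (Nat.zero_le n)
    rw [hle] at this
    exact this.isIso_of_killed (h0 n)
  refine ⟨G.obj (op 0), fun n => inv (gm G (Nat.zero_le n)), hP 0, fun n => ?_, fun n => ?_⟩
  · refine ⟨inferInstance, fun a ha => ?_, fun φ _ => ⟨gm G (Nat.zero_le n) ≫ φ, by simp⟩⟩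
    rw [hle] at ha
    rw [h0 0 a ha, zero_comp]
  · rw [IsIso.inv_comp_eq, ← gm_comp G (Nat.zero_le n) (Nat.le_succ n)]
    simp

theorem sup_pow_le (J K : Ideal A) (a b : ℕ) : (J ⊔ K) ^ (a + b) ≤ J ^ a ⊔ K ^ b :=
  Ideal.sup_pow_add_le_pow_sup_pow

/-- Gluing two directions. -/
theorem algAll_sup {x : A} {J : Ideal A} {P : X.Modules → Prop}
    (hP : ∀ {M N : X.Modules} (L : Ideal A) (p : M ⟶ N), IsQuot L p → P M → P N)
    (hcoh : ∀ M, P M → Coh.IsCoh M)
    (hJ : AlgAll P J) (hFJ : FFaith P J) (hx : AlgAll P (Ideal.span {x})) :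
    AlgAll P (J ⊔ Ideal.span {x}) := by
  intro G hG hGP
  set I := J ⊔ Ideal.span {x} with hI
  let L : ℕ → ℕ → Ideal A := fun k n => Ideal.span {x} ^ (k + 1) ⊔ J ^ (n + 1)
  let m : ℕ → ℕ → ℕ := fun k n => n + k + 2
  have hm : ∀ k n j, m k n ≤ j → I ^ (j + 1) ≤ L k n := fun k n j hj =>
    ((Ideal.pow_le_pow_right (I := I) (show (n + 1) + (k + 1) ≤ j + 1 by simp only [m] at hj; omega)).trans
      (sup_pow_le J _ (n + 1) (k + 1))).trans (sup_comm _ _).le
  have hLI : ∀ n, L n n ≤ I ^ (n + 1) := fun n =>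
    sup_le (Ideal.pow_right_mono le_sup_right _) (Ideal.pow_right_mono le_sup_left _)
  let Q : ℕ → ℕ → X.Modules := fun k n => modI (L k n) (G.obj (op (m k n)))
  let pr : ∀ k n j (h : m k n ≤ j), G.obj (op j) ⟶ Q k n := fun k n j h => gm G h ≫ modIπ _ _
  have hprc : ∀ k n j j' (h : m k n ≤ j) (h' : j ≤ j'), gm G h' ≫ pr k n j h = pr k n j' (h.trans h') :=
    fun k n j j' h h' => gm_comp_assoc G h h' _
  have hpr : ∀ k n j (h : m k n ≤ j), IsQuot (L k n) (pr k n j h) := fun k n j h => by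
    refine ((hG.quot_gm h).trans_sup (isQuot_modIπ _ _)).of_le (sup_le (hm k n _ le_rfl) le_rfl) ?_
    exact (isQuot_modIπ _ _).killed
  have hQP : ∀ k n, P (Q k n) := fun k n => hP _ _ (isQuot_modIπ _ _) (hGP _)
  have hmap : ∀ k n k' n', L k n ≤ L k' n' → ∀ j (h : m k n ≤ j) (h' : m k' n' ≤ j),
      ∃ s : Q k n ⟶ Q k' n', pr k n j h ≫ s = pr k' n' j h' ∧ IsQuot (L k' n') s := by
    intro k n k' n' hL j h h'
    obtain ⟨s, hs⟩ := (hpr k n j h).desc _ fun a ha => (hpr k' n' j h').smul a (hL ha)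
    haveI := (hpr k n j h).epi
    exact ⟨s, hs, IsQuot.of_comp (p := pr k n j h) ((hpr k' n' j h').of_eq hs.symm)⟩
  have hH : ∀ k n, ∃ s : Q k (n + 1) ⟶ Q k n,
      pr k (n + 1) _ le_rfl ≫ s = pr k n (m k (n + 1)) (by simp only [m]; omega) ∧ IsQuot (J ^ (n + 1)) s := by
    intro k n
    obtain ⟨s, hs, hq⟩ := hmap k (n + 1) k n (sup_le_sup_left (Ideal.pow_le_pow_right (Nat.le_succ _)) _)
      (m k (n + 1)) le_rfl (by simp only [m]; omega)
    exact ⟨s, hs, hq.of_killed (killedBy_mono le_sup_left (hpr k (n + 1) _ le_rfl).killed)⟩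
  choose s hs hsq using hH
  have hsys : ∀ k, IsSys J (Functor.ofOpSequence (X := Q k) (s k)) := fun k =>
    isSys_ofOpSequence (s k) (fun n => hcoh _ (hQP k n))
      (fun n => killedBy_mono le_sup_right (isQuot_modIπ (L k n) _).killed) (hsq k)
  choose M χ hMP hχq hχc using fun k => hJ _ (hsys k) (hQP k)
  have hχc' : ∀ k n, χ k (n + 1) ≫ s k n = χ k n := fun k n => by
    have := hχc k n
    rwa [gm_ofOpSequence] at this
  have hMkill : ∀ k, Formal.smulMod A (M k) (x ^ (k + 1)) = 0 := fun k => by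
    refine hFJ.hom_ext (hMP k) (hMP k) (hχq k) fun n => ?_
    rw [zero_comp, smulMod_naturality]
    erw [(isQuot_modIπ (L k n) (G.obj (op (m k n)))).killed _ (Submodule.mem_sup_left (mem_span_pow x (k + 1)))]
    rw [comp_zero]
  have hT : ∀ k n, ∃ v : Q (k + 1) n ⟶ Q k n,
      pr (k + 1) n _ le_rfl ≫ v = pr k n (m (k + 1) n) (by simp only [m]; omega) ∧ IsQuot (L k n) v := fun k n =>
    hmap (k + 1) n k n (sup_le_sup_right (Ideal.pow_le_pow_right (Nat.le_succ _)) _) _ le_rfl _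
  choose v hv hvq using hT
  have hvs : ∀ k n, v k (n + 1) ≫ s k n = s (k + 1) n ≫ v k n := fun k n => by
    refine (hpr (k + 1) (n + 1) _ le_rfl).hom_ext ?_
    rw [reassoc_of% (hv k (n + 1)), reassoc_of% (hs (k + 1) n),
      ← hprc k (n + 1) _ (m (k + 1) (n + 1)) le_rfl (by simp only [m]; omega), Category.assoc, hs, hprc,
      ← hprc (k + 1) n _ (m (k + 1) (n + 1)) le_rfl (by simp only [m]; omega), Category.assoc, hv, hprc]
  choose t ht using fun k => hFJ.exists_lift (hMP (k + 1)) (hMP k) (hχq k) (s k) (hχc' k)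
    (fun n => χ (k + 1) n ≫ v k n) fun n => by rw [Category.assoc, hvs, reassoc_of% (hχc' (k + 1) n)]
  have hMq : ∀ k, IsQuot (Ideal.span {x} ^ (k + 1)) (t k) := by
    intro k
    obtain ⟨r, hr⟩ := (isQuot_modIπ (Ideal.span {x} ^ (k + 1)) (M (k + 1))).desc (t k) fun a ha => by
      rw [smulMod_naturality, killedBy_span_pow (hMkill k) a ha, comp_zero]
    let C := modI (Ideal.span {x} ^ (k + 1)) (M (k + 1))
    let C' : ℕ → X.Modules := fun n => modI (J ^ (n + 1)) C
    have hCP : P C := hP _ _ (isQuot_modIπ _ _) (hMP _)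
    have hc1 : ∀ n, IsQuot (L k n) (modIπ _ (M (k + 1)) ≫ modIπ (J ^ (n + 1)) C) := fun n =>
      (isQuot_modIπ _ _).trans_sup (isQuot_modIπ _ _)
    have hc2 : ∀ n, IsQuot (L k n) (χ (k + 1) n ≫ v k n) := fun n => by
      refine ((hχq (k + 1) n).trans_sup (hvq k n)).of_le (sup_le le_sup_right le_rfl) ?_
      exact (isQuot_modIπ _ _).killed
    choose e he using fun n => (hc2 n).exists_iso (hc1 n)
    choose w hw using fun n => (isQuot_modIπ (J ^ (n + 1 + 1)) C).desc_killed (modIπ (J ^ (n + 1)) C)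
      (killedBy_mono (Ideal.pow_le_pow_right (Nat.le_succ _)) (isQuot_modIπ _ _).killed)
    have hew : ∀ n, (e (n + 1)).hom ≫ w n = s k n ≫ (e n).hom := fun n => by
      refine (hc2 (n + 1)).hom_ext ?_
      rw [← Category.assoc _ (e (n + 1)).hom, he (n + 1), Category.assoc, hw, ← he n]
      simp only [Category.assoc]
      rw [reassoc_of% (hvs k n), reassoc_of% (hχc' (k + 1) n)]
    obtain ⟨r', hr'⟩ := hFJ.exists_lift (hMP k) hCP (fun n => isQuot_modIπ (J ^ (n + 1)) C) w hw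
      (fun n => χ k n ≫ (e n).hom) fun n => by rw [Category.assoc, hew, reassoc_of% (hχc' k n)]
    have h1 : r ≫ r' = 𝟙 C := by
      refine hFJ.hom_ext hCP hCP (fun n => isQuot_modIπ (J ^ (n + 1)) C) fun n => ?_
      rw [Category.assoc, hr', Category.id_comp]
      refine (isQuot_modIπ _ (M (k + 1))).hom_ext ?_
      rw [reassoc_of% hr, reassoc_of% (ht k n)]
      exact (Category.assoc _ _ _).symm.trans (he n)
    have h2 : r' ≫ r = 𝟙 _ := by
      refine hFJ.hom_ext (hMP k) (hMP k) (hχq k) fun n => ?_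
      have hrn : r ≫ χ k n = modIπ (J ^ (n + 1)) C ≫ (e n).inv := by
        refine (isQuot_modIπ _ (M (k + 1))).hom_ext ?_
        rw [reassoc_of% hr, ht, ← Category.assoc, ← he n, Category.assoc, Iso.hom_inv_id, Category.comp_id]
      rw [Category.assoc, hrn, reassoc_of% (hr' n), Iso.hom_inv_id, Category.comp_id, Category.id_comp]
    exact ((isQuot_modIπ _ (M (k + 1))).comp_iso ⟨r, r', h1, h2⟩).of_eq hr
  obtain ⟨N, ω, hNP, hωq, hωc⟩ := hx (Functor.ofOpSequence (X := M) t)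
    (isSys_ofOpSequence t (fun k => hcoh _ (hMP k)) (fun k => killedBy_span_pow (hMkill k)) hMq) hMP
  have hωc' : ∀ k, ω (k + 1) ≫ t k = ω k := fun k => by
    have := hωc k
    rwa [gm_ofOpSequence] at this
  have hnm : ∀ n, n ≤ m n n := fun n => by simp only [m]; omega
  have hB : ∀ n, ∃ b : Q n n ⟶ G.obj (op n), pr n n _ le_rfl ≫ b = gm G (hnm n) ∧ IsQuot (I ^ (n + 1)) b := by
    intro n
    obtain ⟨b, hb⟩ := (hpr n n _ le_rfl).desc (gm G (hnm n)) fun a ha => (hG.quot_gm (hnm n)).smul a (hLI n ha)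
    haveI := (hpr n n _ le_rfl).epi
    exact ⟨b, hb, IsQuot.of_comp (p := pr n n _ le_rfl) ((hG.quot_gm (hnm n)).of_eq hb.symm)⟩
  choose b hb hbq using hB
  refine ⟨N, fun n => ω n ≫ χ n n ≫ b n, hNP, fun n => ?_, fun n => ?_⟩
  · refine ((hωq n).trans_sup ((hχq n n).trans_sup (hbq n))).of_le ?_ (hG.killed n)
    exact sup_le (Ideal.pow_right_mono le_sup_right _)
      (sup_le (Ideal.pow_right_mono le_sup_left _) le_rfl)
  · have key : b (n + 1) ≫ gm G (Nat.le_succ n) = v n (n + 1) ≫ s n n ≫ b n := by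
      refine (hpr (n + 1) (n + 1) _ le_rfl).hom_ext ?_
      have h1 : m n n ≤ m (n + 1) (n + 1) := by simp only [m]; omega
      rw [reassoc_of% (hb (n + 1)), gm_comp, reassoc_of% (hv n (n + 1)),
        ← hprc n (n + 1) _ (m (n + 1) (n + 1)) le_rfl (by simp only [m]; omega), Category.assoc,
        reassoc_of% (hs n n), ← hprc n n (m n n) (m n (n + 1)) le_rfl (by simp only [m]; omega),
        Category.assoc, hb, gm_comp, gm_comp]
    show (ω (n + 1) ≫ χ (n + 1) (n + 1) ≫ b (n + 1)) ≫ gm G (Nat.le_succ n) = _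
    rw [Category.assoc, Category.assoc, key, ← reassoc_of% (ht n (n + 1)), reassoc_of% (hχc' n n),
      reassoc_of% (hωc' n)]

end Groth.Agent.GExistH7
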